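import Cfsg.Agent.FusionSys.Saturated

/-!
The fusion system of a finite group on a Sylow subgroup: the Sylow descriptions of fully normalized and
fully centralized subgroups, and saturation.
-/

set_option autoImplicit false

namespace Cfsg.Agent.FusionSys

open Cfsg Cfsg.FusionSystem Set

section SylowFacts

variable {X : Type*} [Group X]

theorem card_mul_relIndex {H K : Subgroup X} (h : H ≤ K) :
    Nat.card H * H.relIndex K = Nat.card K := by
  rw [← Subgroup.relIndex_bot_left, ← Subgroup.relIndex_bot_left,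
    Subgroup.relIndex_mul_relIndex _ _ _ bot_le h]

theorem relIndex_sup_of_normal [Finite X] (R K : Subgroup X) [K.Normal] :
    R.relIndex (R ⊔ K) = R.relIndex K := by
  have h1 := card_mul_relIndex (le_sup_left : R ≤ R ⊔ K)
  have h2 := card_mul_relIndex (le_sup_right : K ≤ R ⊔ K)
  have h3 := card_mul_relIndex (inf_le_left : R ⊓ K ≤ R)
  have h4 := card_mul_relIndex (inf_le_right : R ⊓ K ≤ K)
  rw [Subgroup.relIndex_sup_right] at h2
  rw [Subgroup.inf_relIndex_left] at h3
  rw [Subgroup.inf_relIndex_right] at h4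
  refine Nat.eq_of_mul_eq_mul_left (Nat.card_pos (α := R)) ?_
  rw [h1, ← h2, ← h3, ← h4]
  ring

theorem not_dvd_relIndex_of_normal [Finite X] {p : ℕ} (R K : Subgroup X) [K.Normal]
    (h : ¬ p ∣ R.index) : ¬ p ∣ R.relIndex K := fun hd => h <| by
  rw [← Subgroup.relIndex_mul_index (le_sup_left : R ≤ R ⊔ K), relIndex_sup_of_normal]
  exact dvd_mul_of_dvd_left hd _

/-- If `T` is a `p`-subgroup of `RK` with `K` normal and `R` a `p`-subgroup of index prime to `p`, an
element of `K` conjugates `T` into `R`. -/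
theorem exists_conj_le_of_normal [Finite X] {p : ℕ} [Fact p.Prime] {R K T : Subgroup X} [K.Normal]
    (hR : IsPGroup p R) (hRi : ¬ p ∣ R.index) (hT : IsPGroup p T) (hTle : T ≤ R ⊔ K) :
    ∃ c ∈ K, ∀ t ∈ T, c * t * c⁻¹ ∈ R := by
  have hi : ¬ p ∣ (R.subgroupOf (R ⊔ K)).index := by
    show ¬ p ∣ R.relIndex (R ⊔ K)
    rw [relIndex_sup_of_normal]
    exact not_dvd_relIndex_of_normal R K hRi
  obtain ⟨T', hT'⟩ := (hT.of_equiv (Subgroup.subgroupOfEquivOfLe hTle).symm).exists_le_sylow
  obtain ⟨u, hu⟩ := MulAction.exists_smul_eq ↥(R ⊔ K) T'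
    ((hR.of_equiv (Subgroup.subgroupOfEquivOfLe (le_sup_left : R ≤ R ⊔ K)).symm).toSylow hi)
  have hconj : ∀ t ∈ T, (u : X) * t * (u : X)⁻¹ ∈ R := by
    intro t ht
    have : u * ⟨t, hTle ht⟩ * u⁻¹ ∈ ((u • T' : Sylow p ↥(R ⊔ K)) : Subgroup ↥(R ⊔ K)) := by
      rw [Sylow.coe_subgroup_smul]
      exact ⟨_, hT' (show (⟨t, hTle ht⟩ : ↥(R ⊔ K)) ∈ T.subgroupOf (R ⊔ K) from ht), rfl⟩
    rw [hu] at this
    exact this
  obtain ⟨r, hr, c, hc, hrc⟩ := Subgroup.mem_sup_of_normal_right.1 u.2
  refine ⟨c, hc, fun t ht => ?_⟩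
  have := R.mul_mem (R.mul_mem (R.inv_mem hr) (hconj t ht)) hr
  rw [← hrc] at this
  simpa [mul_assoc] using this

end SylowFacts

variable {G : Type*} [Group G] {S P Q : Subgroup G}

theorem normalizerIn_le_normalizer (S P : Subgroup G) :
    normalizerIn S P ≤ Subgroup.normalizer (P : Set G) := inf_le_right

theorem centralizerIn_le_centralizer (S P : Subgroup G) :
    centralizerIn S P ≤ Subgroup.centralizer (P : Set G) := inf_le_right

theorem isConj_group_iff :
    (groupFusionSystem S).IsConj P Q ↔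
      P ≤ S ∧ Q ≤ S ∧ ∃ g : G, P.map (MulAut.conj g).toMonoidHom = Q := by
  constructor
  · intro h
    obtain ⟨f, hf⟩ := isConj_iff.1 h
    obtain ⟨hP, a, ha⟩ := isMap_group_iff.1 hf.isMap
    refine ⟨hP, hf.target_le, a, SetLike.coe_injective ?_⟩
    rw [← hf.image_eq, Subgroup.coe_map]
    exact Set.image_congr fun x hx => (ha x hx).2.symm
  · rintro ⟨hP, hQ, a, rfl⟩
    refine isConj_iff.2 ⟨conjMap a, isMap_group_iff.2 ⟨hP, a, fun x hx => ⟨hQ ⟨x, hx, rfl⟩, rfl⟩⟩, ?_⟩
    rw [Subgroup.coe_map]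
    rfl

theorem autGroup_group (hP : P ≤ S) :
    (groupFusionSystem S).autGroup P = autInducedBy ⊤ P := by
  ext α
  rw [mem_autGroup_iff hP, isMap_group_iff]
  constructor
  · rintro ⟨-, a, ha⟩
    refine Subgroup.subset_closure ⟨a, Subgroup.mem_top a, fun x => ?_⟩
    rw [← autMap_coe]
    exact (ha x x.2).2
  · intro h
    obtain ⟨a, -, han, rfl⟩ := mem_autInducedBy.1 h
    exact ⟨hP, a, fun x hx => ⟨hP ((Subgroup.mem_normalizer_iff.1 han x).1 hx),
      autMap_conjAut han hx⟩⟩

theorem range_conjAutHom (P : Subgroup G) : (conjAutHom P).range = autInducedBy ⊤ P := by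
  ext α
  rw [mem_autInducedBy]
  exact ⟨fun ⟨⟨x, hx⟩, he⟩ => ⟨x, Subgroup.mem_top _, hx, he.symm⟩,
    fun ⟨x, _, hx, he⟩ => ⟨⟨x, hx⟩, he.symm⟩⟩

instance centralizer_normal_in_normalizer (P : Subgroup G) :
    ((Subgroup.centralizer (P : Set G)).subgroupOf (Subgroup.normalizer (P : Set G))).Normal where
  conj_mem c hc a := by
    rw [Subgroup.mem_subgroupOf, Subgroup.mem_centralizer_iff] at hc ⊢
    intro y hy
    have hy' : (a : G)⁻¹ * y * a ∈ P := by
      simpa using (Subgroup.mem_normalizer_iff.1 (inv_mem a.2) y).1 hy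
    have := hc _ hy'
    show y * ((a : G) * c * (a : G)⁻¹) = (a : G) * c * (a : G)⁻¹ * y
    calc y * ((a : G) * c * (a : G)⁻¹) = a * ((a : G)⁻¹ * y * a * c) * (a : G)⁻¹ := by group
      _ = (a : G) * c * (a : G)⁻¹ * y := by rw [this]; group

theorem centralizer_le_normalizer' (P : Subgroup G) :
    Subgroup.centralizer (P : Set G) ≤ Subgroup.normalizer (P : Set G) := fun x hx => by
  refine Subgroup.mem_normalizer_iff.2 fun y => ⟨fun hy => ?_, fun hy => ?_⟩
  · rw [← Subgroup.mem_centralizer_iff.1 hx y hy, mul_inv_cancel_right]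
    exact hy
  · have : x * y * x⁻¹ = y :=
      mul_left_cancel (a := x) (by simpa using (Subgroup.mem_centralizer_iff.1 hx _ hy).symm)
    exact this ▸ hy

variable [Finite G] {p : ℕ} [Fact p.Prime]

theorem isPGroup_sylow (S : Sylow p G) : IsPGroup p (S : Subgroup G) := S.isPGroup'

/-- Every subgroup of `S` has a conjugate `Q ≤ S` with `N_S(Q)` of index prime to `p` in `N_G(Q)`. -/
theorem exists_conj_sylow_normalizer (S : Sylow p G) (hP : P ≤ S) :
    ∃ g : G, P.map (MulAut.conj g).toMonoidHom ≤ S ∧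
      ¬ p ∣ (normalizerIn (S : Subgroup G) (P.map (MulAut.conj g).toMonoidHom)).relIndex
        (Subgroup.normalizer ((P.map (MulAut.conj g).toMonoidHom : Subgroup G) : Set G)) := by
  obtain ⟨R⟩ := (inferInstance : Nonempty (Sylow p ↥(Subgroup.normalizer (P : Set G))))
  obtain ⟨T, hT⟩ := (R.isPGroup'.map (Subgroup.normalizer (P : Set G)).subtype).exists_le_sylow
  obtain ⟨g, hg⟩ := MulAction.exists_smul_eq G T S
  have hTS : ∀ x ∈ (T : Subgroup G), g * x * g⁻¹ ∈ (S : Subgroup G) := by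
    intro x hx
    rw [← hg, Sylow.coe_subgroup_smul]
    exact ⟨x, hx, rfl⟩
  have hPn : (P.subgroupOf (Subgroup.normalizer (P : Set G))).Normal :=
    ⟨fun x hx a => (Subgroup.mem_normalizer_iff.1 a.2 x).1 hx⟩
  have hPp : IsPGroup p (P.subgroupOf (Subgroup.normalizer (P : Set G))) :=
    ((isPGroup_sylow S).to_le hP).of_equiv (Subgroup.subgroupOfEquivOfLe Subgroup.le_normalizer).symm
  have hPR : ∀ x ∈ P, x ∈ (T : Subgroup G) := fun x hx => hT
    ⟨⟨x, Subgroup.le_normalizer hx⟩, IsPGroup.le_sylow_of_normal hPp R (show _ ∈ _ from hx), rfl⟩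
  refine ⟨g, ?_, ?_⟩
  · rintro _ ⟨x, hx, rfl⟩
    exact hTS x (hPR x hx)
  set c := (MulAut.conj g).toMonoidHom with hc
  have hcinj : Function.Injective c := (MulAut.conj g).injective
  have hle : ((R : Subgroup ↥(Subgroup.normalizer (P : Set G))).map
      (Subgroup.normalizer (P : Set G)).subtype).map c ≤
      normalizerIn (S : Subgroup G) (P.map c) := by
    rintro _ ⟨x, hx, rfl⟩
    refine ⟨hTS x (hT hx), ?_⟩
    obtain ⟨⟨x, hxn⟩, -, rfl⟩ := hx
    exact Subgroup.map_equiv_normalizer_eq P (MulAut.conj g) ▸ ⟨x, hxn, rfl⟩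
  intro hd
  apply R.not_dvd_index
  have hnorm : Subgroup.normalizer ((P.map c : Subgroup G) : Set G) =
      (Subgroup.normalizer (P : Set G)).map c :=
    (Subgroup.map_equiv_normalizer_eq P (MulAut.conj g)).symm
  have h2 := hd.trans (Subgroup.relIndex_dvd_of_le_left _ hle)
  rw [hnorm, Subgroup.relIndex_map_map_of_injective _ _ hcinj] at h2
  rwa [Subgroup.relIndex, Subgroup.subgroupOf,
    Subgroup.comap_map_eq_self_of_injective Subtype.val_injective] at h2

theorem centralizer_sylow_of_normalizer (hQ : ¬ p ∣ (normalizerIn S Q).relIndex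
    (Subgroup.normalizer (Q : Set G))) :
    ¬ p ∣ (centralizerIn S Q).relIndex (Subgroup.centralizer (Q : Set G)) := by
  set N := Subgroup.normalizer (Q : Set G)
  have hC : Subgroup.centralizer (Q : Set G) ≤ N := centralizer_le_normalizer' Q
  have := not_dvd_relIndex_of_normal ((normalizerIn S Q).subgroupOf N)
    ((Subgroup.centralizer (Q : Set G)).subgroupOf N) hQ
  rw [Subgroup.relIndex_subgroupOf hC] at this
  rwa [← Subgroup.inf_relIndex_right,
    show normalizerIn S Q ⊓ Subgroup.centralizer (Q : Set G) = centralizerIn S Q from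
      le_antisymm (fun x hx => ⟨hx.1.1, hx.2⟩)
        (fun x hx => ⟨⟨hx.1, hC hx.2⟩, hx.2⟩)] at this

theorem autInduced_sylow_of_normalizer (hQ : ¬ p ∣ (normalizerIn S Q).relIndex
    (Subgroup.normalizer (Q : Set G))) :
    ¬ p ∣ (autInducedBy S Q).relIndex (autInducedBy ⊤ Q) := by
  have h1 : ((normalizerIn S Q).subgroupOf (Subgroup.normalizer (Q : Set G))).map (conjAutHom Q) =
      autInducedBy S Q := by
    ext α
    rw [mem_autInducedBy]
    exact ⟨fun ⟨⟨x, hx⟩, hxS, he⟩ => ⟨x, hxS.1, hx, he.symm⟩,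
      fun ⟨x, hxS, hx, he⟩ => ⟨⟨x, hx⟩, ⟨hxS, hx⟩, he.symm⟩⟩
  intro hd
  apply hQ
  refine hd.trans ?_
  rw [← h1, ← range_conjAutHom, MonoidHom.range_eq_map, Subgroup.relIndex_map_map,
    top_sup_eq, Subgroup.relIndex_top_right]
  exact Subgroup.index_dvd_of_le le_sup_left

/-- The lifting step: maps onto a `Q` with `N_S(Q)` Sylow in `N_G(Q)` extend to their extenders. -/
theorem exists_centralizer_conj (S : Sylow p G) {T : Subgroup G}
    (hQ : ¬ p ∣ (normalizerIn (S : Subgroup G) Q).relIndex (Subgroup.normalizer (Q : Set G)))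
    (hT : IsPGroup p T)
    (hTle : T ≤ normalizerIn (S : Subgroup G) Q ⊔ Subgroup.centralizer (Q : Set G)) :
    ∃ c ∈ Subgroup.centralizer (Q : Set G), ∀ t ∈ T, c * t * c⁻¹ ∈ (S : Subgroup G) := by
  set N := Subgroup.normalizer (Q : Set G)
  have hC : Subgroup.centralizer (Q : Set G) ≤ N := centralizer_le_normalizer' Q
  have hR : normalizerIn (S : Subgroup G) Q ≤ N := inf_le_right
  obtain ⟨c, hc, h⟩ := exists_conj_le_of_normal (R := (normalizerIn (S : Subgroup G) Q).subgroupOf N)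
    (K := (Subgroup.centralizer (Q : Set G)).subgroupOf N) (T := T.subgroupOf N)
    ((isPGroup_normalizerIn (isPGroup_sylow S) Q).of_equiv (Subgroup.subgroupOfEquivOfLe hR).symm)
    hQ (hT.of_equiv (Subgroup.subgroupOfEquivOfLe (hTle.trans (sup_le hR hC))).symm)
    (by rw [← Subgroup.subgroupOf_sup hR hC]; exact fun x hx => hTle hx)
  exact ⟨c, hc, fun t ht => (h ⟨t, hTle.trans (sup_le hR hC) ht⟩ ht).1⟩

/-- If `C_S(Q)` has index prime to `p` in `C_G(Q)` there are no bigger `C_S` in the class of `Q`. -/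
theorem card_le_of_sylow {A B C : Subgroup G} (hB : IsPGroup p B) (hA : IsPGroup p A)
    (hBC : B ≤ C) (hAC : A ≤ C) (hi : ¬ p ∣ A.relIndex C) : Nat.card B ≤ Nat.card A := by
  obtain ⟨T, hT⟩ := (hB.of_equiv (Subgroup.subgroupOfEquivOfLe hBC).symm).exists_le_sylow
  have h := Subgroup.card_le_of_le hT
  rw [Nat.card_congr (Subgroup.subgroupOfEquivOfLe hBC).toEquiv] at h
  refine h.trans (le_of_eq ?_)
  rw [← Nat.card_congr (Subgroup.subgroupOfEquivOfLe hAC).toEquiv]
  exact Nat.card_congr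
    (T.equiv ((hA.of_equiv (Subgroup.subgroupOfEquivOfLe hAC).symm).toSylow hi)).toEquiv

theorem isFullyNormalized_of_sylow (S : Sylow p G) (hQS : Q ≤ S)
    (hQ : ¬ p ∣ (normalizerIn (S : Subgroup G) Q).relIndex (Subgroup.normalizer (Q : Set G))) :
    (groupFusionSystem (S : Subgroup G)).IsFullyNormalized Q := by
  refine ⟨hQS, fun R hR => ?_⟩
  obtain ⟨-, -, g, hg⟩ := isConj_group_iff.1 (isConj_symm hR)
  set c := (MulAut.conj g).toMonoidHom with hc
  have hinj : Function.Injective c := (MulAut.conj g).injective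
  rw [← Subgroup.card_map_of_injective (f := c) hinj (K := normalizerIn (S : Subgroup G) R)]
  refine card_le_of_sylow ((isPGroup_normalizerIn (isPGroup_sylow S) R).map c)
    (isPGroup_normalizerIn (isPGroup_sylow S) Q) ?_ inf_le_right hQ
  rintro _ ⟨x, hx, rfl⟩
  exact hg ▸ Subgroup.map_equiv_normalizer_eq R (MulAut.conj g) ▸ ⟨x, hx.2, rfl⟩

theorem receptive_group (S : Sylow p G) (hQS : Q ≤ S)
    (hQ : ¬ p ∣ (normalizerIn (S : Subgroup G) Q).relIndex (Subgroup.normalizer (Q : Set G))) :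
    (groupFusionSystem (S : Subgroup G)).IsReceptive Q := by
  refine receptive_of_extend hQS fun P f N hf hPN hN => ?_
  obtain ⟨hP, a, ha⟩ := isMap_group_iff.1 hf.isMap
  have hNS : N ≤ (S : Subgroup G) := fun x hx => ((hN x).1 hx).1
  have key : N.map (MulAut.conj a).toMonoidHom ≤
      normalizerIn (S : Subgroup G) Q ⊔ Subgroup.centralizer (Q : Set G) := by
    rintro _ ⟨x, hx, rfl⟩
    obtain ⟨-, hxn, h, hhS, he⟩ := (hN x).1 hx
    have hhQ : h ∈ normalizerIn (S : Subgroup G) Q := by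
      refine ⟨hhS, mem_normalizer_of_maps fun z hz => ?_⟩
      obtain ⟨y, hy, rfl⟩ := hf.exists_preimage hz
      exact he y hy ▸ hf.mem ((Subgroup.mem_normalizer_iff.1 hxn y).1 hy)
    rw [show (MulAut.conj a).toMonoidHom x = h * (h⁻¹ * (a * x * a⁻¹)) by
      simp]
    refine mul_mem (Subgroup.mem_sup_left hhQ) (Subgroup.mem_sup_right ?_)
    rw [Subgroup.mem_centralizer_iff]
    intro z hz
    obtain ⟨y, hy, rfl⟩ := hf.exists_preimage hz
    have h1 := he y hy
    rw [(ha _ ((Subgroup.mem_normalizer_iff.1 hxn y).1 hy)).2, (ha y hy).2] at h1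
    rw [(ha y hy).2]
    calc a * y * a⁻¹ * (h⁻¹ * (a * x * a⁻¹))
        = h⁻¹ * (h * (a * y * a⁻¹) * h⁻¹) * (a * x * a⁻¹) := by group
      _ = h⁻¹ * (a * x * a⁻¹) * (a * y * a⁻¹) := by rw [← h1]; group
  obtain ⟨c, hc, hcS⟩ := exists_centralizer_conj S hQ (((isPGroup_sylow S).to_le hNS).map _) key
  refine ⟨conjMap (c * a), isMap_group_iff.2 ⟨hNS, c * a, fun x hx => ⟨?_, rfl⟩⟩, fun y hy => ?_⟩
  · have := hcS _ ⟨x, hx, rfl⟩
    simpa [mul_assoc] using this
  · have h1 : c * (a * y * a⁻¹) = (a * y * a⁻¹) * c := by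
      rw [← (ha y hy).2]
      exact (Subgroup.mem_centralizer_iff.1 hc _ (hf.mem hy)).symm
    rw [conjMap_apply, (ha y hy).2]
    calc c * a * y * (c * a)⁻¹ = c * (a * y * a⁻¹) * c⁻¹ := by group
      _ = a * y * a⁻¹ := by rw [h1]; group

theorem isFullyAutomized_group (S : Sylow p G) (hQS : Q ≤ S)
    (hQ : ¬ p ∣ (normalizerIn (S : Subgroup G) Q).relIndex (Subgroup.normalizer (Q : Set G))) :
    (groupFusionSystem (S : Subgroup G)).IsFullyAutomized p Q := by
  rw [isFullyAutomized_iff (isPGroup_sylow S), autGroup_group hQS]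
  exact ⟨hQS, autInduced_sylow_of_normalizer hQ⟩

theorem isSaturated_group (S : Sylow p G) : (groupFusionSystem (S : Subgroup G)).IsSaturated p := by
  intro P hP
  obtain ⟨g, hQS, hQ⟩ := exists_conj_sylow_normalizer S hP
  exact ⟨_, isConj_group_iff.2 ⟨hP, hQS, g, rfl⟩, isFullyAutomized_group S hQS hQ,
    receptive_group S hQS hQ⟩

theorem isFullyNormalized_group_iff (S : Sylow p G) (hP : P ≤ S) :
    (groupFusionSystem (S : Subgroup G)).IsFullyNormalized P ↔
      ¬ p ∣ (normalizerIn (S : Subgroup G) P).relIndex (Subgroup.normalizer (P : Set G)) := by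
  refine ⟨fun h => ?_, isFullyNormalized_of_sylow S hP⟩
  obtain ⟨g, hQS, hQ⟩ := exists_conj_sylow_normalizer S hP
  set c := (MulAut.conj g).toMonoidHom with hc
  have hinj : Function.Injective c := (MulAut.conj g).injective
  have h1 := h.2 _ (isConj_group_iff.2 ⟨hP, hQS, g, rfl⟩)
  have hnorm : Subgroup.normalizer ((P.map c : Subgroup G) : Set G) =
      (Subgroup.normalizer (P : Set G)).map c :=
    (Subgroup.map_equiv_normalizer_eq P (MulAut.conj g)).symm
  have h2 : Nat.card (normalizerIn (S : Subgroup G) P) ≤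
      Nat.card (normalizerIn (S : Subgroup G) (P.map c)) :=
    (isFullyNormalized_of_sylow S hQS hQ).2 P
      (isConj_symm (isConj_group_iff.2 ⟨hP, hQS, g, rfl⟩))
  have e1 := card_mul_relIndex (normalizerIn_le_normalizer (S : Subgroup G) P)
  have e2 := card_mul_relIndex (normalizerIn_le_normalizer (S : Subgroup G) (P.map c))
  rw [le_antisymm h1 h2] at e2
  conv_rhs at e2 => rw [hnorm, Subgroup.card_map_of_injective hinj]
  rwa [Nat.eq_of_mul_eq_mul_left (Nat.card_pos) (e2.trans e1.symm)] at hQ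

theorem isFullyCentralized_group_iff (S : Sylow p G) (hP : P ≤ S) :
    (groupFusionSystem (S : Subgroup G)).IsFullyCentralized P ↔
      ¬ p ∣ (centralizerIn (S : Subgroup G) P).relIndex (Subgroup.centralizer (P : Set G)) := by
  obtain ⟨g, hQS, hQ⟩ := exists_conj_sylow_normalizer S hP
  set c := (MulAut.conj g).toMonoidHom with hc
  have hinj : Function.Injective c := (MulAut.conj g).injective
  have hconj := isConj_group_iff.2 ⟨hP, hQS, g, rfl⟩
  have hcen : Subgroup.centralizer ((P.map c : Subgroup G) : Set G) =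
      (Subgroup.centralizer (P : Set G)).map c := by
    ext z
    simp only [Subgroup.mem_centralizer_iff, SetLike.mem_coe, Subgroup.mem_map]
    constructor
    · intro h
      refine ⟨g⁻¹ * z * g, fun y hy => ?_, by simp [hc, mul_assoc]⟩
      have := h _ ⟨y, hy, rfl⟩
      simp only [hc, MulEquiv.coe_toMonoidHom, MulAut.conj_apply] at this
      calc y * (g⁻¹ * z * g) = g⁻¹ * (g * y * g⁻¹ * z) * g := by group
        _ = g⁻¹ * z * g * y := by rw [this]; group
    · rintro ⟨x, hx, rfl⟩ _ ⟨y, hy, rfl⟩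
      rw [← map_mul, ← map_mul, hx y hy]
  have hfn := isFullyNormalized_of_sylow S hQS hQ
  have hfc := isFullyCentralized_of_receptive (receptive_group S hQS hQ)
  have hCQ := centralizer_sylow_of_normalizer hQ
  have e1 := card_mul_relIndex (centralizerIn_le_centralizer (S : Subgroup G) P)
  have e2 := card_mul_relIndex (centralizerIn_le_centralizer (S : Subgroup G) (P.map c))
  conv_rhs at e2 => rw [hcen, Subgroup.card_map_of_injective hinj]
  constructor
  · intro h
    rw [le_antisymm (h.2 _ hconj) (hfc.2 P (isConj_symm hconj))] at e2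
    rwa [Nat.eq_of_mul_eq_mul_left (Nat.card_pos) (e2.trans e1.symm)] at hCQ
  · intro h
    refine (isFullyCentralized_iff_of_isConj hfc (isConj_symm hconj)).2 ?_
    refine le_antisymm (hfc.2 P (isConj_symm hconj)) ?_
    rw [← Subgroup.card_map_of_injective (f := c) hinj (K := centralizerIn (S : Subgroup G) P)]
    refine card_le_of_sylow (isPGroup_normalizerIn (isPGroup_sylow S) (P.map c) |>.to_le
      centralizerIn_le_normalizerIn) (((isPGroup_normalizerIn (isPGroup_sylow S) P).to_le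
      centralizerIn_le_normalizerIn).map c) inf_le_right ?_ ?_
    · rw [hcen]
      exact Subgroup.map_mono inf_le_right
    · rw [hcen, Subgroup.relIndex_map_map_of_injective _ _ hinj]
      exact h

end Cfsg.Agent.FusionSys

namespace Cfsg.Agent.FusionSys

theorem exists_sylow_eq_iff {X : Type*} [Group X] [Finite X] {p : ℕ} [Fact p.Prime] {K H : Subgroup X}
    (hK : IsPGroup p K) (hKH : K ≤ H) :
    (∃ R : Sylow p H, (R : Subgroup H) = K.subgroupOf H) ↔ ¬ p ∣ K.relIndex H := by
  constructor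
  · rintro ⟨R, hR⟩
    show ¬ p ∣ (K.subgroupOf H).index
    rw [← hR]
    exact R.not_dvd_index
  · intro h
    exact ⟨(hK.of_equiv (Subgroup.subgroupOfEquivOfLe hKH).symm).toSylow h, rfl⟩

end Cfsg.Agent.FusionSys
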