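import Cfsg.Agent.H89.SelfNormalizing
import Cfsg.Agent.FusionSys.Group

/-!
A simplicity criterion for the fusion system of a group whose Sylow normalizer is generated by the Sylow subgroup
and one element lying in the subgroup generated by the `p`-elements of the normalizer of a centric subgroup.
-/

set_option autoImplicit false

namespace Cfsg.Agent.FusionSys

open Cfsg Cfsg.FusionSystem Cfsg.Agent.H89

variable {G : Type*} [Group G] {p : ℕ}

/-- The group-theoretic data of the criterion. -/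
structure SimpleCert (p : ℕ) (P R : Subgroup G) (c : G) : Prop where
  ne_bot : P ≠ ⊥
  norm : ∀ n : G, (∀ x ∈ P, n * x * n⁻¹ ∈ P) → n ∈ P ⊔ Subgroup.zpowers c
  c_norm : ∀ x ∈ P, c * x * c⁻¹ ∈ P
  le : R ≤ P
  conj : ∀ x ∈ P, ∀ r ∈ R, x * r * x⁻¹ ∈ R
  cen : ∀ x ∈ P, (∀ r ∈ R, r * x = x * r) → x ∈ R
  gen : c ∈ Subgroup.closure {g : G | (∀ r ∈ R, g * r * g⁻¹ ∈ R) ∧ ∃ k : ℕ, orderOf g = p ^ k}
  rigid : FusionRigid P

/-- The criterion is invariant under isomorphisms. -/
theorem SimpleCert.map {G' : Type*} [Group G'] {P R : Subgroup G} {c : G} (h : SimpleCert p P R c)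
    (φ : G ≃* G') :
    SimpleCert p (P.map φ.toMonoidHom) (R.map φ.toMonoidHom) (φ c) where
  ne_bot := by
    rw [Ne, Subgroup.map_eq_bot_iff_of_injective _ φ.injective]; exact h.ne_bot
  norm n hn := by
    have h1 : φ.symm n ∈ P ⊔ Subgroup.zpowers c := h.norm _ fun x hx => by
      obtain ⟨y, hy, he⟩ := hn (φ x) ⟨x, hx, rfl⟩
      rw [show φ.symm n * x * (φ.symm n)⁻¹ = y from φ.injective (by simpa using he.symm)]
      exact hy
    have h2 := Subgroup.mem_map_of_mem φ.toMonoidHom h1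
    rw [Subgroup.map_sup, MonoidHom.map_zpowers] at h2
    simpa using h2
  c_norm := by
    rintro _ ⟨x, hx, rfl⟩
    exact ⟨c * x * c⁻¹, h.c_norm x hx, by simp⟩
  le := Subgroup.map_mono h.le
  conj := by
    rintro _ ⟨x, hx, rfl⟩ _ ⟨r, hr, rfl⟩
    exact ⟨x * r * x⁻¹, h.conj x hx r hr, by simp⟩
  cen := by
    rintro _ ⟨x, hx, rfl⟩ hc
    refine ⟨x, h.cen x hx fun r hr => ?_, rfl⟩
    exact φ.injective (by simpa using hc (φ r) ⟨r, hr, rfl⟩)
  gen := by
    have h1 := Subgroup.mem_map_of_mem φ.toMonoidHom h.gen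
    rw [MonoidHom.map_closure] at h1
    refine Subgroup.closure_mono ?_ h1
    rintro _ ⟨g, ⟨hg, k, hk⟩, rfl⟩
    refine ⟨?_, k, ?_⟩
    · rintro _ ⟨r, hr, rfl⟩
      exact ⟨g * r * g⁻¹, hg r hr, by simp⟩
    · exact (MulEquiv.orderOf_eq φ g).trans hk
  rigid T hT hcl := by
    rintro ⟨z, hz, hz1, hzc⟩
    have h1 : T.comap φ.toMonoidHom = P := by
      refine h.rigid _ (fun x hx => ?_) (fun x hx g hg => ?_) ⟨φ.symm z, ?_, ?_, fun s hs => ?_⟩
      · obtain ⟨y, hy, he⟩ := hT hx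
        exact φ.injective he ▸ hy
      · have h2 := hcl (φ x) hx (φ g) ⟨g * x * g⁻¹, hg, by simp⟩
        show φ (g * x * g⁻¹) ∈ T
        simpa using h2
      · show φ (φ.symm z) ∈ T
        simpa using hz
      · intro h2; exact hz1 (by simpa using congrArg φ h2)
      · exact φ.injective (by simpa using hzc (φ s) ⟨s, hs, rfl⟩)
    rw [← h1, Subgroup.map_comap_eq_self_of_surjective φ.surjective]

variable [Finite G] [Fact p.Prime]

/-- The criterion, on the Sylow subgroup itself. -/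
theorem SimpleCert.isSimple_self (S : Sylow p G) {R : Subgroup G} {c : G}
    (h : SimpleCert p (S : Subgroup G) R c) : (groupFusionSystem (S : Subgroup G)).IsSimple p := by
  refine isSimple_of_criterion S (isSaturated_group S) h.ne_bot ?_ ?_
  · intro T hT
    by_cases hne : T = ⊥
    · exact Or.inl hne
    · exact Or.inr (h.rigid T hT.1 (fun x hx g hg => mem_of_conj_mem hT hx hg) (exists_central_mem S hT hne))
  set J := ⨆ (Q : Subgroup G) (_ : (groupFusionSystem (S : Subgroup G)).IsFullyNormalized Q ∧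
      (groupFusionSystem (S : Subgroup G)).IsCentric Q),
      autInducedBy (pElementsOfNormalizer p Q) (S : Subgroup G) with hJ
  set N := Subgroup.normalizer ((S : Subgroup G) : Set G)
  have hSn : (S : Subgroup G) ≤ N := Subgroup.le_normalizer
  have hmem : ∀ (Q : Subgroup G), (S : Subgroup G) ≤ Subgroup.normalizer (Q : Set G) → Q ≤ S →
      centralizerIn (S : Subgroup G) Q ≤ Q → ∀ g ∈ pElementsOfNormalizer p Q, ∀ hg : g ∈ N,
      (⟨g, hg⟩ : N) ∈ J.comap (conjAutHom (S : Subgroup G)) := fun Q h1 h2 h3 g hg hgN =>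
    Subgroup.mem_iSup_of_mem Q (Subgroup.mem_iSup_of_mem
      ⟨isFullyNormalized_of_le_normalizer S h2 h1, isCentric_of_le_normalizer S h2 h1 h3⟩
      (mem_autInducedBy.2 ⟨g, hg, hgN, rfl⟩))
  have hcn : c ∈ N := mem_normalizer_of_maps h.c_norm
  have hle : (S : Subgroup G) ⊔ Subgroup.zpowers c ≤ (J.comap (conjAutHom (S : Subgroup G))).map N.subtype := by
    refine sup_le (fun s hs => ⟨⟨s, hSn hs⟩, hmem S hSn le_rfl centralizerIn_le s ?_ (hSn hs), rfl⟩)
      (Subgroup.zpowers_le.2 ⟨⟨c, hcn⟩, hmem R ?_ h.le ?_ c ?_ hcn, rfl⟩)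
    · obtain ⟨k, hk⟩ := IsPGroup.iff_orderOf.1 S.2 ⟨s, hs⟩
      exact Subgroup.subset_closure ⟨hSn hs, k, by rw [← hk]; exact Subgroup.orderOf_coe (⟨s, hs⟩ : (S : Subgroup G))⟩
    · exact fun x hx => mem_normalizer_of_maps (h.conj x hx)
    · exact fun x hx => h.cen x (FusionSys.mem_centralizerIn.1 hx).1 (FusionSys.mem_centralizerIn.1 hx).2
    · refine Subgroup.closure_mono ?_ h.gen
      exact fun g hg => ⟨mem_normalizer_of_maps hg.1, hg.2⟩
  intro α hα
  obtain ⟨g, -, hg, rfl⟩ := mem_autInducedBy.1 hα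
  obtain ⟨x, hx, hxg⟩ := hle (h.norm g fun x hx => (Subgroup.mem_normalizer_iff.1 hg x).1 hx)
  obtain rfl : (x : G) = g := hxg
  exact hx

/-- The criterion, for every Sylow subgroup. -/
theorem SimpleCert.isSimple {P R : Subgroup G} {c : G} (h : SimpleCert p P R c) (hP : IsPGroup p P)
    (hidx : ¬ p ∣ P.index) (S : Sylow p G) : (groupFusionSystem (S : Subgroup G)).IsSimple p := by
  obtain ⟨g, hg⟩ := MulAction.exists_smul_eq G (hP.toSylow hidx) S
  have he : P.map (MulAut.conj g).toMonoidHom = (S : Subgroup G) := by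
    rw [← hg, Sylow.coe_subgroup_smul, IsPGroup.toSylow_coe]
    rfl
  have h1 := h.map (MulAut.conj g)
  rw [he] at h1
  exact h1.isSimple_self S

end Cfsg.Agent.FusionSys
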