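import Cfsg.Agent.FusionSys.Alperin

/-!
Subgroups normal or central in a saturated fusion system: the criteria by essential and by centric radical
subgroups.
-/

set_option autoImplicit false

namespace Cfsg.Agent.FusionSys

open Cfsg Cfsg.FusionSystem Set

variable {Ω : Type*} [Group Ω] {S : Subgroup Ω} {F E : FusionSystem S} {P Q R : Subgroup Ω}
  {f g : Ω → Ω}

/-- A map on `A ⊔ B` carries it into `C` if it carries `A` and `B` into `C`. -/
theorem IsMap.mapsTo_sup {A B C : Subgroup Ω} (hg : IsMap F (A ⊔ B) g) (hA : ∀ x ∈ A, g x ∈ C)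
    (hB : ∀ x ∈ B, g x ∈ C) {x : Ω} (hx : x ∈ A ⊔ B) : g x ∈ C := by
  obtain ⟨φ, -, hφ⟩ := hg
  have h : A ⊔ B ≤ (C.comap φ).map (A ⊔ B).subtype := by
    refine sup_le (fun a ha => ⟨⟨a, le_sup_left (b := B) ha⟩, ?_, rfl⟩)
      (fun b hb => ⟨⟨b, le_sup_right (a := A) hb⟩, ?_, rfl⟩)
    · show φ _ ∈ C
      rw [hφ]
      exact hA a ha
    · show φ _ ∈ C
      rw [hφ]
      exact hB b hb
  obtain ⟨y, hy, he⟩ := h hx
  subst he
  rw [show g ((A ⊔ B).subtype y) = φ y from (hφ y).symm]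
  exact hy

/-- A map on `A ⊔ B` is determined by its restrictions to `A` and `B`. -/
theorem IsMap.eqOn_sup {A B : Subgroup Ω} (hf : IsMap F (A ⊔ B) f) (hg : IsMap E (A ⊔ B) g)
    (hA : ∀ x ∈ A, f x = g x) (hB : ∀ x ∈ B, f x = g x) {x : Ω} (hx : x ∈ A ⊔ B) : f x = g x := by
  obtain ⟨φ, -, hφ⟩ := hf
  obtain ⟨ψ, -, hψ⟩ := hg
  have h : A ⊔ B ≤ (MonoidHom.eqLocus φ ψ).map (A ⊔ B).subtype := by
    refine sup_le (fun a ha => ⟨⟨a, le_sup_left (b := B) ha⟩, ?_, rfl⟩)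
      (fun b hb => ⟨⟨b, le_sup_right (a := A) hb⟩, ?_, rfl⟩)
    · show φ _ = ψ _
      rw [hφ, hψ]
      exact hA a ha
    · show φ _ = ψ _
      rw [hφ, hψ]
      exact hB b hb
  obtain ⟨y, hy, rfl⟩ := h hx
  exact (hφ y).symm.trans ((show φ y = ψ y from hy).trans (hψ y))

theorem isIso_of_mapsTo [Finite P] (h : IsMap F P f) (hm : ∀ x ∈ P, f x ∈ P) : IsIso F P P f :=
  ⟨h, h.image_eq_of_mapsTo hm⟩

/-- The maps of `F` extending to a map on `P ⊔ Q` which carries `Q` into itself, for `Q` normal in `S`. -/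
def normSys (F : FusionSystem S) (Q : Subgroup Ω) [Finite Q] (hQS : Q ≤ S)
    (hQn : S ≤ Subgroup.normalizer (Q : Set Ω)) : FusionSystem S :=
  subSys F (fun P f => ∃ g, IsMap F (P ⊔ Q) g ∧ (∀ x ∈ P, g x = f x) ∧ ∀ x ∈ Q, g x ∈ Q)
    (fun _ _ _ ⟨h, h1, h2, h3⟩ he => ⟨h, h1, fun x hx => (h2 x hx).trans (he x hx).symm, h3⟩)
    (fun _ a hP ha => ⟨conjMap a, isMap_conj F (sup_le hP hQS) ha, fun _ _ => rfl,
      fun x hx => (Subgroup.mem_normalizer_iff.1 (hQn ha) x).1 hx⟩)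
    (fun P R f g _ _ hm ⟨f', hf', hf'e, hf'Q⟩ ⟨g', hg', hg'e, hg'Q⟩ => by
      refine ⟨g' ∘ f', hf'.comp hg' fun x hx => ?_, fun x hx => ?_, fun x hx => hg'Q _ (hf'Q x hx)⟩
      · exact hf'.mapsTo_sup (fun y hy => le_sup_left (b := Q) (hf'e y hy ▸ hm y hy))
          (fun y hy => le_sup_right (a := R) (hf'Q y hy)) hx
      · show g' (f' x) = g (f x)
        rw [hf'e x hx, hg'e _ (hm x hx)])
    (fun P R f g hf hg hinv ⟨f', hf', hf'e, hf'Q⟩ => by
      obtain ⟨g', hg', h1⟩ := hf'.exists_inv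
      have hQ' := hf'.mono (le_sup_right : Q ≤ P ⊔ Q)
      have hle : R ⊔ Q ≤ imgSub f' (P ⊔ Q) := by
        refine sup_le (fun y hy => ?_) (fun y hy => ?_)
        · obtain ⟨x, hx, rfl⟩ := hf.exists_preimage hy
          exact hf'.mem_imgSub.2 ⟨x, le_sup_left (b := Q) hx, hf'e x hx⟩
        · obtain ⟨x, hx, he⟩ := (isIso_of_mapsTo hQ' hf'Q).exists_preimage hy
          exact hf'.mem_imgSub.2 ⟨x, le_sup_right (a := P) hx, he⟩
      refine ⟨g', hg'.mono hle, fun y hy => ?_, fun y hy => ?_⟩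
      · obtain ⟨x, hx, rfl⟩ := hf.exists_preimage hy
        rw [hinv x hx, ← hf'e x hx, h1 x (le_sup_left (b := Q) hx)]
      · obtain ⟨x, hx, rfl⟩ := (isIso_of_mapsTo hQ' hf'Q).exists_preimage hy
        rw [h1 x (le_sup_right (a := P) hx)]
        exact hx)

section Normal

theorem le_normalizer_of_isNormal (hQ : F.IsNormal Q) : S ≤ Subgroup.normalizer (Q : Set Ω) := by
  intro a ha
  obtain ⟨hQS, h⟩ := isNormal_iff.1 hQ
  obtain ⟨g, -, he, hi⟩ := h S (conjMap a) (isMap_conj F le_rfl ha)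
  rw [Subgroup.mem_normalizer_iff]
  intro y
  constructor
  · intro hy
    have : g y ∈ Q := hi.le ⟨y, hy, rfl⟩
    rwa [he y (hQS hy)] at this
  · intro hy
    obtain ⟨z, hz, hze⟩ := hi.ge hy
    rw [he z (hQS hz)] at hze
    have : z = y := by simpa [conjMap] using hze
    exact this ▸ hz

theorem stronglyClosed_of_isNormal (hQ : F.IsNormal Q) : F.StronglyClosed Q := by
  obtain ⟨hQS, h⟩ := isNormal_iff.1 hQ
  refine stronglyClosed_iff.2 ⟨hQS, fun R f hRQ hf x hx => ?_⟩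
  obtain ⟨g, -, he, hi⟩ := h R f hf
  rw [← he x hx]
  exact hi.le ⟨x, hRQ hx, rfl⟩

theorem image_autMap_of_stronglyClosed [Finite Q] (hQ : F.StronglyClosed Q) (hQP : Q ≤ P) (hP : P ≤ S)
    {α : MulAut P} (hα : α ∈ F.autGroup P) : autMap α '' (Q : Set Ω) = Q :=
  ((((mem_autGroup_iff hP).1 hα).mono hQP).image_eq_of_mapsTo
    fun x hx => (stronglyClosed_iff.1 hQ).2 Q _ le_rfl (((mem_autGroup_iff hP).1 hα).mono hQP) x hx)

variable [Finite S] {p : ℕ} [Fact p.Prime]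

theorem isNormal_of_le_normSys (hQS : Q ≤ S) (hQn : S ≤ Subgroup.normalizer (Q : Set Ω))
    [Finite Q] (h : F ≤ normSys F Q hQS hQn) : F.IsNormal Q := by
  refine isNormal_iff.2 ⟨hQS, fun P f hf => ?_⟩
  obtain ⟨φ, hφ, hφf⟩ := hf
  obtain ⟨-, g, hg, he, hm⟩ := h P hφ
  exact ⟨g, hg, fun x hx => (he x hx).trans ((homFun_mem φ hx).trans (hφf ⟨x, hx⟩)),
    (hg.mono le_sup_right).image_eq_of_mapsTo hm⟩

theorem autGroup_le_normSys (hQS : Q ≤ S) (hQn : S ≤ Subgroup.normalizer (Q : Set Ω)) [Finite Q]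
    (hP : P ≤ S) (hQP : Q ≤ P)
    (hinv : ∀ α ∈ F.autGroup P, autMap α '' (Q : Set Ω) = Q) :
    F.autGroup P ≤ (normSys F Q hQS hQn).autGroup P := by
  intro α hα
  have hm := (mem_autGroup_iff hP).1 hα
  refine mem_autGroup_of_isMap ?_
  obtain ⟨φ, hφ, hφf⟩ := hm
  exact ⟨φ, ⟨hφ, autMap α, ((mem_autGroup_iff hP).1 hα).mono (sup_le le_rfl hQP),
    fun x hx => (hφf ⟨x, hx⟩).symm.trans (homFun_mem φ hx).symm,
    fun x hx => (hinv α hα).le ⟨x, hx, rfl⟩⟩, hφf⟩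

theorem le_normalizer_of_autGroup_S (hQS : Q ≤ S) [Finite Q]
    (h : ∀ α ∈ F.autGroup S, autMap α '' (Q : Set Ω) = Q) :
    S ≤ Subgroup.normalizer (Q : Set Ω) := by
  intro a ha
  refine mem_normalizer_of_maps fun y hy => ?_
  have := (h _ (conjAut_mem_autGroup F le_rfl ⟨ha, Subgroup.le_normalizer ha⟩)).le ⟨y, hy, rfl⟩
  rwa [autMap_conjAut _ (hQS hy)] at this

/-- Criterion by the essential subgroups. -/
theorem isNormal_of_essential (hS : IsPGroup p S) (hF : F.IsSaturated p)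
    (h : ∀ P, (P = S ∨ F.IsEssential p P) →
      Q ≤ P ∧ ∀ α ∈ F.autGroup P, autMap α '' (Q : Set Ω) = Q) : F.IsNormal Q := by
  have hQS : Q ≤ S := (h S (Or.inl rfl)).1
  haveI := finite_of_le hQS
  refine isNormal_of_le_normSys hQS (le_normalizer_of_autGroup_S hQS (h S (Or.inl rfl)).2)
    (le_of_autGroup_essential hS hF fun P hP => ?_)
  refine autGroup_le_normSys _ _ ?_ (h P hP).1 (h P hP).2
  rcases hP with rfl | hP
  · exact le_rfl
  · exact hP.1.1

/-- Criterion by the fully normalized centric radical subgroups. -/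
theorem isNormal_of_centricRadical (hS : IsPGroup p S) (hF : F.IsSaturated p)
    (h : ∀ P, F.IsFullyNormalized P → F.IsCentric P → F.IsRadical p P →
      Q ≤ P ∧ ∀ α ∈ F.autGroup P, autMap α '' (Q : Set Ω) = Q) : F.IsNormal Q := by
  refine isNormal_of_essential hS hF fun P hP => ?_
  rcases hP with rfl | hP
  · exact h _ (isFullyNormalized_S F) (isCentric_S F) (isRadical_S hS hF)
  · exact h P hP.2.1 hP.1 (isRadical_of_isEssential hS hP)

theorem isNormal_of_stronglyClosed_of_le (hS : IsPGroup p S) (hF : F.IsSaturated p)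
    (hQ : F.StronglyClosed Q)
    (h : ∀ P, F.IsFullyNormalized P → F.IsCentric P → F.IsRadical p P → Q ≤ P) : F.IsNormal Q := by
  haveI := finite_of_le hQ.1
  exact isNormal_of_centricRadical hS hF fun P h1 h2 h3 =>
    ⟨h P h1 h2 h3, fun α hα => image_autMap_of_stronglyClosed hQ (h P h1 h2 h3) h2.1 hα⟩

/-- A normal subgroup lies in every centric radical subgroup. -/
theorem le_of_isNormal (hS : IsPGroup p S) (hQ : F.IsNormal Q) (hc : F.IsCentric P)
    (hr : F.IsRadical p P) : Q ≤ P := by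
  obtain ⟨hQS, hext⟩ := isNormal_iff.1 hQ
  have hQn := le_normalizer_of_isNormal hQ
  have hPS := hc.1
  set T := P ⊔ Q with hT
  have hTS : T ≤ S := sup_le hPS hQS
  haveI := finite_of_le hTS
  haveI := finite_of_le hPS
  haveI := finite_autGroup F hPS
  set N := T ⊓ Subgroup.normalizer (P : Set Ω) with hN
  have hXle : autInducedBy N P ≤ F.autGroup P := by
    intro α hα
    obtain ⟨x, hx, hxn, rfl⟩ := mem_autInducedBy.1 hα
    exact conjAut_mem_autGroup F hPS ⟨hTS hx.1, hxn⟩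
  have hX : ((autInducedBy N P).subgroupOf (F.autGroup P)).Normal := by
    refine ⟨?_⟩
    rintro ⟨β, hβ⟩ hβX ⟨α, hα⟩
    rw [Subgroup.mem_subgroupOf] at hβX ⊢
    obtain ⟨x, hx, hxn, rfl⟩ := mem_autInducedBy.1 hβX
    obtain ⟨g, hg, he, hgQ⟩ := hext P _ ((mem_autGroup_iff hPS).1 hα)
    have hi : IsIso F P P g := (isIso_autMap hPS hα).congr he
    have hgx : g x ∈ T :=
      hg.mapsTo_sup (fun y hy => le_sup_left (b := Q) (hi.mem hy))
        (fun y hy => le_sup_right (a := P) (hgQ.le ⟨y, hy, rfl⟩)) hx.1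
    have hgn : g x ∈ Subgroup.normalizer (P : Set Ω) :=
      (hi.mem_normalizerIn_of_extends hg le_sup_left (fun _ _ => rfl) hx.1 hxn).2
    refine mem_autInducedBy.2 ⟨g x, ⟨hgx, hgn⟩, hgn, ?_⟩
    show α * conjAut hxn * α⁻¹ = conjAut hgn
    rw [mul_inv_eq_iff_eq_mul]
    refine aut_ext fun y hy => ?_
    rw [autMap_mul _ _ hy, autMap_mul _ _ hy, autMap_conjAut hxn hy,
      autMap_conjAut hgn (autMap_mem α hy), conjMap_apply, conjMap_apply,
      ← he _ ((Subgroup.mem_normalizer_iff.1 hxn y).1 hy), ← he y hy,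
      hg.map_conj hx.1 (le_sup_left (b := Q) hy)]
  have hXp : IsPGroup p ((autInducedBy N P).subgroupOf (F.autGroup P)) := by
    refine IsPGroup.of_equiv ?_ (Subgroup.subgroupOfEquivOfLe hXle).symm
    refine (isPGroup_autInducedBy hS P).to_le fun α hα => ?_
    obtain ⟨x, hx, hxn, rfl⟩ := mem_autInducedBy.1 hα
    exact mem_autInducedBy.2 ⟨x, hTS hx.1, hxn, rfl⟩
  have hXinn : autInducedBy N P ≤ Inn P := by
    intro α hα
    have h1 : (⟨α, hXle hα⟩ : F.autGroup P) ∈ pCore p (F.autGroup P) :=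
      le_sSup (show _ ∈ {M : Subgroup (F.autGroup P) | M.Normal ∧ IsPGroup p M} from ⟨hX, hXp⟩)
        (Subgroup.mem_subgroupOf.2 hα)
    rw [← hr.2]
    exact ⟨_, h1, rfl⟩
  by_contra hle
  obtain ⟨x, hxN, hxP⟩ := SetLike.exists_of_lt (lt_inf_normalizer_of_lt (hS.to_le hTS)
    (lt_of_le_not_ge le_sup_left fun h : T ≤ P => hle (le_sup_right.trans h)))
  exact hxP (mem_of_conjAut_mem_inn (centralizerIn_le_of_isCentric hc) hPS (hTS hxN.1) hxN.2
    (hXinn (mem_autInducedBy.2 ⟨x, hxN, hxN.2, rfl⟩)))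

theorem isNormal_iff_centricRadical (hS : IsPGroup p S) (hF : F.IsSaturated p) :
    F.IsNormal Q ↔
      F.StronglyClosed Q ∧ ∀ P, F.IsCentric P → F.IsRadical p P → Q ≤ P :=
  ⟨fun h => ⟨stronglyClosed_of_isNormal h, fun _ h1 h2 => le_of_isNormal hS h h1 h2⟩,
    fun h => isNormal_of_stronglyClosed_of_le hS hF h.1 fun P _ h1 h2 => h.2 P h1 h2⟩

theorem isNormal_iff_essential (hS : IsPGroup p S) (hF : F.IsSaturated p) :
    F.IsNormal Q ↔ ∀ P, (P = S ∨ F.IsEssential p P) →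
      Q ≤ P ∧ ∀ α ∈ F.autGroup P, autMap α '' (Q : Set Ω) = Q := by
  refine ⟨fun h P hP => ?_, isNormal_of_essential hS hF⟩
  haveI := finite_of_le h.1
  have key : Q ≤ P ∧ P ≤ S := by
    rcases hP with rfl | hP
    · exact ⟨h.1, le_rfl⟩
    · exact ⟨le_of_isNormal hS h hP.1 (isRadical_of_isEssential hS hP), hP.1.1⟩
  exact ⟨key.1, fun α hα =>
    image_autMap_of_stronglyClosed (stronglyClosed_of_isNormal h) key.1 key.2 hα⟩

/-- `Q` is central as soon as no element of `Q` is conjugate to another element. -/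
theorem isCentral_of_singleton (hS : IsPGroup p S) (hF : F.IsSaturated p) (hQS : Q ≤ S)
    (h : ∀ (P : Subgroup Ω) (f : Ω → Ω), IsMap F P f → ∀ x ∈ P, x ∈ Q → f x = x) :
    F.IsCentral Q := by
  haveI := finite_of_le hQS
  have hsc : F.StronglyClosed Q := stronglyClosed_iff.2
    ⟨hQS, fun R f hR hf x hx => (h R f hf x hx (hR hx)).symm ▸ hR hx⟩
  have hN : F.IsNormal Q := isNormal_of_stronglyClosed_of_le hS hF hsc fun P _ hc _ x hx =>
    centralizerIn_le_of_isCentric hc (mem_centralizerIn.2 ⟨hQS hx, fun y hy => by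
      have h1 := h Q (conjMap y) (isMap_conj F hQS (hc.1 hy)) x hx hx
      calc y * x = conjMap y x * y := by simp [conjMap]
        _ = x * y := by rw [h1]⟩)
  refine isCentral_iff.2 ⟨hQS, fun P f hf => ?_⟩
  obtain ⟨g, hg, he, -⟩ := (isNormal_iff.1 hN).2 P f hf
  exact ⟨g, hg, he, fun x hx => h _ g hg x (le_sup_right (a := P) hx) hx⟩

theorem fix_of_isCentral (hQ : F.IsCentral Q) (hf : IsMap F P f) {x : Ω} (hxP : x ∈ P)
    (hxQ : x ∈ Q) : f x = x := by
  obtain ⟨g, -, he, hfix⟩ := (isCentral_iff.1 hQ).2 P f hf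
  rw [← he x hxP, hfix x hxQ]

theorem isConjElt_iff {x y : Ω} :
    F.IsConjElt x y ↔ ∃ f, IsMap F (Subgroup.zpowers x) f ∧ f x = y := by
  constructor
  · rintro ⟨φ, hφ, he⟩
    exact ⟨homFun φ, isMap_of_mem hφ, (homFun_mem φ (Subgroup.mem_zpowers x)).trans he⟩
  · rintro ⟨f, ⟨φ, hφ, hf⟩, rfl⟩
    exact ⟨φ, hφ, hf _⟩

end Normal

end Cfsg.Agent.FusionSys
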