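import Cfsg.Prelude.Def_FusionSystem

/-!
Morphism calculus for `Cfsg.FusionSystem`. A map of the system with source `P` is handled as a function
`f : Ω → Ω`, of which only the values on `P` matter (`IsMap F P f`); `IsIso F P Q f` adds `f '' P = Q`.
-/

set_option autoImplicit false

namespace Cfsg.Agent.FusionSys

open Cfsg Cfsg.FusionSystem Set

variable {Ω : Type*} [Group Ω] {S : Subgroup Ω}

/-! ### Homomorphisms on subgroups as functions -/

open Classical in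
/-- The extension by `1` of a homomorphism defined on a subgroup to a function on the whole group. -/
noncomputable def homFun {Ω' : Type*} [Group Ω'] {P : Subgroup Ω} (φ : P →* Ω') : Ω → Ω' :=
  fun x => if h : x ∈ P then φ ⟨x, h⟩ else 1

theorem homFun_mem {Ω' : Type*} [Group Ω'] {P : Subgroup Ω} (φ : P →* Ω') {x : Ω} (hx : x ∈ P) :
    homFun φ x = φ ⟨x, hx⟩ := dif_pos hx

theorem homFun_coe {Ω' : Type*} [Group Ω'] {P : Subgroup Ω} (φ : P →* Ω') (x : P) :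
    homFun φ x = φ x := dif_pos x.2

/-- Conjugation by `g`, as a function. -/
def conjMap (g : Ω) : Ω → Ω := fun x => g * x * g⁻¹

theorem conjMap_apply (g x : Ω) : conjMap g x = g * x * g⁻¹ := rfl

theorem conjMap_one : conjMap (1 : Ω) = id := funext fun x => by simp [conjMap]

theorem conjMap_mul (g h : Ω) : conjMap (g * h) = conjMap g ∘ conjMap h :=
  funext fun x => by simp [conjMap, mul_assoc]

/-- The subgroup generated by `f '' P`. -/
def imgSub (f : Ω → Ω) (P : Subgroup Ω) : Subgroup Ω := Subgroup.closure (f '' P)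

/-- `f` agrees on `P` with a map of the system `F` with source `P`. -/
def IsMap (F : FusionSystem S) (P : Subgroup Ω) (f : Ω → Ω) : Prop :=
  ∃ φ ∈ F.Hom P, ∀ x : P, φ x = f x

/-- `f` agrees on `P` with a map of the system `F` with source `P` and image `Q`. -/
structure IsIso (F : FusionSystem S) (P Q : Subgroup Ω) (f : Ω → Ω) : Prop where
  isMap : IsMap F P f
  image_eq : f '' (P : Set Ω) = Q

variable {F E : FusionSystem S} {P Q R : Subgroup Ω} {f g : Ω → Ω}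

theorem isMap_of_mem {φ : P →* Ω} (h : φ ∈ F.Hom P) : IsMap F P (homFun φ) :=
  ⟨φ, h, fun x => (homFun_coe φ x).symm⟩

theorem mem_hom_of_isMap {φ : P →* Ω} (h : IsMap F P f) (hφ : ∀ x : P, φ x = f x) : φ ∈ F.Hom P := by
  obtain ⟨ψ, hψ, hψf⟩ := h
  rwa [show φ = ψ from MonoidHom.ext fun x => (hφ x).trans (hψf x).symm]

theorem mem_hom_iff_isMap {φ : P →* Ω} : φ ∈ F.Hom P ↔ IsMap F P (homFun φ) :=
  ⟨isMap_of_mem, fun h => mem_hom_of_isMap h fun x => (homFun_coe φ x).symm⟩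

namespace IsMap

theorem congr (h : IsMap F P f) (he : ∀ x ∈ P, g x = f x) : IsMap F P g := by
  obtain ⟨φ, hφ, hf⟩ := h
  exact ⟨φ, hφ, fun x => (hf x).trans (he x x.2).symm⟩

theorem le (h : IsMap F P f) : P ≤ S := by
  obtain ⟨φ, hφ, -⟩ := h
  exact (F.le_of_mem hφ).1

theorem mem_S (h : IsMap F P f) {x : Ω} (hx : x ∈ P) : f x ∈ S := by
  obtain ⟨φ, hφ, hf⟩ := h
  exact hf ⟨x, hx⟩ ▸ (F.le_of_mem hφ).2 _

theorem map_mul (h : IsMap F P f) {x y : Ω} (hx : x ∈ P) (hy : y ∈ P) : f (x * y) = f x * f y := by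
  obtain ⟨φ, -, hf⟩ := h
  exact ((hf ⟨x * y, P.mul_mem hx hy⟩).symm.trans (φ.map_mul ⟨x, hx⟩ ⟨y, hy⟩)).trans
    (by rw [hf ⟨x, hx⟩, hf ⟨y, hy⟩])

theorem map_one (h : IsMap F P f) : f 1 = 1 := by
  obtain ⟨φ, -, hf⟩ := h
  exact (hf 1).symm.trans φ.map_one

theorem map_inv (h : IsMap F P f) {x : Ω} (hx : x ∈ P) : f x⁻¹ = (f x)⁻¹ := by
  obtain ⟨φ, -, hf⟩ := h
  exact ((hf ⟨x⁻¹, P.inv_mem hx⟩).symm.trans (φ.map_inv ⟨x, hx⟩)).trans (by rw [hf ⟨x, hx⟩])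

theorem map_conj (h : IsMap F P f) {a x : Ω} (ha : a ∈ P) (hx : x ∈ P) :
    f (a * x * a⁻¹) = f a * f x * (f a)⁻¹ := by
  rw [h.map_mul (P.mul_mem ha hx) (P.inv_mem ha), h.map_mul ha hx, h.map_inv ha]

theorem map_pow (h : IsMap F P f) {x : Ω} (hx : x ∈ P) (n : ℕ) : f (x ^ n) = f x ^ n := by
  induction n with
  | zero => simp [h.map_one]
  | succ n ih => rw [pow_succ, pow_succ, h.map_mul (P.pow_mem hx n) hx, ih]

theorem injOn (h : IsMap F P f) : Set.InjOn f P := by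
  obtain ⟨φ, hφ, hf⟩ := h
  intro x hx y hy hxy
  exact congrArg Subtype.val (F.injective_of_mem hφ (a₁ := ⟨x, hx⟩) (a₂ := ⟨y, hy⟩)
    (((hf ⟨x, hx⟩).trans hxy).trans (hf ⟨y, hy⟩).symm))

theorem coe_imgSub (h : IsMap F P f) : (imgSub f P : Set Ω) = f '' P := by
  obtain ⟨φ, -, hf⟩ := h
  have hr : (φ.range : Set Ω) = f '' P := by
    ext y
    constructor
    · rintro ⟨x, rfl⟩
      exact ⟨x, x.2, (hf x).symm⟩
    · rintro ⟨x, hx, rfl⟩
      exact ⟨⟨x, hx⟩, hf _⟩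
  rw [imgSub, ← hr, Subgroup.closure_eq]

theorem mem_imgSub (h : IsMap F P f) {y : Ω} : y ∈ imgSub f P ↔ ∃ x ∈ P, f x = y := by
  rw [← SetLike.mem_coe, h.coe_imgSub]
  rfl

theorem imgSub_le (h : IsMap F P f) : imgSub f P ≤ S :=
  (Subgroup.closure_le _).2 fun _ ⟨_, hx, hy⟩ => hy ▸ h.mem_S hx

theorem isIso (h : IsMap F P f) : IsIso F P (imgSub f P) f := ⟨h, h.coe_imgSub.symm⟩

/-- Composition. -/
theorem comp (hf : IsMap F P f) (hg : IsMap F Q g) (hPQ : ∀ x ∈ P, f x ∈ Q) :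
    IsMap F P (g ∘ f) := by
  obtain ⟨φ, hφ, hfe⟩ := hf
  obtain ⟨ψ, hψ, hge⟩ := hg
  have h : ∀ x : P, φ x ∈ Q := fun x => (hfe x).symm ▸ hPQ x x.2
  exact ⟨_, F.comp_mem hφ hψ h, fun x => (hge ⟨φ x, h x⟩).trans (congrArg g (hfe x))⟩

end IsMap

/-- Conjugation by an element of `S`. -/
theorem isMap_conj (F : FusionSystem S) (hP : P ≤ S) {a : Ω} (ha : a ∈ S) : IsMap F P (conjMap a) :=
  ⟨_, F.conj_mem hP ha, fun _ => rfl⟩

theorem isMap_id (F : FusionSystem S) (hP : P ≤ S) : IsMap F P id := by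
  simpa [conjMap_one] using isMap_conj F hP S.one_mem

theorem IsMap.mono (h : IsMap F P f) (hR : R ≤ P) : IsMap F R f :=
  (isMap_id F (hR.trans h.le)).comp h fun _ hx => hR hx

/-- Inverse of a map. -/
theorem IsMap.exists_inv (h : IsMap F P f) :
    ∃ g, IsMap F (imgSub f P) g ∧ ∀ x ∈ P, g (f x) = x := by
  obtain ⟨φ, hφ, hf⟩ := h
  obtain ⟨ψ, hψ, hinv⟩ := F.inv_mem hφ
  have hr : φ.range = imgSub f P := by
    apply SetLike.coe_injective
    rw [(show IsMap F P f from ⟨φ, hφ, hf⟩).coe_imgSub]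
    ext y
    constructor
    · rintro ⟨x, rfl⟩
      exact ⟨x, x.2, (hf x).symm⟩
    · rintro ⟨x, hx, rfl⟩
      exact ⟨⟨x, hx⟩, hf _⟩
  refine ⟨homFun ψ, hr ▸ isMap_of_mem hψ, fun x hx => ?_⟩
  rw [← hf ⟨x, hx⟩, homFun_mem ψ ⟨⟨x, hx⟩, rfl⟩]
  exact hinv ⟨x, hx⟩

namespace IsIso

theorem congr (h : IsIso F P Q f) (he : ∀ x ∈ P, g x = f x) : IsIso F P Q g :=
  ⟨h.isMap.congr he, by rw [← h.image_eq]; exact Set.image_congr he⟩

theorem mem (h : IsIso F P Q f) {x : Ω} (hx : x ∈ P) : f x ∈ Q :=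
  h.image_eq.le (Set.mem_image_of_mem f hx)

theorem exists_preimage (h : IsIso F P Q f) {y : Ω} (hy : y ∈ Q) : ∃ x ∈ P, f x = y :=
  h.image_eq.ge hy

theorem eq_imgSub (h : IsIso F P Q f) : Q = imgSub f P :=
  SetLike.coe_injective (h.image_eq.symm.trans h.isMap.coe_imgSub.symm)

theorem source_le (h : IsIso F P Q f) : P ≤ S := h.isMap.le

theorem target_le (h : IsIso F P Q f) : Q ≤ S := fun y hy => by
  obtain ⟨x, hx, rfl⟩ := h.exists_preimage hy
  exact h.isMap.mem_S hx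

theorem exists_symm (h : IsIso F P Q f) :
    ∃ g, IsIso F Q P g ∧ (∀ x ∈ P, g (f x) = x) ∧ ∀ y ∈ Q, f (g y) = y := by
  obtain ⟨g, hg, hinv⟩ := h.isMap.exists_inv
  rw [← h.eq_imgSub] at hg
  have hg' : ∀ y ∈ Q, g y ∈ P ∧ f (g y) = y := by
    intro y hy
    obtain ⟨x, hx, rfl⟩ := h.exists_preimage hy
    rw [hinv x hx]
    exact ⟨hx, rfl⟩
  refine ⟨g, ⟨hg, ?_⟩, hinv, fun y hy => (hg' y hy).2⟩
  ext x
  exact ⟨fun ⟨y, hy, he⟩ => he ▸ (hg' y hy).1, fun hx => ⟨f x, h.mem hx, hinv x hx⟩⟩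

theorem comp (hf : IsIso F P Q f) (hg : IsIso F Q R g) : IsIso F P R (g ∘ f) :=
  ⟨hf.isMap.comp hg.isMap fun _ hx => hf.mem hx, by rw [Set.image_comp, hf.image_eq, hg.image_eq]⟩

theorem card_eq (h : IsIso F P Q f) : Nat.card P = Nat.card Q := by
  show Nat.card (P : Set Ω) = Nat.card (Q : Set Ω)
  rw [← h.image_eq, Nat.card_image_of_injOn h.isMap.injOn]

/-- The isomorphism of groups given by a map of the system. -/
noncomputable def equiv (h : IsIso F P Q f) : P ≃* Q :=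
  MulEquiv.ofBijective
    (MonoidHom.mk' (fun x : P => (⟨f x, h.mem x.2⟩ : Q))
      fun x y => Subtype.ext (h.isMap.map_mul x.2 y.2))
    ⟨fun x y hxy => Subtype.ext (h.isMap.injOn x.2 y.2 (congrArg Subtype.val hxy)),
      fun y => by
        obtain ⟨x, hx, he⟩ := h.exists_preimage y.2
        exact ⟨⟨x, hx⟩, Subtype.ext he⟩⟩

theorem coe_equiv (h : IsIso F P Q f) (x : P) : ((h.equiv x : Q) : Ω) = f x := rfl

end IsIso

theorem isIso_id (F : FusionSystem S) (hP : P ≤ S) : IsIso F P P id :=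
  ⟨isMap_id F hP, Set.image_id _⟩

/-- Conjugation by an element of `S`, onto its image. -/
theorem isIso_conj (F : FusionSystem S) (hP : P ≤ S) {a : Ω} (ha : a ∈ S) :
    IsIso F P (imgSub (conjMap a) P) (conjMap a) :=
  (isMap_conj F hP ha).isIso

/-! ### Comparing systems -/

theorem ext_hom (h : ∀ P, F.Hom P = E.Hom P) : F = E := by
  cases F; cases E
  simp only [FusionSystem.mk.injEq]
  exact funext h

theorem le_iff_isMap : F ≤ E ↔ ∀ P f, IsMap F P f → IsMap E P f :=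
  ⟨fun h P _ ⟨φ, hφ, hf⟩ => ⟨φ, h P hφ, hf⟩,
    fun h P φ hφ => mem_hom_iff_isMap.2 (h P _ (isMap_of_mem hφ))⟩

theorem ext_isMap (h : ∀ P f, IsMap F P f ↔ IsMap E P f) : F = E :=
  ext_hom fun P => Set.ext fun φ => by rw [mem_hom_iff_isMap, mem_hom_iff_isMap, h]

theorem le_antisymm' (h₁ : F ≤ E) (h₂ : E ≤ F) : F = E :=
  ext_hom fun P => Set.Subset.antisymm (h₁ P) (h₂ P)

theorem le_refl' (F : FusionSystem S) : F ≤ F := fun _ => Set.Subset.rfl

theorem isSubsystemOf_iff_isMap {T : Subgroup Ω} {D : FusionSystem T} :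
    D.IsSubsystemOf F ↔ ∀ P f, IsMap D P f → IsMap F P f :=
  ⟨fun h P _ ⟨φ, hφ, hf⟩ => ⟨φ, h P hφ, hf⟩,
    fun h P φ hφ => mem_hom_iff_isMap.2 (h P _ (isMap_of_mem hφ))⟩

theorem le_of_isSubsystemOf {T : Subgroup Ω} {D : FusionSystem T} (h : D.IsSubsystemOf F) : T ≤ S :=
  (isSubsystemOf_iff_isMap.1 h T id (isMap_id D le_rfl)).le

theorem innerFusionSystem_le (F : FusionSystem S) : innerFusionSystem S ≤ F := by
  rintro P φ ⟨hP, a, ha, h⟩
  exact mem_hom_of_isMap (isMap_conj F hP ha) h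

/-! ### Conjugacy in the system -/

theorem isConj_iff : F.IsConj P Q ↔ ∃ f, IsIso F P Q f := by
  constructor
  · rintro ⟨φ, hφ, rfl⟩
    refine ⟨homFun φ, isMap_of_mem hφ, Set.ext fun y => ⟨?_, ?_⟩⟩
    · rintro ⟨x, hx, rfl⟩
      exact ⟨⟨x, hx⟩, (homFun_mem φ hx).symm⟩
    · rintro ⟨x, rfl⟩
      exact ⟨x, x.2, homFun_coe φ x⟩
  · rintro ⟨f, ⟨φ, hφ, hf⟩, he⟩
    refine ⟨φ, hφ, SetLike.coe_injective (he ▸ ?_)⟩
    ext y
    constructor
    · rintro ⟨x, rfl⟩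
      exact ⟨x, x.2, (hf x).symm⟩
    · rintro ⟨x, hx, rfl⟩
      exact ⟨⟨x, hx⟩, hf _⟩

theorem IsIso.isConj (h : IsIso F P Q f) : F.IsConj P Q := isConj_iff.2 ⟨f, h⟩

theorem isConj_refl (F : FusionSystem S) (hP : P ≤ S) : F.IsConj P P := (isIso_id F hP).isConj

theorem isConj_symm (h : F.IsConj P Q) : F.IsConj Q P := by
  obtain ⟨f, hf⟩ := isConj_iff.1 h
  obtain ⟨g, hg, -, -⟩ := hf.exists_symm
  exact hg.isConj

theorem isConj_trans (h₁ : F.IsConj P Q) (h₂ : F.IsConj Q R) : F.IsConj P R := by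
  obtain ⟨f, hf⟩ := isConj_iff.1 h₁
  obtain ⟨g, hg⟩ := isConj_iff.1 h₂
  exact (hf.comp hg).isConj

theorem le_of_isConj_left (h : F.IsConj P Q) : P ≤ S := by
  obtain ⟨f, hf⟩ := isConj_iff.1 h
  exact hf.source_le

theorem le_of_isConj_right (h : F.IsConj P Q) : Q ≤ S := by
  obtain ⟨f, hf⟩ := isConj_iff.1 h
  exact hf.target_le

theorem card_eq_of_isConj (h : F.IsConj P Q) : Nat.card P = Nat.card Q := by
  obtain ⟨f, hf⟩ := isConj_iff.1 h
  exact hf.card_eq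

theorem finite_of_le (hP : P ≤ S) [Finite S] : Finite P :=
  Finite.of_injective _ (Subgroup.inclusion_injective hP)

/-! ### Centralizers and normalizers in S -/

theorem mem_centralizerIn {x : Ω} : x ∈ centralizerIn S P ↔ x ∈ S ∧ ∀ y ∈ P, y * x = x * y := by
  simp [centralizerIn, Subgroup.mem_centralizer_iff]

theorem mem_normalizerIn {x : Ω} :
    x ∈ normalizerIn S P ↔ x ∈ S ∧ ∀ y, y ∈ P ↔ x * y * x⁻¹ ∈ P := by
  simp [normalizerIn, Subgroup.mem_normalizer_iff]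

theorem mem_normalizer_of_maps [Finite P] {x : Ω} (h : ∀ y ∈ P, x * y * x⁻¹ ∈ P) :
    x ∈ Subgroup.normalizer (P : Set Ω) := by
  rw [Subgroup.mem_normalizer_iff]
  intro y
  refine ⟨h y, fun hy => ?_⟩
  have hb : Function.Bijective fun z : P => (⟨x * z * x⁻¹, h z z.2⟩ : P) :=
    Finite.injective_iff_bijective.1 fun a b hab => Subtype.ext <| by
      simpa using congrArg Subtype.val hab
  obtain ⟨z, hz⟩ := hb.2 ⟨_, hy⟩
  have : (z : Ω) = y := by simpa using congrArg Subtype.val hz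
  exact this ▸ z.2

theorem conj_mem_of_mem_normalizerIn {x y : Ω} (hx : x ∈ normalizerIn S P) (hy : y ∈ P) :
    x * y * x⁻¹ ∈ P := ((mem_normalizerIn.1 hx).2 y).1 hy

theorem conj_symm_mem_of_mem_normalizerIn {x y : Ω} (hx : x ∈ normalizerIn S P) (hy : y ∈ P) :
    x⁻¹ * y * x ∈ P := by
  simpa using conj_mem_of_mem_normalizerIn ((normalizerIn S P).inv_mem hx) hy

theorem centralizerIn_le_normalizerIn : centralizerIn S P ≤ normalizerIn S P := by
  intro x hx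
  rw [mem_centralizerIn] at hx
  refine mem_normalizerIn.2 ⟨hx.1, fun y => ⟨fun hy => ?_, fun hy => ?_⟩⟩
  · rw [← hx.2 y hy, mul_inv_cancel_right]
    exact hy
  · have : x * y * x⁻¹ = y := mul_left_cancel (a := x) (by simpa using (hx.2 _ hy).symm)
    exact this ▸ hy

theorem centralizerIn_le : centralizerIn S P ≤ S := inf_le_left

theorem normalizerIn_le : normalizerIn S P ≤ S := inf_le_left

theorem le_normalizerIn_self (hP : P ≤ S) : P ≤ normalizerIn S P :=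
  le_inf hP Subgroup.le_normalizer

/-- A map defined on `R ≥ P` carries `N_R(P)` into `N_S(f P)`. -/
theorem IsMap.mem_normalizerIn (hf : IsMap F R f) (hPR : P ≤ R) {x : Ω} (hxR : x ∈ R)
    (hx : x ∈ Subgroup.normalizer (P : Set Ω)) : f x ∈ normalizerIn S (imgSub f P) := by
  rw [Subgroup.mem_normalizer_iff] at hx
  have hP := hf.mono hPR
  refine FusionSys.mem_normalizerIn.2 ⟨hf.mem_S hxR, fun y => ⟨fun hy => ?_, fun hy => ?_⟩⟩
  · obtain ⟨a, ha, rfl⟩ := hP.mem_imgSub.1 hy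
    exact hP.mem_imgSub.2 ⟨_, (hx a).1 ha, hf.map_conj hxR (hPR ha)⟩
  · obtain ⟨a, ha, he⟩ := hP.mem_imgSub.1 hy
    have hb : x⁻¹ * a * x ∈ P := (hx _).2 (by simpa [mul_assoc] using ha)
    refine hP.mem_imgSub.2 ⟨_, hb, ?_⟩
    rw [hf.map_mul (R.mul_mem (R.inv_mem hxR) (hPR ha)) hxR, hf.map_mul (R.inv_mem hxR) (hPR ha),
      hf.map_inv hxR, he]
    group

theorem IsMap.mem_centralizerIn (hf : IsMap F R f) (hPR : P ≤ R) {x : Ω} (hxR : x ∈ R)
    (hx : ∀ y ∈ P, y * x = x * y) : f x ∈ centralizerIn S (imgSub f P) := by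
  refine FusionSys.mem_centralizerIn.2 ⟨hf.mem_S hxR, fun y hy => ?_⟩
  obtain ⟨a, ha, rfl⟩ := (hf.mono hPR).mem_imgSub.1 hy
  rw [← hf.map_mul (hPR ha) hxR, hx a ha, hf.map_mul hxR (hPR ha)]

/-! ### Automorphisms of the system -/

/-- An automorphism of a subgroup as a function on the whole group. -/
noncomputable def autMap (α : MulAut P) : Ω → Ω := homFun (P.subtype.comp α.toMonoidHom)

theorem autMap_coe (α : MulAut P) (x : P) : autMap α x = (α x : Ω) :=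
  homFun_coe (P.subtype.comp α.toMonoidHom) x

theorem autMap_apply (α : MulAut P) {x : Ω} (hx : x ∈ P) : autMap α x = (α ⟨x, hx⟩ : Ω) :=
  homFun_mem (P.subtype.comp α.toMonoidHom) hx

theorem autMap_mem (α : MulAut P) {x : Ω} (hx : x ∈ P) : autMap α x ∈ P :=
  autMap_apply α hx ▸ (α ⟨x, hx⟩).2

theorem autMap_mul (α β : MulAut P) {x : Ω} (hx : x ∈ P) :
    autMap (α * β) x = autMap α (autMap β x) := by
  rw [autMap_apply _ hx, autMap_apply β hx, autMap_coe]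
  rfl

theorem autMap_inv_apply (α : MulAut P) {x : Ω} (hx : x ∈ P) :
    autMap α (autMap α⁻¹ x) = x := by
  rw [← autMap_mul α α⁻¹ hx, mul_inv_cancel, autMap_apply _ hx]
  rfl

theorem aut_ext {α β : MulAut P} (h : ∀ x ∈ P, autMap α x = autMap β x) : α = β :=
  MulEquiv.ext fun x => Subtype.ext (by rw [← autMap_coe, ← autMap_coe, h x x.2])

theorem image_autMap (α : MulAut P) : autMap α '' (P : Set Ω) = P := by
  ext x
  exact ⟨fun ⟨y, hy, he⟩ => he ▸ autMap_mem α hy,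
    fun hx => ⟨autMap α⁻¹ x, autMap_mem _ hx, autMap_inv_apply α hx⟩⟩

theorem autGroup_set_subgroup (hP : P ≤ S) {α : MulAut P} (h : α ∈ F.autGroup P) :
    IsMap F P (autMap α) := by
  induction h using Subgroup.closure_induction with
  | mem α hα => exact isMap_of_mem hα
  | one => exact (isMap_id F hP).congr fun x hx => by rw [autMap_apply _ hx]; rfl
  | mul α β _ _ ha hb =>
    exact (hb.comp ha fun x hx => autMap_mem β hx).congr fun x hx => autMap_mul α β hx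
  | inv α _ ha =>
    obtain ⟨g, hg, -, hr⟩ := (IsIso.mk ha (image_autMap α)).exists_symm
    exact hg.isMap.congr fun x hx =>
      ha.injOn (autMap_mem _ hx) (hg.mem hx) ((autMap_inv_apply α hx).trans (hr x hx).symm)

theorem mem_autGroup_of_isMap {α : MulAut P} (h : IsMap F P (autMap α)) : α ∈ F.autGroup P :=
  Subgroup.subset_closure (mem_hom_of_isMap h fun x => (autMap_coe α x).symm)

theorem mem_autGroup_iff (hP : P ≤ S) {α : MulAut P} :
    α ∈ F.autGroup P ↔ IsMap F P (autMap α) :=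
  ⟨autGroup_set_subgroup hP, mem_autGroup_of_isMap⟩

theorem isIso_autMap (hP : P ≤ S) {α : MulAut P} (h : α ∈ F.autGroup P) :
    IsIso F P P (autMap α) := ⟨(mem_autGroup_iff hP).1 h, image_autMap α⟩

/-- The automorphism given by an isomorphism of the system from `P` to itself. -/
theorem IsIso.exists_aut (h : IsIso F P P f) :
    ∃ α ∈ F.autGroup P, ∀ x ∈ P, autMap α x = f x := by
  have he : ∀ x ∈ P, autMap h.equiv x = f x := fun x hx => by rw [autMap_apply _ hx, h.coe_equiv]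
  exact ⟨h.equiv, mem_autGroup_of_isMap (h.isMap.congr he), he⟩

theorem IsMap.image_eq_of_mapsTo [Finite P] (h : IsMap F P f) (hm : ∀ x ∈ P, f x ∈ P) :
    f '' (P : Set Ω) = P :=
  Set.eq_of_subset_of_ncard_le (by rintro y ⟨x, hx, rfl⟩; exact hm x hx)
    (by rw [Set.InjOn.ncard_image h.injOn]) (Set.toFinite _)

/-- The automorphism induced on `P` by conjugation by an element normalizing it. -/
def conjAut {x : Ω} (hx : x ∈ Subgroup.normalizer (P : Set Ω)) : MulAut P where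
  toFun y := ⟨x * y * x⁻¹, (Subgroup.mem_normalizer_iff.1 hx y).1 y.2⟩
  invFun y := ⟨x⁻¹ * y * x, by
    simpa using (Subgroup.mem_normalizer_iff.1 (inv_mem hx) y).1 y.2⟩
  left_inv y := Subtype.ext (by simp [mul_assoc])
  right_inv y := Subtype.ext (by simp [mul_assoc])
  map_mul' y z := Subtype.ext (by simp [mul_assoc])

theorem coe_conjAut {x : Ω} (hx : x ∈ Subgroup.normalizer (P : Set Ω)) (y : P) :
    ((conjAut hx y : P) : Ω) = x * y * x⁻¹ := rfl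

theorem autMap_conjAut {x : Ω} (hx : x ∈ Subgroup.normalizer (P : Set Ω)) {y : Ω} (hy : y ∈ P) :
    autMap (conjAut hx) y = conjMap x y := by rw [autMap_apply _ hy]; rfl

theorem conjAut_mem_autGroup (F : FusionSystem S) (hP : P ≤ S) {x : Ω} (hx : x ∈ normalizerIn S P) :
    conjAut hx.2 ∈ F.autGroup P :=
  mem_autGroup_of_isMap ((isMap_conj F hP hx.1).congr fun _ hy => autMap_conjAut _ hy)

theorem conjAut_mul {x y : Ω} (hx : x ∈ Subgroup.normalizer (P : Set Ω))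
    (hy : y ∈ Subgroup.normalizer (P : Set Ω)) :
    conjAut (mul_mem hx hy) = conjAut hx * conjAut hy :=
  MulEquiv.ext fun z => Subtype.ext (by simp [MulAut.mul_apply, coe_conjAut, mul_assoc])

/-- The homomorphism `N_Ω(P) → Aut(P)` given by conjugation. -/
def conjAutHom (P : Subgroup Ω) : Subgroup.normalizer (P : Set Ω) →* MulAut P :=
  MonoidHom.mk' (fun x => conjAut x.2) fun x y => conjAut_mul x.2 y.2

theorem mem_autInducedBy {K : Subgroup Ω} {α : MulAut P} :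
    α ∈ autInducedBy K P ↔
      ∃ g ∈ K, ∃ hg : g ∈ Subgroup.normalizer (P : Set Ω), α = conjAut hg := by
  constructor
  · intro h
    induction h using Subgroup.closure_induction with
    | mem α hα =>
      obtain ⟨g, hg, he⟩ := hα
      have hn : g ∈ Subgroup.normalizer (P : Set Ω) := by
        rw [Subgroup.mem_normalizer_iff]
        intro y
        refine ⟨fun hy => he ⟨y, hy⟩ ▸ (α ⟨y, hy⟩).2, fun hy => ?_⟩
        have hz := he (α.symm ⟨_, hy⟩)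
        rw [MulEquiv.apply_symm_apply] at hz
        have : y = (α.symm ⟨_, hy⟩ : P) := by simpa using hz
        exact this ▸ (α.symm ⟨_, hy⟩).2
      exact ⟨g, hg, hn, MulEquiv.ext fun y => Subtype.ext (he y)⟩
    | one =>
      exact ⟨1, K.one_mem, one_mem _, MulEquiv.ext fun y => Subtype.ext (by simp [coe_conjAut])⟩
    | mul α β _ _ ha hb =>
      obtain ⟨a, haK, han, rfl⟩ := ha
      obtain ⟨b, hbK, hbn, rfl⟩ := hb
      exact ⟨a * b, K.mul_mem haK hbK, mul_mem han hbn, (conjAut_mul han hbn).symm⟩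
    | inv α _ ha =>
      obtain ⟨a, haK, han, rfl⟩ := ha
      exact ⟨a⁻¹, K.inv_mem haK, inv_mem han, ((conjAutHom P).map_inv ⟨a, han⟩).symm⟩
  · rintro ⟨g, hg, hn, rfl⟩
    exact Subgroup.subset_closure ⟨g, hg, fun _ => rfl⟩

theorem autInducedBy_le_autGroup (F : FusionSystem S) (hP : P ≤ S) :
    autInducedBy S P ≤ F.autGroup P := by
  intro α hα
  obtain ⟨g, hg, hn, rfl⟩ := mem_autInducedBy.1 hα
  exact conjAut_mem_autGroup F hP ⟨hg, hn⟩

/-! ### Extenders and receptive subgroups -/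

/-- `x ∈ N_f`: `x ∈ N_S(P)` and its action on `P` transported through `f` is induced by an element of `S`. -/
def InExt (S P : Subgroup Ω) (f : Ω → Ω) (x : Ω) : Prop :=
  x ∈ S ∧ x ∈ Subgroup.normalizer (P : Set Ω) ∧
    ∃ h ∈ S, ∀ y ∈ P, f (x * y * x⁻¹) = h * f y * h⁻¹

theorem mem_extender_iff {φ : P →* Ω} (hφ : ∀ y : P, φ y = f y) {x : Ω} :
    x ∈ extender S P φ ↔ InExt S P f x := by
  constructor
  · intro h
    induction h using Subgroup.closure_induction with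
    | mem x hx =>
      obtain ⟨h1, h2, h, hh, he⟩ := hx
      refine ⟨h1, h2, h, hh, fun y hy => ?_⟩
      have hy' : x * y * x⁻¹ ∈ P := (Subgroup.mem_normalizer_iff.1 h2 y).1 hy
      have := he ⟨y, hy⟩ hy'
      rw [hφ, hφ] at this
      exact this
    | one => exact ⟨S.one_mem, one_mem _, 1, S.one_mem, fun y _ => by simp⟩
    | mul a b _ _ ha hb =>
      obtain ⟨a1, a2, h, hh, hae⟩ := ha
      obtain ⟨b1, b2, k, hk, hbe⟩ := hb
      refine ⟨S.mul_mem a1 b1, mul_mem a2 b2, h * k, S.mul_mem hh hk, fun y hy => ?_⟩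
      have hy' : b * y * b⁻¹ ∈ P := (Subgroup.mem_normalizer_iff.1 b2 y).1 hy
      rw [show a * b * y * (a * b)⁻¹ = a * (b * y * b⁻¹) * a⁻¹ by group, hae _ hy', hbe y hy]
      group
    | inv a _ ha =>
      obtain ⟨a1, a2, h, hh, hae⟩ := ha
      refine ⟨S.inv_mem a1, inv_mem a2, h⁻¹, S.inv_mem hh, fun y hy => ?_⟩
      have hy' : a⁻¹ * y * a⁻¹⁻¹ ∈ P := (Subgroup.mem_normalizer_iff.1 (inv_mem a2) y).1 hy
      have := hae _ hy'
      rw [show a * (a⁻¹ * y * a⁻¹⁻¹) * a⁻¹ = y by group] at this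
      rw [this]
      group
  · rintro ⟨h1, h2, h, hh, he⟩
    refine Subgroup.subset_closure ⟨h1, h2, h, hh, fun y hy => ?_⟩
    rw [hφ, hφ]
    exact he y y.2

theorem le_normalizerIn_of_mem_extender {φ : P →* Ω} :
    extender S P φ ≤ normalizerIn S P :=
  (Subgroup.closure_le _).2 fun _ hx => ⟨hx.1, hx.2.1⟩

theorem IsMap.inExt_of_mem (hf : IsMap F P f) {x : Ω} (hx : x ∈ P) : InExt S P f x :=
  ⟨hf.le hx, Subgroup.le_normalizer hx, f x, hf.mem_S hx, fun _ hy => hf.map_conj hx hy⟩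

theorem IsMap.inExt_of_centralizes (hf : IsMap F P f) {x : Ω} (hx : x ∈ centralizerIn S P) :
    InExt S P f x :=
  ⟨hx.1, (centralizerIn_le_normalizerIn hx).2, 1, S.one_mem, fun y hy => by
    rw [← (FusionSys.mem_centralizerIn.1 hx).2 y hy]; simp⟩

/-- An element of a subgroup `R ≥ P` on which a map extending `f` is defined lies in `N_f`. -/
theorem IsMap.inExt_of_extends {f' : Ω → Ω} (hf' : IsMap F R f') (hPR : P ≤ R)
    (he : ∀ y ∈ P, f' y = f y) {x : Ω} (hxR : x ∈ R) (hx : x ∈ Subgroup.normalizer (P : Set Ω)) :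
    InExt S P f x :=
  ⟨hf'.le hxR, hx, f' x, hf'.mem_S hxR, fun y hy => by
    rw [← he _ ((Subgroup.mem_normalizer_iff.1 hx y).1 hy), ← he y hy,
      hf'.map_conj hxR (hPR hy)]⟩

/-- Extension axiom for a receptive subgroup. -/
theorem receptive_extend (hQ : F.IsReceptive Q) (hf : IsIso F P Q f) {N : Subgroup Ω}
    (hN : ∀ x ∈ N, InExt S P f x) :
    ∃ g, IsMap F (N ⊔ P) g ∧ ∀ y ∈ P, g y = f y := by
  obtain ⟨φ, hφ, hφf⟩ := hf.isMap
  have hr : φ.range = Q := by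
    apply SetLike.coe_injective
    rw [← hf.image_eq]
    ext y
    constructor
    · rintro ⟨x, rfl⟩
      exact ⟨x, x.2, (hφf x).symm⟩
    · rintro ⟨x, hx, rfl⟩
      exact ⟨⟨x, hx⟩, hφf _⟩
  obtain ⟨ψ, hψ, he⟩ := hQ.2 P φ hφ hr
  have hPe : P ≤ extender S P φ := fun x hx => (mem_extender_iff hφf).2 (hf.isMap.inExt_of_mem hx)
  refine ⟨homFun ψ, (isMap_of_mem hψ).mono (sup_le (fun x hx => (mem_extender_iff hφf).2 (hN x hx)) hPe),
    fun y hy => ?_⟩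
  rw [homFun_mem ψ (hPe hy), he y hy (hPe hy)]
  exact hφf ⟨y, hy⟩

theorem receptive_of_extend (hQS : Q ≤ S)
    (h : ∀ (P : Subgroup Ω) (f : Ω → Ω) (N : Subgroup Ω), IsIso F P Q f → P ≤ N →
      (∀ x, x ∈ N ↔ InExt S P f x) → ∃ g, IsMap F N g ∧ ∀ y ∈ P, g y = f y) :
    F.IsReceptive Q := by
  refine ⟨hQS, fun P φ hφ hr => ?_⟩
  have hiso : IsIso F P Q (homFun φ) := by
    refine ⟨isMap_of_mem hφ, ?_⟩
    rw [← hr]
    ext y
    constructor
    · rintro ⟨x, hx, rfl⟩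
      exact ⟨⟨x, hx⟩, (homFun_mem φ hx).symm⟩
    · rintro ⟨x, rfl⟩
      exact ⟨x, x.2, homFun_coe φ x⟩
  have hiff : ∀ x, x ∈ extender S P φ ↔ InExt S P (homFun φ) x := fun x =>
    mem_extender_iff fun y => (homFun_coe φ y).symm
  obtain ⟨g, hg, he⟩ := h P _ _ hiso (fun x hx => (hiff x).2 (hiso.isMap.inExt_of_mem hx)) hiff
  obtain ⟨ψ, hψ, hψe⟩ := hg
  exact ⟨ψ, hψ, fun x hP hN => (hψe ⟨x, hN⟩).trans ((he x hP).trans (homFun_mem φ hP))⟩

/-! ### Normal, central, strongly closed, in terms of `IsMap` -/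

theorem isNormal_iff : F.IsNormal Q ↔ Q ≤ S ∧ ∀ P f, IsMap F P f →
    ∃ g, IsMap F (P ⊔ Q) g ∧ (∀ x ∈ P, g x = f x) ∧ g '' (Q : Set Ω) = Q := by
  constructor
  · rintro ⟨hQ, h⟩
    refine ⟨hQ, fun P f hf => ?_⟩
    obtain ⟨φ, hφ, hφf⟩ := hf
    obtain ⟨ψ, hψ, he, hm⟩ := h P φ hφ
    refine ⟨homFun ψ, isMap_of_mem hψ, fun x hx => ?_, ?_⟩
    · rw [homFun_mem ψ (le_sup_left (b := Q) hx)]
      exact (he ⟨x, hx⟩).trans (hφf _)
    · conv_rhs => rw [← hm]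
      ext y
      constructor
      · rintro ⟨x, hx, rfl⟩
        exact ⟨⟨x, le_sup_right (a := P) hx⟩, hx, (homFun_mem ψ _).symm⟩
      · rintro ⟨x, hx, rfl⟩
        exact ⟨x, hx, homFun_coe ψ x⟩
  · rintro ⟨hQ, h⟩
    refine ⟨hQ, fun P φ hφ => ?_⟩
    obtain ⟨g, ⟨ψ, hψ, hψg⟩, he, hm⟩ := h P _ (isMap_of_mem hφ)
    refine ⟨ψ, hψ, fun x => (hψg _).trans ((he x x.2).trans (homFun_coe φ x)),
      SetLike.coe_injective ?_⟩
    rw [← hm]
    ext y
    constructor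
    · rintro ⟨x, hx, rfl⟩
      exact ⟨x, hx, (hψg x).symm⟩
    · rintro ⟨x, hx, rfl⟩
      exact ⟨⟨x, le_sup_right (a := P) hx⟩, hx, hψg _⟩

theorem isCentral_iff : F.IsCentral Q ↔ Q ≤ S ∧ ∀ P f, IsMap F P f →
    ∃ g, IsMap F (P ⊔ Q) g ∧ (∀ x ∈ P, g x = f x) ∧ ∀ x ∈ Q, g x = x := by
  constructor
  · rintro ⟨hQ, h⟩
    refine ⟨hQ, fun P f hf => ?_⟩
    obtain ⟨φ, hφ, hφf⟩ := hf
    obtain ⟨ψ, hψ, he, hm⟩ := h P φ hφ
    refine ⟨homFun ψ, isMap_of_mem hψ, fun x hx => ?_, fun x hx => ?_⟩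
    · rw [homFun_mem ψ (le_sup_left (b := Q) hx)]
      exact (he ⟨x, hx⟩).trans (hφf _)
    · rw [homFun_mem ψ (le_sup_right (a := P) hx)]
      exact hm ⟨x, hx⟩
  · rintro ⟨hQ, h⟩
    refine ⟨hQ, fun P φ hφ => ?_⟩
    obtain ⟨g, ⟨ψ, hψ, hψg⟩, he, hm⟩ := h P _ (isMap_of_mem hφ)
    exact ⟨ψ, hψ, fun x => (hψg _).trans ((he x x.2).trans (homFun_coe φ x)),
      fun x => (hψg _).trans (hm x x.2)⟩

theorem stronglyClosed_iff : F.StronglyClosed P ↔
    P ≤ S ∧ ∀ R f, R ≤ P → IsMap F R f → ∀ x ∈ R, f x ∈ P := by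
  constructor
  · rintro ⟨hP, h⟩
    refine ⟨hP, fun R f hR ⟨φ, hφ, hf⟩ x hx => ?_⟩
    exact hf ⟨x, hx⟩ ▸ h R hR φ hφ ⟨x, hx⟩
  · rintro ⟨hP, h⟩
    exact ⟨hP, fun R hR φ hφ x => homFun_coe φ x ▸ h R _ hR (isMap_of_mem hφ) x x.2⟩

theorem weaklyClosed_iff : F.WeaklyClosed P ↔ P ≤ S ∧ ∀ f, IsMap F P f → imgSub f P = P := by
  have key : ∀ {φ : P →* Ω} {f : Ω → Ω}, φ ∈ F.Hom P → (∀ x : P, φ x = f x) →
      φ.range = imgSub f P := by
    intro φ f hφ hf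
    exact SetLike.coe_injective (by
      rw [(show IsMap F P f from ⟨φ, hφ, hf⟩).coe_imgSub]
      ext y
      exact ⟨fun ⟨x, hx⟩ => ⟨x, x.2, (hf x).symm.trans hx⟩,
        fun ⟨x, hx, he⟩ => ⟨⟨x, hx⟩, (hf _).trans he⟩⟩)
  constructor
  · rintro ⟨hP, h⟩
    exact ⟨hP, fun f ⟨φ, hφ, hf⟩ => (key hφ hf).symm.trans (h φ hφ)⟩
  · rintro ⟨hP, h⟩
    exact ⟨hP, fun φ hφ => (key hφ fun x => (homFun_coe φ x).symm).trans (h _ (isMap_of_mem hφ))⟩

/-! ### The fusion system of a group -/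

theorem isMap_group_iff {G : Type*} [Group G] {S P : Subgroup G} {f : G → G} :
    IsMap (groupFusionSystem S) P f ↔
      P ≤ S ∧ ∃ a : G, ∀ x ∈ P, a * x * a⁻¹ ∈ S ∧ f x = a * x * a⁻¹ := by
  constructor
  · rintro ⟨φ, ⟨hP, hS, a, ha⟩, hf⟩
    exact ⟨hP, a, fun x hx => ⟨ha ⟨x, hx⟩ ▸ hS _, (hf ⟨x, hx⟩).symm.trans (ha _)⟩⟩
  · rintro ⟨hP, a, ha⟩
    exact ⟨conjHom P a, ⟨hP, fun x => (ha x x.2).1, a, fun _ => rfl⟩, fun x => (ha x x.2).2.symm⟩

theorem isMap_subgroup_iff {H T : Subgroup Ω} {hTH : T ≤ H} :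
    IsMap (fusionSystemOfSubgroup H T hTH) P f ↔
      P ≤ T ∧ ∃ a ∈ H, ∀ x ∈ P, a * x * a⁻¹ ∈ T ∧ f x = a * x * a⁻¹ := by
  constructor
  · rintro ⟨φ, ⟨hP, hS, a, haH, ha⟩, hf⟩
    exact ⟨hP, a, haH, fun x hx => ⟨ha ⟨x, hx⟩ ▸ hS _, (hf ⟨x, hx⟩).symm.trans (ha _)⟩⟩
  · rintro ⟨hP, a, haH, ha⟩
    exact ⟨conjHom P a, ⟨hP, fun x => (ha x x.2).1, a, haH, fun _ => rfl⟩,
      fun x => (ha x x.2).2.symm⟩

theorem isMap_inner_iff : IsMap (innerFusionSystem S) P f ↔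
    P ≤ S ∧ ∃ a ∈ S, ∀ x ∈ P, f x = a * x * a⁻¹ := by
  constructor
  · rintro ⟨φ, ⟨hP, a, haS, ha⟩, hf⟩
    exact ⟨hP, a, haS, fun x hx => (hf ⟨x, hx⟩).symm.trans (ha _)⟩
  · rintro ⟨hP, a, haS, ha⟩
    exact (isMap_conj _ hP haS).congr ha

end Cfsg.Agent.FusionSys
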