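import Cfsg.Agent.FusionSys.Normal

/-!
Centric subgroups: overgroups, uniqueness of extensions up to `Z(Q)`, and comparison of a saturated subsystem
with the ambient system on centric subgroups.
-/

set_option autoImplicit false

namespace Cfsg.Agent.FusionSys

open Cfsg Cfsg.FusionSystem Set

variable {Ω : Type*} [Group Ω] {S : Subgroup Ω} {F E : FusionSystem S} {P Q R : Subgroup Ω}
  {f g : Ω → Ω}

theorem isCentric_of_le (hQ : F.IsCentric Q) (hQP : Q ≤ P) (hP : P ≤ S) : F.IsCentric P := by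
  refine ⟨hP, fun R hR x hx => ?_⟩
  obtain ⟨f, hf⟩ := isConj_iff.1 hR
  have hi := (hf.isMap.mono hQP).isIso
  obtain ⟨hxS, hxc⟩ := mem_centralizerIn.1 hx
  have h1 : x ∈ imgSub f Q := hQ.2 _ hi.isConj (mem_centralizerIn.2 ⟨hxS, fun y hy => by
    obtain ⟨z, hz, rfl⟩ := hi.exists_preimage hy
    exact hxc _ (hf.mem (hQP hz))⟩)
  obtain ⟨z, hz, rfl⟩ := hi.exists_preimage h1
  exact hf.mem (hQP hz)

/-- `f' = f ∘ c_z` on `P` for some `z ∈ Z(Q)`: normal case. -/
theorem exists_center_twist_normal [Finite S] {p : ℕ} [Fact p.Prime] (hS : IsPGroup p S)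
    (hF : F.IsSaturated p) {f' : Ω → Ω} (hQP : Q ≤ P) (hPn : P ≤ Subgroup.normalizer (Q : Set Ω))
    (hQ : F.IsCentric Q) (hf : IsMap F P f) (hf' : IsMap F P f') (he : ∀ x ∈ Q, f x = f' x) :
    ∃ z ∈ Q, (∀ y ∈ Q, y * z = z * y) ∧ ∀ x ∈ P, f' x = f (z * x * z⁻¹) := by
  have hPS := hf.le
  haveI := finite_of_le hPS
  haveI := finite_of_le hQ.1
  have hQ' := (hf.mono hQP).isIso
  have hC : centralizerIn S (imgSub f Q) ≤ imgSub f Q := hQ.2 _ hQ'.isConj
  -- the two maps have the same image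
  have hd : ∀ x ∈ P, ∃ y ∈ Q, f y = (f x)⁻¹ * f' x := by
    intro x hx
    refine (hf.mono hQP).mem_imgSub.1 (hC (mem_centralizerIn.2
      ⟨S.mul_mem (S.inv_mem (hf.mem_S hx)) (hf'.mem_S hx), fun y hy => ?_⟩))
    obtain ⟨q, hq, rfl⟩ := (hf.mono hQP).mem_imgSub.1 hy
    have hq' : x * q * x⁻¹ ∈ Q := (Subgroup.mem_normalizer_iff.1 (hPn hx) q).1 hq
    have h1 : f x * f q * (f x)⁻¹ = f' x * f q * (f' x)⁻¹ := by
      rw [← hf.map_conj hx (hQP hq), he _ hq', hf'.map_conj hx (hQP hq), he q hq]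
    calc f q * ((f x)⁻¹ * f' x) = (f x)⁻¹ * (f x * f q * (f x)⁻¹) * f' x := by group
      _ = (f x)⁻¹ * f' x * f q := by rw [h1]; group
  obtain ⟨k, hk, hkf, hfk⟩ := hf.isIso.exists_symm
  have him : ∀ x ∈ P, f' x ∈ imgSub f P := by
    intro x hx
    obtain ⟨y, hy, hye⟩ := hd x hx
    refine hf.mem_imgSub.2 ⟨x * y, P.mul_mem hx (hQP hy), ?_⟩
    rw [hf.map_mul hx (hQP hy), hye, mul_inv_cancel_left]
  have hα : IsIso F P P (k ∘ f') :=
    isIso_of_mapsTo (hf'.comp hk.isMap him) fun x hx => hk.mem (him x hx)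
  obtain ⟨α, hαF, hαe⟩ := hα.exists_aut
  have hαQ : ∀ q ∈ Q, autMap α q = q := fun q hq => by
    rw [hαe q (hQP hq), Function.comp_apply, ← he q hq, hkf q (hQP hq)]
  have hαd : ∀ x ∈ P, ∃ q ∈ Q, autMap α x = x * q := by
    intro x hx
    obtain ⟨y, hy, hye⟩ := hd x hx
    refine ⟨y, hy, ?_⟩
    rw [hαe x hx, Function.comp_apply, show f' x = f (x * y) by
      rw [hf.map_mul hx (hQP hy), hye, mul_inv_cancel_left], hkf _ (P.mul_mem hx (hQP hy))]
  have hαp : ∃ n : ℕ, α ^ p ^ n = 1 := by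
    have hpow : ∀ x ∈ P, ∀ q ∈ Q, autMap α x = x * q →
        ∀ m : ℕ, autMap (α ^ m) x = x * q ^ m := by
      intro x hx q hq hxq m
      induction m with
      | zero =>
        rw [pow_zero, pow_zero, autMap_apply _ hx, mul_one]
        rfl
      | succ m ih =>
        rw [pow_succ', autMap_mul _ _ hx, ih,
          ((mem_autGroup_iff hPS).1 hαF).map_mul hx (P.pow_mem (hQP hq) m),
          hαQ _ (Q.pow_mem hq m), hxq, pow_succ', mul_assoc]
    obtain ⟨n, hn⟩ := IsPGroup.iff_card.1 (hS.to_le hQ.1)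
    refine ⟨n, aut_ext fun x hx => ?_⟩
    obtain ⟨q, hq, hxq⟩ := hαd x hx
    have h1 : q ^ p ^ n = 1 := by
      rw [← hn]
      exact congrArg Subtype.val (pow_card_eq_one' (x := (⟨q, hq⟩ : Q)))
    rw [hpow x hx q hq hxq, h1, mul_one, autMap_apply _ hx]
    rfl
  obtain ⟨P', hPP', hP'⟩ := exists_isFullyNormalized F hPS
  obtain ⟨u, hu⟩ := isConj_iff.1 hPP'
  haveI := finite_autGroup F hP'.1
  obtain ⟨n, hn⟩ := hαp
  have hXp : IsPGroup p ((Subgroup.zpowers (hu.autEquiv α)).subgroupOf (F.autGroup P')) := by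
    refine IsPGroup.of_equiv ?_ (Subgroup.subgroupOfEquivOfLe
      (Subgroup.zpowers_le.2 (hu.autEquiv_mem_autGroup hαF))).symm
    haveI := finite_mulAut_of_le hP'.1
    refine IsPGroup.iff_card.2 ?_
    rw [Nat.card_zpowers]
    obtain ⟨i, -, hi⟩ := (Nat.dvd_prime_pow (Fact.out : p.Prime)).1
      (orderOf_dvd_of_pow_eq_one (show hu.autEquiv α ^ p ^ n = 1 by rw [← map_pow, hn, map_one]))
    exact ⟨i, hi⟩
  obtain ⟨T', hT'⟩ := hXp.exists_le_sylow
  obtain ⟨-, T, hT⟩ := isFullyAutomized_of_isFullyNormalized hS hF hP'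
  obtain ⟨δ, hδ⟩ := MulAction.exists_smul_eq (F.autGroup P') T' T
  have hmem : (δ : MulAut P') * hu.autEquiv α * (δ : MulAut P')⁻¹ ∈ autInducedBy S P' := by
    have : δ * ⟨_, hu.autEquiv_mem_autGroup hαF⟩ * δ⁻¹ ∈
        ((δ • T' : Sylow p (F.autGroup P')) : Subgroup (F.autGroup P')) := by
      rw [Sylow.coe_subgroup_smul]
      exact ⟨_, hT' (show (⟨_, hu.autEquiv_mem_autGroup hαF⟩ : F.autGroup P') ∈ _ from
        Subgroup.mem_subgroupOf.2 (Subgroup.mem_zpowers _)), rfl⟩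
    rw [hδ, hT] at this
    exact this
  obtain ⟨a, haS, han, hae⟩ := mem_autInducedBy.1 hmem
  have hw : IsIso F P P' (autMap (δ : MulAut P') ∘ u) := hu.comp (isIso_autMap hP'.1 δ.2)
  have key : ∀ x ∈ P, (autMap (δ : MulAut P') ∘ u) (autMap α x) =
      a * (autMap (δ : MulAut P') ∘ u) x * a⁻¹ := by
    intro x hx
    rw [Function.comp_apply, Function.comp_apply, ← hu.autMap_autEquiv α hx,
      ← autMap_mul _ _ (hu.mem hx), ← conjMap_apply, ← autMap_conjAut han (autMap_mem _ (hu.mem hx)),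
      ← hae, ← autMap_mul _ _ (hu.mem hx), inv_mul_cancel_right]
  have hwQ := (hw.isMap.mono hQP).isIso
  have ha : a ∈ centralizerIn S (imgSub (autMap (δ : MulAut P') ∘ u) Q) := by
    refine mem_centralizerIn.2 ⟨haS, fun y hy => ?_⟩
    obtain ⟨q, hq, rfl⟩ := hwQ.exists_preimage hy
    have := key q (hQP hq)
    rw [hαQ q hq] at this
    calc (autMap (δ : MulAut P') ∘ u) q * a = a * (autMap (δ : MulAut P') ∘ u) q * a⁻¹ * a := by
          rw [← this]
      _ = a * (autMap (δ : MulAut P') ∘ u) q := by group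
  obtain ⟨z, hz, rfl⟩ := hwQ.exists_preimage (hQ.2 _ hwQ.isConj ha)
  refine ⟨z, hz, fun y hy => ?_, fun x hx => ?_⟩
  · refine hw.isMap.injOn (P.mul_mem (hQP hy) (hQP hz)) (P.mul_mem (hQP hz) (hQP hy)) ?_
    rw [hw.isMap.map_mul (hQP hy) (hQP hz), hw.isMap.map_mul (hQP hz) (hQP hy)]
    exact (mem_centralizerIn.1 ha).2 _ (hwQ.mem hy)
  · have h1 : autMap α x = z * x * z⁻¹ := by
      refine hw.isMap.injOn (autMap_mem α hx)
        (P.mul_mem (P.mul_mem (hQP hz) hx) (P.inv_mem (hQP hz))) ?_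
      rw [key x hx, hw.isMap.map_conj (hQP hz) hx]
    rw [← h1, hαe x hx, Function.comp_apply, hfk _ (him x hx)]

/-- Two maps of a saturated system agreeing on a centric `Q ≤ P` differ by an element of `Z(Q)`. -/
theorem exists_center_twist [Finite S] {p : ℕ} [Fact p.Prime] (hS : IsPGroup p S)
    (hF : F.IsSaturated p) {f' : Ω → Ω} (hQP : Q ≤ P) (hQ : F.IsCentric Q) (hf : IsMap F P f)
    (hf' : IsMap F P f') (he : ∀ x ∈ Q, f x = f' x) :
    ∃ z ∈ Q, (∀ y ∈ Q, y * z = z * y) ∧ ∀ x ∈ P, f' x = f (z * x * z⁻¹) := by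
  have hPS := hf.le
  haveI := finite_of_le hPS
  induction hn : Nat.card P - Nat.card Q using Nat.strong_induction_on generalizing Q f f' with
  | _ n ih =>
  rcases hQP.eq_or_lt with rfl | hlt
  · exact ⟨1, Q.one_mem, fun y _ => by simp, fun x hx => by simp [he x hx]⟩
  set Q₁ := P ⊓ Subgroup.normalizer (Q : Set Ω) with hQ₁
  have hQQ₁ : Q < Q₁ := lt_inf_normalizer_of_lt (hS.to_le hPS) hlt
  have hQ₁S : Q₁ ≤ S := inf_le_left.trans hPS
  obtain ⟨z, hz, hzc, hze⟩ := exists_center_twist_normal hS hF hQQ₁.le inf_le_right hQ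
    (hf.mono inf_le_left) (hf'.mono inf_le_left) he
  have hzP := hQP hz
  have hg : IsMap F P (f ∘ conjMap z) :=
    (isMap_conj F hPS (hPS hzP)).comp hf fun x hx => P.mul_mem (P.mul_mem hzP hx) (P.inv_mem hzP)
  haveI := finite_of_le hQ₁S
  have hlt' : Nat.card P - Nat.card Q₁ < n := by
    have h1 : Nat.card Q < Nat.card Q₁ := by
      by_contra hle
      exact hQQ₁.ne (Subgroup.eq_of_le_of_card_ge hQQ₁.le (not_lt.1 hle))
    have h2 : Nat.card Q₁ ≤ Nat.card P := Subgroup.card_le_of_le inf_le_left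
    omega
  obtain ⟨w, hw, hwc, hwe⟩ := ih _ hlt' (inf_le_left : Q₁ ≤ P) (isCentric_of_le hQ hQQ₁.le hQ₁S) hg hf'
    (fun x hx => (hze x hx).symm) rfl
  have hwQ : w ∈ Q := centralizerIn_le_of_isCentric hQ
    (mem_centralizerIn.2 ⟨hQ₁S hw, fun y hy => hwc y (hQQ₁.le hy)⟩)
  refine ⟨z * w, Q.mul_mem hz hwQ, fun y hy => ?_, fun x hx => ?_⟩
  · rw [← mul_assoc, hzc y hy, mul_assoc, hwc y (hQQ₁.le hy), ← mul_assoc]
  · rw [hwe x hx, Function.comp_apply, conjMap_apply]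
    congr 1
    group

/-- Centric subgroups are fully centralized in every subsystem. -/
theorem isFullyCentralized_of_centric_le [Finite S] (hle : E ≤ F) (hQ : F.IsCentric Q) :
    E.IsFullyCentralized Q := by
  refine ⟨hQ.1, fun R hR => ?_⟩
  have hRF : F.IsConj Q R := by
    obtain ⟨f, hf⟩ := isConj_iff.1 hR
    exact (IsIso.mk (le_iff_isMap.1 hle _ _ hf.isMap) hf.image_eq).isConj
  obtain ⟨f, hf⟩ := isConj_iff.1 (isConj_symm hRF)
  haveI := finite_of_le (S := S) (P := centralizerIn S Q) centralizerIn_le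
  refine card_le_of_mapsTo hf.isMap (hQ.2 R hRF) fun x hx => ?_
  exact hf.mem_centralizerIn_of_extends hf.isMap le_rfl (fun _ _ => rfl) (hQ.2 R hRF hx) hx

theorem isMap_of_centric_restrict [Finite S] {p : ℕ} [Fact p.Prime] (hS : IsPGroup p S)
    (hF : F.IsSaturated p) (hE : E.IsSaturated p) (hle : E ≤ F) (hQ : F.IsCentric Q) (hQR : Q ≤ R)
    (hf : IsMap F R f) (hQf : IsMap E Q f) : IsMap E R f := by
  have hRS := hf.le
  haveI := finite_of_le hRS
  induction hn : Nat.card R - Nat.card Q using Nat.strong_induction_on generalizing Q with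
  | _ n ih =>
  rcases hQR.eq_or_lt with rfl | hlt
  · exact hQf
  set Q₁ := R ⊓ Subgroup.normalizer (Q : Set Ω) with hQ₁
  have hQQ₁ : Q < Q₁ := lt_inf_normalizer_of_lt (hS.to_le hRS) hlt
  have hQ₁S : Q₁ ≤ S := inf_le_left.trans hRS
  have hconj : F.IsConj Q (imgSub f Q) := (hf.mono hQR).isIso.isConj
  obtain ⟨χ, hχ, hχe⟩ := receptive_extend (receptive_of_isFullyCentralized hS hE
    (isFullyCentralized_of_centric_le hle (isCentric_of_isConj hQ hconj))) hQf.isIso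
    (N := Q₁) (fun x hx => (hf.mono inf_le_left).inExt_of_extends hQQ₁.le (fun _ _ => rfl) hx hx.2)
  replace hχ := hχ.mono (le_sup_left : Q₁ ≤ Q₁ ⊔ Q)
  obtain ⟨z, hz, -, hze⟩ := exists_center_twist hS hF hQQ₁.le hQ (hf.mono inf_le_left)
    (le_iff_isMap.1 hle _ _ hχ) (fun x hx => (hχe x hx).symm)
  have hzQ₁ : z ∈ Q₁ := hQQ₁.le hz
  have hf₁ : IsMap E Q₁ f := by
    refine ((isMap_conj E hQ₁S (S.inv_mem (hQ₁S hzQ₁))).comp hχ fun x hx =>
      Q₁.mul_mem (Q₁.mul_mem (Q₁.inv_mem hzQ₁) hx) (Q₁.inv_mem (Q₁.inv_mem hzQ₁))).congr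
      fun x hx => ?_
    rw [Function.comp_apply, conjMap_apply, hze _ (Q₁.mul_mem (Q₁.mul_mem (Q₁.inv_mem hzQ₁) hx)
      (Q₁.inv_mem (Q₁.inv_mem hzQ₁)))]
    congr 1
    group
  haveI := finite_of_le hQ₁S
  have hlt' : Nat.card R - Nat.card Q₁ < n := by
    have h1 : Nat.card Q < Nat.card Q₁ := by
      by_contra hle
      exact hQQ₁.ne (Subgroup.eq_of_le_of_card_ge hQQ₁.le (not_lt.1 hle))
    have h2 : Nat.card Q₁ ≤ Nat.card R := Subgroup.card_le_of_le inf_le_left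
    omega
  exact ih _ hlt' (isCentric_of_le hQ hQQ₁.le hQ₁S) inf_le_left hf₁ rfl

theorem exists_minimal_centric [Finite S] (hP : F.IsCentric P) :
    ∃ Q, Q ≤ P ∧ F.IsCentric Q ∧ ∀ R, R < Q → ¬ F.IsCentric R := by
  haveI := finite_of_le hP.1
  induction hn : Nat.card P using Nat.strong_induction_on generalizing P with
  | _ n ih =>
  by_cases h : ∀ R, R < P → ¬ F.IsCentric R
  · exact ⟨P, le_rfl, hP, h⟩
  push_neg at h
  obtain ⟨R, hR, hRc⟩ := h
  haveI := finite_of_le hRc.1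
  have hlt : Nat.card R < n := by
    rw [← hn]
    by_contra hle
    exact hR.ne (Subgroup.eq_of_le_of_card_ge hR.le (not_lt.1 hle))
  obtain ⟨Q, hQ, h1, h2⟩ := ih _ hlt hRc inferInstance rfl
  exact ⟨Q, hQ.trans hR.le, h1, h2⟩

/-- Saturated subsystems agreeing on minimal centric subgroups are equal. -/
theorem le_of_minimal_centric [Finite S] {p : ℕ} [Fact p.Prime] (hS : IsPGroup p S)
    (hF : F.IsSaturated p) (hE : E.IsSaturated p) (hle : E ≤ F)
    (hmin : ∀ Q, F.IsCentric Q → (∀ R, R < Q → ¬ F.IsCentric R) → ∀ f, IsMap F Q f → IsMap E Q f) :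
    F ≤ E := by
  refine le_of_autGroup_centricRadical hS hF fun P _ hP _ α hα => mem_autGroup_of_isMap ?_
  obtain ⟨Q, hQP, hQ, hQm⟩ := exists_minimal_centric hP
  have hm := (mem_autGroup_iff hP.1).1 hα
  exact isMap_of_centric_restrict hS hF hE hle hQ hQP hm (hmin Q hQ hQm _ (hm.mono hQP))

end Cfsg.Agent.FusionSys
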