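import Cfsg.Agent.FusionSys.KInstances

/-!
Lemmas on the subsystems `N^K_E(Q)` used in inductions on the number of maps: they are proper, their centric
subgroups, normal subgroups, and the decomposition `f = m ∘ h` along a normal subgroup.
-/

set_option autoImplicit false

namespace Cfsg.Agent.FusionSys

open Cfsg Cfsg.FusionSystem Set

universe u

variable {Ω : Type u} [Group Ω] {T T' : Subgroup Ω} {E : FusionSystem T} {E' : FusionSystem T'}
  {Q C P : Subgroup Ω} {K : Subgroup (MulAut Q)} {f : Ω → Ω}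

/-- The graphs of the maps of a system. -/
def mapSet (E : FusionSystem T) : Set (Set (Ω × Ω)) :=
  {G | ∃ P f, IsMap E P f ∧ G = (fun x => (x, f x)) '' (P : Set Ω)}

theorem finite_mapSet [Finite T] (E : FusionSystem T) : (mapSet E).Finite := by
  refine (((T : Set Ω).toFinite.prod (T : Set Ω).toFinite).powerset).subset ?_
  rintro _ ⟨P, f, hf, rfl⟩ _ ⟨x, hx, rfl⟩
  exact ⟨hf.le hx, hf.mem_S hx⟩

theorem ncard_mapSet_lt [Finite T] (hle : ∀ P f, IsMap E' P f → IsMap E P f)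
    (h : ∃ P f, IsMap E P f ∧ ¬ IsMap E' P f) : (mapSet E').ncard < (mapSet E).ncard := by
  refine Set.ncard_lt_ncard ⟨?_, fun hsub => ?_⟩ (finite_mapSet E)
  · rintro _ ⟨P, f, hf, rfl⟩
    exact ⟨P, f, hle P f hf, rfl⟩
  obtain ⟨P, f, hf, hn⟩ := h
  obtain ⟨P', f', hf', he⟩ := hsub ⟨P, f, hf, rfl⟩
  have hP : P' = P := SetLike.coe_injective (by
    have := congrArg (Set.image Prod.fst) he
    simpa [Set.image_image] using this.symm)
  subst hP
  refine hn (hf'.congr fun x hx => ?_)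
  obtain ⟨y, -, hy⟩ := he.le ⟨x, hx, rfl⟩
  obtain ⟨rfl, h2⟩ := Prod.mk.injEq .. ▸ hy
  exact h2.symm

theorem IsKSys.le (h : IsKSys E K E') : T' ≤ T := fun x hx => kNorm_le ((h.mem_iff x).1 hx)

theorem IsKSys.isMap_le (h : IsKSys E K E') {P : Subgroup Ω} {f : Ω → Ω} (hf : IsMap E' P f) :
    IsMap E P f := by
  obtain ⟨-, -, g, hg, he, -⟩ := (h.map_iff P f).1 hf
  exact (hg.mono le_sup_left).congr fun x hx => (he x hx).symm

theorem IsKSys.autGroup_le (h : IsKSys E K E') {R : Subgroup Ω} (hR : R ≤ T') :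
    E'.autGroup R ≤ E.autGroup R := fun _ hα =>
  mem_autGroup_of_isMap (h.isMap_le ((mem_autGroup_iff hR).1 hα))

/-- A strongly closed subgroup contained in `Q` is normal in `N^K_E(Q)`. -/
theorem IsKSys.isNormal [Finite T] (h : IsKSys E K E') (hQT' : Q ≤ T') (hCQ : C ≤ Q)
    (hsc : E.StronglyClosed C) : E'.IsNormal C := by
  refine isNormal_iff.2 ⟨hCQ.trans hQT', fun P f hf => ?_⟩
  obtain ⟨hP, hfT, g, hg, he, hgQ⟩ := (h.map_iff P f).1 hf
  have hC' : C ≤ P ⊔ Q := hCQ.trans le_sup_right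
  refine ⟨g, (h.map_iff _ _).2 ⟨sup_le hP (hCQ.trans hQT'), fun x hx => ?_, g,
    hg.mono (sup_le (sup_le le_sup_left hC') le_sup_right), fun _ _ => rfl, hgQ⟩, he, ?_⟩
  · exact hg.mapsTo_sup (fun a ha => he a ha ▸ hfT a ha) (fun a ha => hQT' (hgQ.mem ha))
      (sup_le le_sup_left hC' hx)
  · haveI := finite_of_le (S := T) (P := C) ((hCQ.trans hQT').trans h.le)
    exact (hg.mono hC').image_eq_of_mapsTo
      fun x hx => (stronglyClosed_iff.1 hsc).2 C g le_rfl (hg.mono hC') x hx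

/-- `Q` is normal in `N^K_E(Q)`. -/
theorem IsKSys.isNormal_self (h : IsKSys E K E') (hQT' : Q ≤ T') : E'.IsNormal Q := by
  refine isNormal_iff.2 ⟨hQT', fun P f hf => ?_⟩
  obtain ⟨hP, hfT, g, hg, he, hgQ⟩ := (h.map_iff P f).1 hf
  refine ⟨g, (h.map_iff _ _).2 ⟨sup_le hP hQT', fun x hx => ?_, g,
    hg.mono (sup_le le_rfl le_sup_right), fun _ _ => rfl, hgQ⟩, he, ?_⟩
  · exact hg.mapsTo_sup (fun a ha => he a ha ▸ hfT a ha) (fun a ha => hQT' (hgQ.mem ha)) hx
  · obtain ⟨κ, -, hκ⟩ := hgQ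
    rw [Set.image_congr hκ, image_autMap]

/-- If `N_E(Q)` contains every map of `E` then `Q` is normal in `E`. -/
theorem isNormal_of_kSys [Finite T] (h : IsKSys E K E') (hQT : Q ≤ T)
    (hall : ∀ P f, IsMap E P f → IsMap E' P f) : E.IsNormal Q := by
  refine isNormal_iff.2 ⟨hQT, fun P f hf => ?_⟩
  obtain ⟨-, -, g, hg, he, hgQ⟩ := (h.map_iff P f).1 (hall P f hf)
  haveI := finite_of_le hQT
  exact ⟨g, hg, he, (hg.mono le_sup_right).image_eq_of_mapsTo fun x hx => hgQ.mem hx⟩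

variable [Finite T] {p : ℕ} [Fact p.Prime]

/-- Centric subgroups of `N_E(Q)` containing `Q` are centric in `E`. -/
theorem isCentric_of_kSys_top (hT : IsPGroup p T) (hE : E.IsSaturated p) (hQn : E.IsFullyNormalized Q)
    (h : IsKSys E (⊤ : Subgroup (MulAut Q)) E') (hQR : Q ≤ P) (hP : E'.IsCentric P) :
    E.IsCentric P := by
  have hPT' := hP.1
  have hPn : P ≤ normalizerIn T Q := fun x hx => mem_kNorm_top.1 ((h.mem_iff x).1 (hPT' hx))
  have hPT : P ≤ T := hPn.trans normalizerIn_le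
  obtain ⟨P₂, hPP₂, hP₂n⟩ := exists_isFullyNormalized E hPT
  obtain ⟨u, hu⟩ := isConj_iff.1 hPP₂
  have huQ := (hu.isMap.mono hQR).isIso
  obtain ⟨v, hv, hvi, hvm⟩ := exists_map_to_fullyNormalized hT hE hQn (isConj_symm huQ.isConj)
  have hP₂Q : P₂ ≤ normalizerIn T (imgSub u Q) := fun y hy => by
    obtain ⟨x, hx, rfl⟩ := hu.exists_preimage hy
    exact hu.isMap.mem_normalizerIn hQR hx (hPn hx).2
  have hvu : IsMap E P (v ∘ u) := hu.isMap.comp hv fun x hx => hP₂Q (hu.mem hx)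
  have hvu' : IsMap E' P (v ∘ u) := by
    refine (h.map_iff _ _).2 ⟨hPT', fun x hx => (h.mem_iff _).2 (mem_kNorm_top.2 (hvm _ (hP₂Q (hu.mem hx)))),
      v ∘ u, hvu.mono (sup_le le_rfl hQR), fun _ _ => rfl, ?_⟩
    refine (onQ_top_iff hvu hQR).2 ?_
    rw [Set.image_comp, huQ.image_eq, hvi.image_eq]
  refine isCentric_of_isConj (isCentric_of_receptive (receptive_of_isFullyNormalized hT hE hP₂n) ?_)
    (isConj_symm hPP₂)
  intro c hc
  obtain ⟨hcT, hcc⟩ := FusionSys.mem_centralizerIn.1 hc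
  have hcN : c ∈ normalizerIn T (imgSub u Q) := by
    refine ⟨hcT, ?_⟩
    haveI := finite_of_le huQ.target_le
    refine mem_normalizer_of_maps fun y hy => ?_
    obtain ⟨x, hx, rfl⟩ := huQ.exists_preimage hy
    rw [← hcc _ (hu.mem (hQR hx)), mul_inv_cancel_right]
    exact huQ.mem hx
  have hvc : v c ∈ imgSub (v ∘ u) P := by
    refine hP.2 _ hvu'.isIso.isConj (FusionSys.mem_centralizerIn.2
      ⟨(h.mem_iff _).2 (mem_kNorm_top.2 (hvm _ hcN)), fun y hy => ?_⟩)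
    obtain ⟨x, hx, rfl⟩ := hvu'.mem_imgSub.1 hy
    rw [Function.comp_apply, ← hv.map_mul (hP₂Q (hu.mem hx)) hcN, hcc _ (hu.mem hx),
      hv.map_mul hcN (hP₂Q (hu.mem hx))]
  obtain ⟨x, hx, he⟩ := hvu'.mem_imgSub.1 hvc
  rw [← hv.injOn (hP₂Q (hu.mem hx)) hcN he]
  exact hu.mem hx

omit [Fact p.Prime] in
theorem mem_centralizerIn_image (hQT : Q ≤ T) (hgQ : ∀ q ∈ Q, f q ∈ Q) (hf : IsMap E P f) (hQP : Q ≤ P)
    {c : Ω} (hcP : c ∈ P) (hc : c ∈ centralizerIn T Q) : f c ∈ centralizerIn T Q := by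
  haveI := finite_of_le hQT
  have hi := isIso_of_mapsTo (hf.mono hQP) hgQ
  refine FusionSys.mem_centralizerIn.2 ⟨hf.mem_S hcP, fun y hy => ?_⟩
  obtain ⟨x, hx, rfl⟩ := hi.exists_preimage hy
  rw [← hf.map_mul (hQP hx) hcP, (FusionSys.mem_centralizerIn.1 hc).2 x hx, hf.map_mul hcP (hQP hx)]

/-- Every map of `E` is a map of `N_E(D C_T(D))` followed by a map acting trivially on the normal
subgroup `D`. -/
theorem exists_decomposition (hT : IsPGroup p T) (hE : E.IsSaturated p) {D : Subgroup Ω}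
    (hD : E.IsNormal D) {f : Ω → Ω} (hf : IsMap E P f) :
    ∃ h m : Ω → Ω, IsMap E (P ⊔ (D ⊔ centralizerIn T D)) h ∧
      (∀ x ∈ D ⊔ centralizerIn T D, h x ∈ D ⊔ centralizerIn T D) ∧
      IsMap E (imgSub h (P ⊔ D)) m ∧ (∀ q ∈ D, m q = q) ∧ (∀ q ∈ D, h q ∈ D) ∧
      ∀ x ∈ P, f x = m (h x) := by
  obtain ⟨hDT, hDx⟩ := isNormal_iff.1 hD
  obtain ⟨f', hf', hf'e, hf'D⟩ := hDx P f hf
  have hn := le_normalizer_of_isNormal hD
  have hDfn : E.IsFullyNormalized D := ⟨hDT, fun R _ => by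
    rw [show normalizerIn T D = T from le_antisymm normalizerIn_le fun x hx => ⟨hx, hn hx⟩]
    exact Subgroup.card_le_of_le normalizerIn_le⟩
  haveI := finite_of_le hDT
  have hDiso : IsIso E D D f' := ⟨hf'.mono le_sup_right, hf'D⟩
  obtain ⟨φ, -, hφf⟩ := hDiso.isMap
  have hN : P ⊔ D ⊔ centralizerIn T D ≤ extender T D φ := sup_le
    (fun x hx => (mem_extender_iff hφf).2
      (hf'.inExt_of_extends le_sup_right (fun _ _ => rfl) hx (hn (hf'.le hx))))
    fun x hx => (mem_extender_iff hφf).2 (hDiso.isMap.inExt_of_centralizes hx)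
  obtain ⟨h, hh, hhe⟩ := receptive_extend (receptive_of_isFullyNormalized hT hE hDfn) hDiso
    (N := P ⊔ D ⊔ centralizerIn T D) fun x hx => (mem_extender_iff hφf).1 (hN hx)
  have hh' : IsMap E (P ⊔ D ⊔ centralizerIn T D) h := hh.mono le_sup_left
  have hDdom : D ≤ P ⊔ D ⊔ centralizerIn T D := le_sup_right.trans le_sup_left
  have hhD : ∀ q ∈ D, h q ∈ D := fun q hq => by
    rw [hhe q hq]
    exact hDiso.mem hq
  obtain ⟨k, hk, hkh⟩ := (hh'.mono (le_sup_left : P ⊔ D ≤ P ⊔ D ⊔ centralizerIn T D)).exists_inv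
  refine ⟨h, f' ∘ k, hh'.mono (sup_le (le_sup_left.trans le_sup_left)
    (sup_le hDdom le_sup_right)), fun x hx => ?_, ?_, fun q hq => ?_, hhD, fun x hx => ?_⟩
  · exact (hh'.mono (sup_le hDdom le_sup_right : D ⊔ centralizerIn T D ≤ _)).mapsTo_sup
      (fun a ha => Subgroup.mem_sup_left (hhD a ha))
      (fun a ha => Subgroup.mem_sup_right (mem_centralizerIn_image hDT hhD hh' hDdom
        (Subgroup.mem_sup_right ha) ha)) hx
  · refine hk.comp hf' fun y hy => ?_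
    obtain ⟨x, hx, rfl⟩ := (hh'.mono le_sup_left).mem_imgSub.1 hy
    rw [hkh x hx]
    exact hx
  · obtain ⟨x, hx, rfl⟩ := hDiso.exists_preimage hq
    show f' (k (f' x)) = f' x
    rw [← hhe x hx, hkh x (Subgroup.mem_sup_right hx)]
    exact (hhe x hx).symm
  · show f x = f' (k (h x))
    rw [hkh x (Subgroup.mem_sup_left hx), hf'e x hx]

end Cfsg.Agent.FusionSys
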