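import Cfsg.Agent.FusionSys.Basic

/-!
Saturated fusion systems over finite `p`-groups: receptive subgroups are fully centralized, the normalizer
map into a fully automized receptive subgroup, and the equivalent forms of saturation.
-/

set_option autoImplicit false

namespace Cfsg.Agent.FusionSys

open Cfsg Cfsg.FusionSystem Set

variable {Ω : Type*} [Group Ω] {S : Subgroup Ω} {F : FusionSystem S} {P Q R : Subgroup Ω}
  {f g : Ω → Ω}

theorem finite_mulAut_of_le [Finite S] (hP : P ≤ S) : Finite (MulAut P) :=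
  haveI := finite_of_le hP
  Finite.of_injective (fun a : MulAut P => ((a : P ≃* P) : P → P)) DFunLike.coe_injective

theorem finite_autGroup [Finite S] (F : FusionSystem S) (hP : P ≤ S) : Finite (F.autGroup P) :=
  haveI := finite_mulAut_of_le hP
  Subtype.finite

/-- `N_S(P) → Aut(P)`. -/
def conjAutIn (S P : Subgroup Ω) : normalizerIn S P →* MulAut P :=
  (conjAutHom P).comp (Subgroup.inclusion inf_le_right)

theorem range_conjAutIn (S P : Subgroup Ω) : (conjAutIn S P).range = autInducedBy S P := by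
  ext α
  rw [mem_autInducedBy]
  exact ⟨fun ⟨⟨x, hx⟩, he⟩ => ⟨x, hx.1, hx.2, he.symm⟩,
    fun ⟨x, hxS, hxn, he⟩ => ⟨⟨x, hxS, hxn⟩, he.symm⟩⟩

theorem conjAutIn_eq_one_iff {x : normalizerIn S P} :
    conjAutIn S P x = 1 ↔ (x : Ω) ∈ centralizerIn S P := by
  rw [mem_centralizerIn]
  constructor
  · intro h
    refine ⟨x.2.1, fun y hy => ?_⟩
    have := congrArg (fun a : MulAut P => ((a ⟨y, hy⟩ : P) : Ω)) h
    have h2 : (x : Ω) * y * (x : Ω)⁻¹ = y := this
    calc y * x = (x * y * (x : Ω)⁻¹) * x := by rw [h2]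
      _ = x * y := by group
  · rintro ⟨-, h⟩
    exact MulEquiv.ext fun y => Subtype.ext (show (x : Ω) * y * (x : Ω)⁻¹ = y by rw [← h y y.2]; group)

theorem ker_conjAutIn (S P : Subgroup Ω) :
    (conjAutIn S P).ker = (centralizerIn S P).subgroupOf (normalizerIn S P) := by
  ext x
  rw [MonoidHom.mem_ker, conjAutIn_eq_one_iff, Subgroup.mem_subgroupOf]

theorem isPGroup_normalizerIn {p : ℕ} (hS : IsPGroup p S) (P : Subgroup Ω) :
    IsPGroup p (normalizerIn S P) := hS.to_le normalizerIn_le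

theorem isPGroup_autInducedBy {p : ℕ} (hS : IsPGroup p S) (P : Subgroup Ω) :
    IsPGroup p (autInducedBy S P) := by
  rw [← range_conjAutIn]
  exact (isPGroup_normalizerIn hS P).of_surjective _ (conjAutIn S P).rangeRestrict_surjective

theorem card_normalizerIn (S P : Subgroup Ω) : Nat.card (normalizerIn S P) =
    Nat.card (autInducedBy S P) * Nat.card (centralizerIn S P) := by
  rw [← range_conjAutIn, Subgroup.card_eq_card_quotient_mul_card_subgroup (conjAutIn S P).ker,
    Nat.card_congr (QuotientGroup.quotientKerEquivRange (conjAutIn S P)).toEquiv, ker_conjAutIn,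
    Nat.card_congr (Subgroup.subgroupOfEquivOfLe centralizerIn_le_normalizerIn).toEquiv]

theorem isFullyAutomized_iff [Finite S] {p : ℕ} [Fact p.Prime] (hS : IsPGroup p S) :
    F.IsFullyAutomized p P ↔
      P ≤ S ∧ ¬ p ∣ (autInducedBy S P).relIndex (F.autGroup P) := by
  constructor
  · rintro ⟨hP, R, hR⟩
    haveI := finite_autGroup F hP
    refine ⟨hP, ?_⟩
    show ¬ p ∣ ((autInducedBy S P).subgroupOf (F.autGroup P)).index
    rw [← hR]
    exact R.not_dvd_index
  · rintro ⟨hP, h⟩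
    exact ⟨hP, ((isPGroup_autInducedBy hS P).of_equiv
      (Subgroup.subgroupOfEquivOfLe (autInducedBy_le_autGroup F hP)).symm).toSylow h, rfl⟩

/-! ### Transport along an isomorphism of the system -/

/-- Transport of automorphisms along a map of the system. -/
noncomputable def IsIso.autEquiv (h : IsIso F P Q f) : MulAut P ≃* MulAut Q := MulAut.congr h.equiv

theorem IsIso.autMap_autEquiv (h : IsIso F P Q f) (α : MulAut P) {x : Ω} (hx : x ∈ P) :
    autMap (h.autEquiv α) (f x) = f (autMap α x) := by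
  rw [autMap_apply _ (h.mem hx), autMap_apply α hx]
  show ((h.equiv (α (h.equiv.symm ⟨f x, h.mem hx⟩)) : Q) : Ω) = _
  rw [show (⟨f x, h.mem hx⟩ : Q) = h.equiv ⟨x, hx⟩ from rfl, MulEquiv.symm_apply_apply]
  rfl

theorem IsIso.autEquiv_mem_autGroup (h : IsIso F P Q f) {α : MulAut P} (hα : α ∈ F.autGroup P) :
    h.autEquiv α ∈ F.autGroup Q := by
  obtain ⟨g, hg, -, hfg⟩ := h.exists_symm
  refine mem_autGroup_of_isMap
    (((hg.comp (isIso_autMap h.source_le hα)).comp h).isMap.congr fun y hy => ?_)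
  show _ = f (autMap α (g y))
  rw [← h.autMap_autEquiv α (hg.mem hy), hfg y hy]

theorem IsIso.map_autGroup (h : IsIso F P Q f) :
    (F.autGroup P).map h.autEquiv.toMonoidHom = F.autGroup Q := by
  refine le_antisymm (Subgroup.map_le_iff_le_comap.2 fun α hα => h.autEquiv_mem_autGroup hα) ?_
  intro β hβ
  obtain ⟨g, hg, hgf, -⟩ := h.exists_symm
  refine ⟨h.autEquiv.symm β, mem_autGroup_of_isMap
    (((h.comp (isIso_autMap h.target_le hβ)).comp hg).isMap.congr fun x hx => ?_),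
    h.autEquiv.apply_symm_apply β⟩
  show _ = g (autMap β (f x))
  rw [show autMap β (f x) = f (autMap (h.autEquiv.symm β) x) by
    rw [← h.autMap_autEquiv _ hx, MulEquiv.apply_symm_apply], hgf _ (autMap_mem _ hx)]

theorem IsIso.card_autGroup (h : IsIso F P Q f) :
    Nat.card (F.autGroup P) = Nat.card (F.autGroup Q) := by
  rw [← h.map_autGroup, Subgroup.card_map_of_injective h.autEquiv.injective]

/-- If `f` extends to `g` on a subgroup containing `x ∈ N_S(P)`, then transport sends `c_x` to `c_{g x}`. -/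
theorem IsIso.autEquiv_conjAut (h : IsIso F P Q f) (hg : IsMap F R g) (hPR : P ≤ R)
    (he : ∀ y ∈ P, g y = f y) {x : Ω} (hxR : x ∈ R) (hx : x ∈ Subgroup.normalizer (P : Set Ω))
    (hgx : g x ∈ Subgroup.normalizer (Q : Set Ω)) : h.autEquiv (conjAut hx) = conjAut hgx := by
  refine aut_ext fun z hz => ?_
  obtain ⟨y, hy, rfl⟩ := h.exists_preimage hz
  rw [h.autMap_autEquiv _ hy, autMap_conjAut _ (h.mem hy), autMap_conjAut _ hy, conjMap_apply,
    conjMap_apply, ← he _ ((Subgroup.mem_normalizer_iff.1 hx y).1 hy), ← he y hy,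
    hg.map_conj hxR (hPR hy)]

/-- Images of `N_S(P)` and `C_S(P)` under a map extending an isomorphism from `P` to `Q`. -/
theorem IsIso.mem_normalizerIn_of_extends (h : IsIso F P Q f) (hg : IsMap F R g) (hPR : P ≤ R)
    (he : ∀ y ∈ P, g y = f y) {x : Ω} (hxR : x ∈ R) (hx : x ∈ Subgroup.normalizer (P : Set Ω)) :
    g x ∈ normalizerIn S Q := by
  have hQ : Q = imgSub g P := (h.congr he).eq_imgSub
  exact hQ ▸ hg.mem_normalizerIn hPR hxR hx

theorem IsIso.mem_centralizerIn_of_extends (h : IsIso F P Q f) (hg : IsMap F R g) (hPR : P ≤ R)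
    (he : ∀ y ∈ P, g y = f y) {x : Ω} (hxR : x ∈ R) (hx : x ∈ centralizerIn S P) :
    g x ∈ centralizerIn S Q := by
  have hQ : Q = imgSub g P := (h.congr he).eq_imgSub
  exact hQ ▸ hg.mem_centralizerIn hPR hxR (FusionSys.mem_centralizerIn.1 hx).2

theorem card_le_of_mapsTo [Finite Q] (hg : IsMap F R g) (hPR : P ≤ R)
    (h : ∀ x ∈ P, g x ∈ Q) : Nat.card P ≤ Nat.card Q :=
  Nat.card_le_card_of_injective (fun x : P => (⟨g x, h x x.2⟩ : Q)) fun _ _ hab =>
    Subtype.ext (hg.injOn (hPR (Subtype.coe_prop _)) (hPR (Subtype.coe_prop _))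
      (congrArg Subtype.val hab))

/-- If a map restricts to an injection `P → Q` and `|Q| ≤ |P|`, it is onto `Q`. -/
theorem exists_preimage_of_card [Finite Q] (hg : IsMap F R g) (hPR : P ≤ R)
    (h : ∀ x ∈ P, g x ∈ Q) (hc : Nat.card Q ≤ Nat.card P) {y : Ω} (hy : y ∈ Q) :
    ∃ x ∈ P, g x = y := by
  let k : P → Q := fun x => ⟨g x, h x x.2⟩
  have hk : Function.Injective k := fun _ _ hab =>
    Subtype.ext (hg.injOn (hPR (Subtype.coe_prop _)) (hPR (Subtype.coe_prop _))
      (congrArg Subtype.val hab))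
  obtain ⟨x, hx⟩ := (hk.bijective_of_nat_card_le hc).2 ⟨y, hy⟩
  exact ⟨x, x.2, congrArg Subtype.val hx⟩

/-! ### Receptive subgroups -/

theorem isFullyCentralized_of_receptive [Finite S] (hP : F.IsReceptive P) :
    F.IsFullyCentralized P := by
  refine ⟨hP.1, fun Q hQ => ?_⟩
  obtain ⟨f, hf⟩ := isConj_iff.1 (isConj_symm hQ)
  obtain ⟨g, hg, he⟩ := receptive_extend hP hf (N := centralizerIn S Q)
    fun x hx => hf.isMap.inExt_of_centralizes hx
  haveI := finite_of_le (S := S) (P := centralizerIn S P) centralizerIn_le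
  exact card_le_of_mapsTo hg le_sup_left fun x hx =>
    hf.mem_centralizerIn_of_extends hg le_sup_right he (le_sup_left (b := Q) hx) hx

/-- If `P` is fully automized and receptive, some map `N_S(Q) → N_S(P)` of the system carries a conjugate
`Q` onto `P`. -/
theorem exists_normalizer_map [Finite S] {p : ℕ} [Fact p.Prime] (hS : IsPGroup p S)
    (hA : F.IsFullyAutomized p P) (hR : F.IsReceptive P) (hQ : F.IsConj Q P) :
    ∃ g, IsMap F (normalizerIn S Q) g ∧ IsIso F Q P g ∧
      ∀ x ∈ normalizerIn S Q, g x ∈ normalizerIn S P := by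
  obtain ⟨hP, T, hT⟩ := hA
  obtain ⟨f, hf⟩ := isConj_iff.1 hQ
  haveI := finite_autGroup F hP
  set A : Subgroup (MulAut P) := (autInducedBy S Q).map hf.autEquiv.toMonoidHom with hAdef
  have hAle : A ≤ F.autGroup P := by
    rw [hAdef, ← hf.map_autGroup]
    exact Subgroup.map_mono (autInducedBy_le_autGroup F hf.source_le)
  obtain ⟨T', hT'⟩ := (((isPGroup_autInducedBy hS Q).map hf.autEquiv.toMonoidHom).of_equiv
    (Subgroup.subgroupOfEquivOfLe hAle).symm).exists_le_sylow
  obtain ⟨χ, hχ⟩ := MulAction.exists_smul_eq (F.autGroup P) T' T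
  have hconj : ∀ a ∈ A, (χ : MulAut P) * a * (χ : MulAut P)⁻¹ ∈ autInducedBy S P := by
    intro a ha
    have h1 : χ • (⟨a, hAle ha⟩ : F.autGroup P) * 1 = χ * ⟨a, hAle ha⟩ * 1 := by rw [smul_eq_mul]
    have h2 : χ * ⟨a, hAle ha⟩ * χ⁻¹ ∈ ((χ • T' : Sylow p (F.autGroup P)) : Subgroup (F.autGroup P)) := by
      rw [Sylow.coe_subgroup_smul]
      exact ⟨_, hT' (show (⟨a, hAle ha⟩ : F.autGroup P) ∈ A.subgroupOf (F.autGroup P) from ha), rfl⟩
    rw [hχ, hT] at h2
    exact h2
  have hf' : IsIso F Q P (autMap (χ : MulAut P) ∘ f) := hf.comp (isIso_autMap hP χ.2)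
  have hN : ∀ x ∈ normalizerIn S Q, InExt S Q (autMap (χ : MulAut P) ∘ f) x := by
    intro x hx
    obtain ⟨k, hkS, hkn, hk⟩ := mem_autInducedBy.1
      (hconj _ ⟨conjAut hx.2, mem_autInducedBy.2 ⟨x, hx.1, hx.2, rfl⟩, rfl⟩)
    refine ⟨hx.1, hx.2, k, hkS, fun y hy => ?_⟩
    have hm : autMap (conjAut hx.2) y = x * y * x⁻¹ := autMap_conjAut hx.2 hy
    have := congrArg (fun a : MulAut P => autMap a (autMap (χ : MulAut P) (f y))) hk
    rw [autMap_conjAut hkn (autMap_mem _ (hf.mem hy)), autMap_mul _ _ (autMap_mem _ (hf.mem hy)),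
      ← autMap_mul _ _ (hf.mem hy), inv_mul_cancel,
      show autMap (1 : MulAut P) (f y) = f y by rw [autMap_apply _ (hf.mem hy)]; rfl,
      autMap_mul _ _ (hf.mem hy)] at this
    show autMap (χ : MulAut P) (f (x * y * x⁻¹)) = k * autMap (χ : MulAut P) (f y) * k⁻¹
    rw [← hm, ← hf.autMap_autEquiv _ hy]
    exact this
  obtain ⟨g, hg, he⟩ := receptive_extend hR hf' hN
  refine ⟨g, hg.mono le_sup_left, ?_, fun x hx => ?_⟩
  · exact hf'.congr he
  · exact hf'.mem_normalizerIn_of_extends hg le_sup_right he (le_sup_left (b := Q) hx) hx.2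

theorem isFullyNormalized_of_automized_receptive [Finite S] {p : ℕ} [Fact p.Prime]
    (hS : IsPGroup p S) (hA : F.IsFullyAutomized p P) (hR : F.IsReceptive P) :
    F.IsFullyNormalized P := by
  refine ⟨hR.1, fun Q hQ => ?_⟩
  obtain ⟨g, hg, -, hm⟩ := exists_normalizer_map hS hA hR (isConj_symm hQ)
  haveI := finite_of_le (S := S) (P := normalizerIn S P) normalizerIn_le
  exact card_le_of_mapsTo hg le_rfl hm

theorem exists_isFullyNormalized [Finite S] (F : FusionSystem S) (hP : P ≤ S) :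
    ∃ Q, F.IsConj P Q ∧ F.IsFullyNormalized Q := by
  haveI : Finite {Q : Subgroup Ω // Q ≤ S} :=
    Finite.of_equiv _ (Subgroup.MapSubtype.orderIso S).toEquiv
  haveI : Finite {Q : Subgroup Ω // F.IsConj P Q} := Finite.of_injective
    (fun Q => (⟨Q.1, le_of_isConj_right Q.2⟩ : {Q : Subgroup Ω // Q ≤ S}))
    fun a b h => Subtype.ext (congrArg Subtype.val h :)
  haveI : Nonempty {Q : Subgroup Ω // F.IsConj P Q} := ⟨⟨P, isConj_refl F hP⟩⟩
  obtain ⟨Q, hQ⟩ := Finite.exists_max
    fun Q : {Q : Subgroup Ω // F.IsConj P Q} => Nat.card (normalizerIn S Q.1)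
  exact ⟨Q.1, Q.2, le_of_isConj_right Q.2, fun R hR => hQ ⟨R, isConj_trans Q.2 hR⟩⟩

theorem isFullyCentralized_iff_of_isConj [Finite S] (hP : F.IsFullyCentralized P)
    (hPQ : F.IsConj P Q) :
    F.IsFullyCentralized Q ↔ Nat.card (centralizerIn S Q) = Nat.card (centralizerIn S P) :=
  ⟨fun h => le_antisymm (hP.2 Q hPQ) (h.2 P (isConj_symm hPQ)),
    fun h => ⟨le_of_isConj_right hPQ, fun R hR => h ▸ hP.2 R (isConj_trans hPQ hR)⟩⟩

section Saturated

variable [Finite S] {p : ℕ} [Fact p.Prime]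

theorem receptive_of_isFullyCentralized (hS : IsPGroup p S) (hF : F.IsSaturated p)
    (hP : F.IsFullyCentralized P) : F.IsReceptive P := by
  obtain ⟨Q, hPQ, hA, hR⟩ := hF P hP.1
  obtain ⟨u, hu, hui, hum⟩ := exists_normalizer_map hS hA hR hPQ
  haveI := finite_of_le (S := S) (P := centralizerIn S Q) centralizerIn_le
  have hC : ∀ y ∈ centralizerIn S Q, ∃ x ∈ centralizerIn S P, u x = y := fun y hy =>
    exists_preimage_of_card hu centralizerIn_le_normalizerIn
      (fun x hx => hui.mem_centralizerIn_of_extends hu (le_normalizerIn_self hP.1) (fun _ _ => rfl)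
        (centralizerIn_le_normalizerIn hx) hx) (hP.2 Q hPQ) hy
  refine receptive_of_extend hP.1 fun T f N hf hTN hN => ?_
  have huf : IsIso F T Q (u ∘ f) := hf.comp hui
  have hN' : ∀ x ∈ N, InExt S T (u ∘ f) x ∧
      ∃ h ∈ normalizerIn S P, ∀ y ∈ T, f (x * y * x⁻¹) = h * f y * h⁻¹ := by
    intro x hx
    obtain ⟨hxS, hxn, h, hhS, he⟩ := (hN x).1 hx
    haveI := finite_of_le hP.1
    have hhP : h ∈ normalizerIn S P := by
      refine ⟨hhS, mem_normalizer_of_maps fun z hz => ?_⟩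
      obtain ⟨y, hy, rfl⟩ := hf.exists_preimage hz
      exact he y hy ▸ hf.mem ((Subgroup.mem_normalizer_iff.1 hxn y).1 hy)
    refine ⟨⟨hxS, hxn, u h, hu.mem_S hhP, fun y hy => ?_⟩, h, hhP, he⟩
    show u (f (x * y * x⁻¹)) = u h * u (f y) * (u h)⁻¹
    rw [he y hy, hu.map_conj hhP (le_normalizerIn_self hP.1 (hf.mem hy))]
  obtain ⟨k, hk, hke⟩ := receptive_extend hR huf fun x hx => (hN' x hx).1
  rw [sup_of_le_left hTN] at hk
  have hsurj : ∀ x ∈ N, ∃ z ∈ normalizerIn S P, u z = k x := by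
    intro x hx
    obtain ⟨-, h, hhP, he⟩ := hN' x hx
    have hn := ((hN x).1 hx).2.1
    have hmem : (u h)⁻¹ * k x ∈ centralizerIn S Q := by
      refine FusionSys.mem_centralizerIn.2
        ⟨S.mul_mem (S.inv_mem (hu.mem_S hhP)) (hk.mem_S hx), fun z hz => ?_⟩
      obtain ⟨y, hy, rfl⟩ := huf.exists_preimage hz
      have h1 : k x * k y * (k x)⁻¹ = u h * u (f y) * (u h)⁻¹ := by
        rw [← hk.map_conj hx (hTN hy), hke _ ((Subgroup.mem_normalizer_iff.1 hn y).1 hy)]
        show u (f (x * y * x⁻¹)) = _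
        rw [he y hy, hu.map_conj hhP (le_normalizerIn_self hP.1 (hf.mem hy))]
      rw [hke y hy] at h1
      replace h1 : k x * u (f y) * (k x)⁻¹ = u h * u (f y) * (u h)⁻¹ := h1
      show u (f y) * ((u h)⁻¹ * k x) = (u h)⁻¹ * k x * u (f y)
      calc u (f y) * ((u h)⁻¹ * k x) = (u h)⁻¹ * (u h * u (f y) * (u h)⁻¹) * k x := by group
        _ = (u h)⁻¹ * k x * u (f y) := by rw [← h1]; group
    obtain ⟨c, hc, he'⟩ := hC _ hmem
    refine ⟨h * c, mul_mem hhP (centralizerIn_le_normalizerIn hc), ?_⟩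
    rw [hu.map_mul hhP (centralizerIn_le_normalizerIn hc), he', mul_inv_cancel_left]
  obtain ⟨v, hv, hvu, -⟩ := (hu.isIso).exists_symm
  refine ⟨v ∘ k, hk.comp hv.isMap fun x hx => ?_, fun y hy => ?_⟩
  · obtain ⟨z, hz, hzx⟩ := hsurj x hx
    exact hu.mem_imgSub.2 ⟨z, hz, hzx⟩
  · show v (k y) = f y
    rw [hke y hy]
    exact hvu _ (le_normalizerIn_self hP.1 (hf.mem hy))

theorem isFullyAutomized_of_isFullyNormalized (hS : IsPGroup p S) (hF : F.IsSaturated p)
    (hP : F.IsFullyNormalized P) : F.IsFullyAutomized p P := by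
  obtain ⟨Q, hPQ, hA, hR⟩ := hF P hP.1
  obtain ⟨u, hu, hui, hum⟩ := exists_normalizer_map hS hA hR hPQ
  haveI := finite_of_le (S := S) (P := normalizerIn S Q) normalizerIn_le
  rw [isFullyAutomized_iff hS] at hA ⊢
  refine ⟨hP.1, ?_⟩
  have hmap : (autInducedBy S P).map hui.autEquiv.toMonoidHom = autInducedBy S Q := by
    apply le_antisymm
    · rintro _ ⟨α, hα, rfl⟩
      obtain ⟨x, hxS, hxn, rfl⟩ := mem_autInducedBy.1 hα
      have hq := hum x ⟨hxS, hxn⟩
      exact mem_autInducedBy.2 ⟨u x, hq.1, hq.2,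
        hui.autEquiv_conjAut hu (le_normalizerIn_self hP.1) (fun _ _ => rfl) ⟨hxS, hxn⟩ hxn hq.2⟩
    · intro β hβ
      obtain ⟨y, hyS, hyn, rfl⟩ := mem_autInducedBy.1 hβ
      obtain ⟨x, hx, rfl⟩ := exists_preimage_of_card hu le_rfl hum (hP.2 Q hPQ) ⟨hyS, hyn⟩
      exact ⟨conjAut hx.2, mem_autInducedBy.2 ⟨x, hx.1, hx.2, rfl⟩,
        hui.autEquiv_conjAut hu (le_normalizerIn_self hP.1) (fun _ _ => rfl) hx hx.2 hyn⟩
  rw [← Subgroup.relIndex_map_map_of_injective _ _ (f := hui.autEquiv.toMonoidHom)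
    hui.autEquiv.injective, hmap, hui.map_autGroup]
  exact hA.2

theorem isFullyCentralized_of_isFullyNormalized (hS : IsPGroup p S) (hF : F.IsSaturated p)
    (hP : F.IsFullyNormalized P) : F.IsFullyCentralized P := by
  refine ⟨hP.1, fun R hR => ?_⟩
  obtain ⟨Q, hPQ, hA, hQR⟩ := hF P hP.1
  obtain ⟨u, hu, hui, hum⟩ := exists_normalizer_map hS hA hQR hPQ
  haveI := finite_of_le (S := S) (P := normalizerIn S Q) normalizerIn_le
  refine le_trans ((isFullyCentralized_of_receptive hQR).2 R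
    (isConj_trans (isConj_symm hPQ) hR)) ?_
  obtain ⟨v, hv, -, huv⟩ := hu.isIso.exists_symm
  haveI := finite_of_le (S := S) (P := centralizerIn S P) centralizerIn_le
  have hmem : ∀ y ∈ centralizerIn S Q, ∃ x ∈ centralizerIn S P, u x = y := by
    intro y hy
    obtain ⟨x, hx, rfl⟩ :=
      exists_preimage_of_card hu le_rfl hum (hP.2 Q hPQ) (centralizerIn_le_normalizerIn hy)
    refine ⟨x, FusionSys.mem_centralizerIn.2 ⟨hx.1, fun z hz => ?_⟩, rfl⟩
    have hz' := le_normalizerIn_self hP.1 hz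
    refine hu.injOn (mul_mem hz' hx) (mul_mem hx hz') ?_
    rw [hu.map_mul hz' hx, hu.map_mul hx hz']
    exact (FusionSys.mem_centralizerIn.1 hy).2 _ (hui.mem hz)
  choose x hx hxy using hmem
  exact Nat.card_le_card_of_injective (fun y : centralizerIn S Q => (⟨x y y.2, hx y y.2⟩ :
    centralizerIn S P)) fun a b hab => Subtype.ext (by
      rw [← hxy a a.2, ← hxy b b.2, show x a a.2 = x b b.2 from congrArg Subtype.val hab])

theorem receptive_of_isFullyNormalized (hS : IsPGroup p S) (hF : F.IsSaturated p)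
    (hP : F.IsFullyNormalized P) : F.IsReceptive P :=
  receptive_of_isFullyCentralized hS hF (isFullyCentralized_of_isFullyNormalized hS hF hP)

/-- In a saturated system every conjugate of a fully normalized `P` has a map `N_S(Q) → N_S(P)` onto `P`. -/
theorem exists_map_to_fullyNormalized (hS : IsPGroup p S) (hF : F.IsSaturated p)
    (hP : F.IsFullyNormalized P) (hQ : F.IsConj Q P) :
    ∃ g, IsMap F (normalizerIn S Q) g ∧ IsIso F Q P g ∧
      ∀ x ∈ normalizerIn S Q, g x ∈ normalizerIn S P :=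
  exists_normalizer_map hS (isFullyAutomized_of_isFullyNormalized hS hF hP)
    (receptive_of_isFullyNormalized hS hF hP) hQ

theorem isSaturated_iff_fullyNormalized (hS : IsPGroup p S) : F.IsSaturated p ↔
    ((∀ P : Subgroup Ω, F.IsFullyNormalized P → F.IsFullyCentralized P ∧ F.IsFullyAutomized p P) ∧
      ∀ P : Subgroup Ω, F.IsFullyCentralized P → F.IsReceptive P) := by
  refine ⟨fun hF => ⟨fun P hP => ⟨isFullyCentralized_of_isFullyNormalized hS hF hP,
    isFullyAutomized_of_isFullyNormalized hS hF hP⟩,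
    fun P hP => receptive_of_isFullyCentralized hS hF hP⟩, fun ⟨h1, h2⟩ P hP => ?_⟩
  obtain ⟨Q, hPQ, hQ⟩ := exists_isFullyNormalized F hP
  exact ⟨Q, hPQ, (h1 Q hQ).2, h2 Q (h1 Q hQ).1⟩

end Saturated

end Cfsg.Agent.FusionSys
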