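import Cfsg.Prelude.Def_FusionSystem
import Mathlib.GroupTheory.Nilpotent

/-!
Strongly `p`-embedded subgroups of finite groups (in the form of `Cfsg.IsStronglyPEmbedded`): the criterion by
normalizers of `p`-subgroups, control of conjugation, and triviality of the `p`-core.
-/

set_option autoImplicit false

namespace Cfsg.Agent.FusionSys

open Cfsg

variable {X : Type*} [Group X]

theorem lt_inf_normalizer_of_lt {p : ℕ} [Fact p.Prime] {A B : Subgroup X} [Finite B]
    (hB : IsPGroup p B) (h : A < B) : A < B ⊓ Subgroup.normalizer (A : Set X) := by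
  refine lt_of_le_of_ne (le_inf h.le Subgroup.le_normalizer) fun he => ?_
  haveI : Group.IsNilpotent B := hB.isNilpotent
  have hne : A.subgroupOf B < ⊤ :=
    lt_top_iff_ne_top.2 fun ht => h.not_ge (Subgroup.subgroupOf_eq_top.1 ht)
  obtain ⟨x, hx, hxA⟩ :=
    SetLike.exists_of_lt (Group.normalizerCondition_of_isNilpotent (G := B) _ hne)
  refine hxA (show (x : X) ∈ A from he.ge ⟨x.2, Subgroup.mem_normalizer_iff.2 fun y => ⟨fun hy => ?_, fun hy => ?_⟩⟩)
  · exact (Subgroup.mem_normalizer_iff.1 hx ⟨y, h.le hy⟩).1 hy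
  · have hyB : y ∈ B := by
      have := B.mul_mem (B.mul_mem (B.inv_mem x.2) (h.le hy)) x.2
      simpa [mul_assoc] using this
    exact (Subgroup.mem_normalizer_iff.1 hx ⟨y, hyB⟩).2 hy

theorem pRankLE_zero_iff [Finite X] {p : ℕ} [hp : Fact p.Prime] {Q : Subgroup X}
    (hQ : IsPGroup p Q) : PRankLE p 0 Q ↔ Q = ⊥ := by
  constructor
  · intro h
    by_contra hne
    haveI : Nontrivial Q := (Subgroup.nontrivial_iff_ne_bot Q).2 hne
    obtain ⟨n, hn, hcard⟩ := hQ.nontrivial_iff_card.1 inferInstance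
    obtain ⟨x, hx⟩ := exists_prime_orderOf_dvd_card' (G := Q) p
      (hcard ▸ dvd_pow_self p hn.ne')
    have := h (Subgroup.zpowers x) inferInstance (fun a ha => by
      obtain ⟨k, rfl⟩ := ha
      show (x ^ k) ^ p = 1
      rw [← zpow_natCast, ← zpow_mul, mul_comm, zpow_mul, zpow_natCast, ← hx, pow_orderOf_eq_one,
        one_zpow])
    rw [Nat.card_zpowers, hx, pow_zero] at this
    exact absurd hp.out.two_le (by omega)
  · rintro rfl A _ _
    simp

theorem isStronglyPEmbedded_iff [Finite X] {p : ℕ} [Fact p.Prime] {Y : Subgroup X} :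
    IsStronglyPEmbedded p Y ↔ p ∣ Nat.card X ∧ Y ≠ ⊤ ∧
      ∃ P : Sylow p X, ∀ Q : Subgroup X, Q ≤ P → Q ≠ ⊥ → Subgroup.normalizer (Q : Set X) ≤ Y := by
  refine and_congr_right fun _ => and_congr_right fun _ => exists_congr fun P => ?_
  rw [kGeneratedCore, iSup_le_iff, Subtype.forall]
  refine forall_congr' fun Q => ⟨fun h hQ hne => h ⟨hQ, ?_⟩, fun h hQ => h hQ.1 ?_⟩
  · rw [Nat.sub_self, pRankLE_zero_iff (P.isPGroup'.to_le hQ)]
    exact hne
  · have := hQ.2
    rw [Nat.sub_self, pRankLE_zero_iff (P.isPGroup'.to_le hQ.1)] at this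
    exact this

/-- A strongly `p`-embedded subgroup may be chosen over any given Sylow subgroup. -/
theorem exists_stronglyEmbedded_over [Finite X] {p : ℕ} [Fact p.Prime] {Y : Subgroup X}
    (hY : IsStronglyPEmbedded p Y) (A : Sylow p X) :
    ∃ Y' : Subgroup X, Y' ≠ ⊤ ∧ (A : Subgroup X) ≠ ⊥ ∧
      ∀ Q : Subgroup X, Q ≤ A → Q ≠ ⊥ → Subgroup.normalizer (Q : Set X) ≤ Y' := by
  obtain ⟨hdvd, hne, P, hP⟩ := isStronglyPEmbedded_iff.1 hY
  obtain ⟨g, hg⟩ := MulAction.exists_smul_eq X P A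
  let c : X ≃* X := MulAut.conj g
  refine ⟨Y.map c.toMonoidHom, ?_, A.ne_bot_of_dvd_card hdvd, fun Q hQ hQne => ?_⟩
  · intro h
    refine hne (Subgroup.map_injective (f := c.toMonoidHom) c.injective ?_)
    rw [h, Subgroup.map_top_of_surjective _ c.surjective]
  · have hmap : (Q.map c.symm.toMonoidHom).map c.toMonoidHom = Q := by
      ext x
      simp [Subgroup.mem_map]
    have h1 : Q.map c.symm.toMonoidHom ≤ P := by
      rintro _ ⟨x, hx, rfl⟩
      have hxA := hQ hx
      rw [← hg, Sylow.coe_subgroup_smul] at hxA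
      obtain ⟨y, hy, rfl⟩ := hxA
      show c.symm (c y) ∈ (P : Subgroup X)
      rw [MulEquiv.symm_apply_apply]
      exact hy
    rw [← hmap, ← Subgroup.map_equiv_normalizer_eq]
    refine Subgroup.map_mono (hP _ h1 fun h => hQne ?_)
    rw [← hmap, h, Subgroup.map_bot]

/-- An element conjugating a nontrivial subgroup of `A` into `A` lies in a subgroup containing the normalizers
of all nontrivial subgroups of the Sylow subgroup `A`. -/
theorem mem_of_conj_mem [Finite X] {p : ℕ} [Fact p.Prime] (A : Sylow p X) {Y : Subgroup X}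
    (hY : ∀ Q : Subgroup X, Q ≤ A → Q ≠ ⊥ → Subgroup.normalizer (Q : Set X) ≤ Y)
    {Q : Subgroup X} {g : X} (hQ : Q ≤ A) (hne : Q ≠ ⊥) (hg : ∀ x ∈ Q, g * x * g⁻¹ ∈ (A : Subgroup X)) :
    g ∈ Y := by
  induction hn : Nat.card (A : Subgroup X) - Nat.card Q using Nat.strong_induction_on
    generalizing Q g with
  | _ n ih =>
  have hA0 : (A : Subgroup X) ≠ ⊥ := fun h => hne (le_bot_iff.1 (hQ.trans h.le))
  have hAY : (A : Subgroup X) ≤ Y := Subgroup.le_normalizer.trans (hY _ le_rfl hA0)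
  set c := (MulAut.conj g).toMonoidHom with hc
  have hcinj : Function.Injective c := (MulAut.conj g).injective
  have hQ'A : Q.map c ≤ A := by
    rintro _ ⟨x, hx, rfl⟩
    exact hg x hx
  rcases hQ.eq_or_lt with rfl | hlt
  · refine hY _ le_rfl hA0 ?_
    rw [Subgroup.mem_normalizer_iff_map_conj_eq]
    exact Subgroup.eq_of_le_of_card_ge hQ'A (le_of_eq (Subgroup.card_map_of_injective hcinj).symm)
  · have hK : Q < (A : Subgroup X) ⊓ Subgroup.normalizer (Q : Set X) :=
      lt_inf_normalizer_of_lt A.isPGroup' hlt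
    set K := (A : Subgroup X) ⊓ Subgroup.normalizer (Q : Set X)
    have hne' : Q.map c ≠ ⊥ := fun h => hne (Subgroup.map_injective hcinj (h.trans (Subgroup.map_bot c).symm))
    have hK'Y : K.map c ≤ Y := by
      refine le_trans ?_ (hY _ hQ'A hne')
      rw [← Subgroup.map_equiv_normalizer_eq Q (MulAut.conj g)]
      exact Subgroup.map_mono inf_le_right
    obtain ⟨T, hT⟩ := (((A.isPGroup'.to_le inf_le_left : IsPGroup p K).map c).of_equiv
      (Subgroup.subgroupOfEquivOfLe hK'Y).symm).exists_le_sylow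
    obtain ⟨e, he⟩ := MulAction.exists_smul_eq Y T (A.subtype hAY)
    have he' : ∀ x ∈ K, ((e : X) * g) * x * ((e : X) * g)⁻¹ ∈ (A : Subgroup X) := by
      intro x hx
      have : e * ⟨c x, hK'Y ⟨x, hx, rfl⟩⟩ * e⁻¹ ∈ ((e • T : Sylow p Y) : Subgroup Y) := by
        rw [Sylow.coe_subgroup_smul]
        exact ⟨_, hT (show (⟨c x, hK'Y ⟨x, hx, rfl⟩⟩ : Y) ∈ (K.map c).subgroupOf Y from ⟨x, hx, rfl⟩), rfl⟩
      rw [he] at this
      rw [show (e : X) * g * x * ((e : X) * g)⁻¹ = (e : X) * (g * x * g⁻¹) * (e : X)⁻¹ by group]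
      exact this
    have hlt' : Nat.card (A : Subgroup X) - Nat.card K < n := by
      have h1 : Nat.card Q < Nat.card K := by
        by_contra hle
        exact hK.ne (Subgroup.eq_of_le_of_card_ge hK.le (not_lt.1 hle))
      have h2 : Nat.card K ≤ Nat.card (A : Subgroup X) := Subgroup.card_le_of_le inf_le_left
      omega
    have hm := ih _ hlt' inf_le_left (fun h => hne (le_bot_iff.1 (hK.le.trans h.le))) he' rfl
    simpa using Y.mul_mem (Y.inv_mem e.2) hm

theorem pCore_eq_bot_of_stronglyEmbedded [Finite X] {p : ℕ} [Fact p.Prime] {Y : Subgroup X}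
    (hY : IsStronglyPEmbedded p Y) {N : Subgroup X} [N.Normal] (hN : IsPGroup p N) : N = ⊥ := by
  by_contra hne
  obtain ⟨hdvd, hY', P, hP⟩ := isStronglyPEmbedded_iff.1 hY
  apply hY'
  rw [eq_top_iff, ← Subgroup.normalizer_eq_top_iff.2 (inferInstance : N.Normal)]
  exact hP N (IsPGroup.le_sylow_of_normal hN P) hne

end Cfsg.Agent.FusionSys
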