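import Cfsg.Agent.FusionSys.Saturated
import Cfsg.Agent.FusionSys.StronglyEmbedded

/-!
Alperin's fusion theorem for saturated fusion systems: the induction principle, the dichotomy between essential
subgroups and subgroups whose automorphisms extend, and the generation forms.
-/

set_option autoImplicit false

namespace Cfsg.Agent.FusionSys

open Cfsg Cfsg.FusionSystem Set

variable {Ω : Type*} [Group Ω] {S : Subgroup Ω} {F E : FusionSystem S} {P Q R : Subgroup Ω}
  {f g : Ω → Ω}

/-- A fusion system from a property of maps closed under composition and inverses that holds for the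
conjugations by elements of `S` (restriction follows). -/
def subSys (F : FusionSystem S) (Φ : Subgroup Ω → (Ω → Ω) → Prop)
    (congr : ∀ (P : Subgroup Ω) (f g : Ω → Ω), Φ P f → (∀ x ∈ P, g x = f x) → Φ P g)
    (conj : ∀ (P : Subgroup Ω) (a : Ω), P ≤ S → a ∈ S → Φ P (conjMap a))
    (comp : ∀ (P Q : Subgroup Ω) (f g : Ω → Ω), IsMap F P f → IsMap F Q g → (∀ x ∈ P, f x ∈ Q) →
      Φ P f → Φ Q g → Φ P (g ∘ f))
    (inv : ∀ (P Q : Subgroup Ω) (f g : Ω → Ω), IsIso F P Q f → IsIso F Q P g →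
      (∀ x ∈ P, g (f x) = x) → Φ P f → Φ Q g) : FusionSystem S where
  Hom P := {φ | φ ∈ F.Hom P ∧ Φ P (homFun φ)}
  le_of_mem h := F.le_of_mem h.1
  injective_of_mem h := F.injective_of_mem h.1
  conj_mem {P a} hP ha := ⟨F.conj_mem hP ha,
    congr P _ _ (conj P a hP ha) fun x hx => homFun_mem (conjHom P a) hx⟩
  comp_mem {P Q φ ψ} hφ hψ h := ⟨F.comp_mem hφ.1 hψ.1 h,
    congr P _ _ (comp P Q _ _ (isMap_of_mem hφ.1) (isMap_of_mem hψ.1)
      (fun x hx => homFun_mem φ hx ▸ h ⟨x, hx⟩) hφ.2 hψ.2) fun x hx => by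
      rw [homFun_mem _ hx, Function.comp_apply, homFun_mem φ hx, homFun_mem ψ (h ⟨x, hx⟩)]
      rfl⟩
  inv_mem {P φ} hφ := by
    obtain ⟨ψ, hψ, he⟩ := F.inv_mem hφ.1
    have hi : IsIso F P φ.range (homFun φ) := by
      refine ⟨isMap_of_mem hφ.1, Set.ext fun y => ⟨?_, ?_⟩⟩
      · rintro ⟨x, hx, rfl⟩
        exact ⟨⟨x, hx⟩, (homFun_mem φ hx).symm⟩
      · rintro ⟨x, rfl⟩
        exact ⟨x, x.2, homFun_coe φ x⟩
    have hinv : ∀ x ∈ P, homFun ψ (homFun φ x) = x := fun x hx => by
      rw [homFun_mem φ hx, homFun_mem ψ ⟨⟨x, hx⟩, rfl⟩]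
      exact he ⟨x, hx⟩
    refine ⟨ψ, ⟨hψ, inv P φ.range _ _ hi ⟨isMap_of_mem hψ, Set.ext fun y => ⟨?_, ?_⟩⟩ hinv hφ.2⟩, he⟩
    · rintro ⟨x, hx, rfl⟩
      obtain ⟨z, hz, rfl⟩ := hi.exists_preimage hx
      exact (hinv z hz).symm ▸ hz
    · exact fun hy => ⟨homFun φ y, hi.mem hy, hinv y hy⟩

variable [Finite S] {p : ℕ} [Fact p.Prime]

theorem lt_normalizerIn (hS : IsPGroup p S) (hP : P < S) : P < normalizerIn S P :=
  lt_inf_normalizer_of_lt hS hP

theorem card_lt_card_normalizerIn (hS : IsPGroup p S) (hP : P < S) :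
    Nat.card P < Nat.card (normalizerIn S P) := by
  have h := lt_normalizerIn hS hP
  haveI := finite_of_le (S := S) (P := normalizerIn S P) normalizerIn_le
  by_contra hle
  exact h.ne (Subgroup.eq_of_le_of_card_ge h.le (not_lt.1 hle))

theorem eq_S_of_isConj (h : F.IsConj S Q) : Q = S :=
  Subgroup.eq_of_le_of_card_ge (le_of_isConj_right h) (card_eq_of_isConj h).le

theorem isFullyNormalized_S (F : FusionSystem S) : F.IsFullyNormalized S :=
  ⟨le_rfl, fun Q hQ => by rw [eq_S_of_isConj hQ]⟩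

/-- Alperin induction: `F ≤ E` if `E` contains the automorphisms of every fully normalized subgroup, granted
that it contains all maps of `F` with larger sources. -/
theorem le_of_autGroup_fullyNormalized (hS : IsPGroup p S) (hF : F.IsSaturated p)
    (h : ∀ R, F.IsFullyNormalized R →
      (∀ (P : Subgroup Ω) (f : Ω → Ω), Nat.card R < Nat.card P → IsMap F P f → IsMap E P f) →
      F.autGroup R ≤ E.autGroup R) : F ≤ E := by
  rw [le_iff_isMap]
  intro P f
  induction hn : Nat.card S - Nat.card P using Nat.strong_induction_on generalizing P f with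
  | _ n ih =>
  intro hf
  have hPS := hf.le
  have big : ∀ (P' : Subgroup Ω) (f' : Ω → Ω), Nat.card P < Nat.card P' → IsMap F P' f' → IsMap E P' f' := by
    intro P' f' hlt hf'
    have := Subgroup.card_le_of_le hf'.le
    exact ih _ (by omega) P' f' rfl hf'
  rcases hPS.eq_or_lt with rfl | hlt
  · obtain ⟨α, hα, hαe⟩ := (IsIso.mk hf (hf.image_eq_of_mapsTo fun x hx => hf.mem_S hx)).exists_aut
    exact ((mem_autGroup_iff le_rfl).1 (h _ (isFullyNormalized_S F)
      (fun P' f' hlt hf' => absurd (Subgroup.card_le_of_le hf'.le) hlt.not_ge) hα)).congr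
      fun x hx => (hαe x hx).symm
  · obtain ⟨R, hPR, hR⟩ := exists_isFullyNormalized F hPS
    have hfi := hf.isIso
    obtain ⟨u, hu, hui, -⟩ := exists_map_to_fullyNormalized hS hF hR hPR
    obtain ⟨v, hv, hvi, -⟩ := exists_map_to_fullyNormalized hS hF hR
      (isConj_trans (isConj_symm hfi.isConj) hPR)
    have hQlt : imgSub f P < S := lt_of_le_of_ne hf.imgSub_le fun he => hlt.ne
      (Subgroup.eq_of_le_of_card_ge hlt.le (le_of_eq (by rw [hfi.card_eq, he])))
    have huE : IsMap E P u := (big _ _ (card_lt_card_normalizerIn hS hlt) hu).mono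
      (le_normalizerIn_self hPS)
    have hvE : IsMap E (imgSub f P) v := (big _ _ (hfi.card_eq.trans_lt
      (card_lt_card_normalizerIn hS hQlt)) hv).mono (le_normalizerIn_self hf.imgSub_le)
    obtain ⟨u', hu', hu'1, hu'2⟩ := hui.exists_symm
    have hθ : IsIso F R R (v ∘ f ∘ u') := (hu'.comp hfi).comp hvi
    obtain ⟨α, hα, hαe⟩ := hθ.exists_aut
    have hαE : IsMap E R (autMap α) := (mem_autGroup_iff hR.1).1
      (h R hR (fun P' f' hlt' hf' => big P' f' (hui.card_eq.trans_lt hlt') hf') hα)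
    have hvE' : IsIso E (imgSub f P) R v := ⟨hvE, hvi.image_eq⟩
    obtain ⟨w, hw, hw1, -⟩ := hvE'.exists_symm
    refine ((huE.comp hαE fun x hx => hui.mem hx).comp hw.isMap fun x hx =>
      autMap_mem _ (hui.mem hx)).congr fun x hx => ?_
    show f x = w (autMap α (u x))
    rw [hαe _ (hui.mem hx), Function.comp_apply, Function.comp_apply, hu'1 x hx,
      hw1 _ (hfi.mem hx)]

/-! ### Centric subgroups and extendable automorphisms -/

theorem isCentric_of_receptive (hP : F.IsReceptive P) (hC : centralizerIn S P ≤ P) :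
    F.IsCentric P := by
  refine ⟨hP.1, fun Q hQ x hx => ?_⟩
  obtain ⟨f, hf⟩ := isConj_iff.1 (isConj_symm hQ)
  obtain ⟨g, hg, he⟩ := receptive_extend hP hf (N := centralizerIn S Q)
    fun x hx => hf.isMap.inExt_of_centralizes hx
  have hgx : g x ∈ P := hC (hf.mem_centralizerIn_of_extends hg le_sup_right he
    (le_sup_left (b := Q) hx) hx)
  obtain ⟨y, hy, hye⟩ := hf.exists_preimage hgx
  rw [← he y hy] at hye
  exact hg.injOn (le_sup_right (a := centralizerIn S Q) hy) (le_sup_left (b := Q) hx) hye ▸ hy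

theorem centralizerIn_le_of_isCentric (hP : F.IsCentric P) : centralizerIn S P ≤ P :=
  hP.2 P (isConj_refl F hP.1)

theorem isCentric_of_isConj (hP : F.IsCentric P) (hPQ : F.IsConj P Q) : F.IsCentric Q :=
  ⟨le_of_isConj_right hPQ, fun R hR => hP.2 R (isConj_trans hPQ hR)⟩

theorem isCentric_S (F : FusionSystem S) : F.IsCentric S :=
  ⟨le_rfl, fun Q hQ => by rw [eq_S_of_isConj hQ]; exact centralizerIn_le⟩

theorem inn_eq_autInducedBy_self (P : Subgroup Ω) : Inn P = autInducedBy P P := by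
  ext α
  rw [mem_autInducedBy]
  constructor
  · rintro ⟨x, rfl⟩
    exact ⟨x, x.2, Subgroup.le_normalizer x.2, MulEquiv.ext fun y => Subtype.ext rfl⟩
  · rintro ⟨g, hg, hn, rfl⟩
    exact ⟨⟨g, hg⟩, MulEquiv.ext fun y => Subtype.ext rfl⟩

theorem inn_le_autInducedBy (hP : P ≤ S) : Inn P ≤ autInducedBy S P := by
  rintro _ ⟨x, rfl⟩
  exact mem_autInducedBy.2 ⟨x, hP x.2, Subgroup.le_normalizer x.2,
    MulEquiv.ext fun y => Subtype.ext rfl⟩

theorem inn_le_autGroup (F : FusionSystem S) (hP : P ≤ S) : Inn P ≤ F.autGroup P :=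
  (inn_le_autInducedBy hP).trans (autInducedBy_le_autGroup F hP)

instance inn_subgroupOf_normal (P : Subgroup Ω) (K : Subgroup (MulAut P)) :
    ((Inn P).subgroupOf K).Normal := Subgroup.normal_subgroupOf

theorem isPGroup_inn (hS : IsPGroup p S) (hP : P ≤ S) : IsPGroup p (Inn P) :=
  (isPGroup_autInducedBy hS P).to_le (inn_le_autInducedBy hP)

theorem mem_of_conjAut_mem_inn (hC : centralizerIn S P ≤ P) (hP : P ≤ S) {x : Ω} (hxS : x ∈ S)
    (hx : x ∈ Subgroup.normalizer (P : Set Ω)) (h : conjAut hx ∈ Inn P) : x ∈ P := by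
  obtain ⟨z, hz⟩ := h
  have hmem : (z : Ω)⁻¹ * x ∈ centralizerIn S P := by
    refine mem_centralizerIn.2 ⟨S.mul_mem (S.inv_mem (hP z.2)) hxS, fun y hy => ?_⟩
    have := congrArg (fun a : MulAut P => ((a ⟨y, hy⟩ : P) : Ω)) hz
    have h2 : (z : Ω) * y * (z : Ω)⁻¹ = x * y * x⁻¹ := this
    calc y * ((z : Ω)⁻¹ * x) = (z : Ω)⁻¹ * ((z : Ω) * y * (z : Ω)⁻¹) * x := by group
      _ = (z : Ω)⁻¹ * x * y := by rw [h2]; group
  simpa using P.mul_mem z.2 (hC hmem)

/-- The automorphisms of `P` that extend to a larger source, as a generated subgroup. -/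
def extAut (F : FusionSystem S) (P : Subgroup Ω) : Subgroup (MulAut P) :=
  Subgroup.closure {α : MulAut P | ∃ (Q : Subgroup Ω) (f : Ω → Ω),
    P < Q ∧ IsMap F Q f ∧ ∀ x ∈ P, f x = autMap α x}

theorem mem_extAut {α : MulAut P} (hPQ : P < Q) (hf : IsMap F Q f)
    (he : ∀ x ∈ P, f x = autMap α x) : α ∈ extAut F P :=
  Subgroup.subset_closure ⟨Q, f, hPQ, hf, he⟩

theorem extAut_le_autGroup (F : FusionSystem S) (P : Subgroup Ω) : extAut F P ≤ F.autGroup P :=
  (Subgroup.closure_le _).2 fun _ ⟨_, _, hPQ, hf, he⟩ =>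
    mem_autGroup_of_isMap ((hf.mono hPQ.le).congr fun x hx => (he x hx).symm)

theorem autInducedBy_le_extAut (hS : IsPGroup p S) (F : FusionSystem S) (hP : P < S) :
    autInducedBy S P ≤ extAut F P := by
  intro α hα
  obtain ⟨x, hxS, hxn, rfl⟩ := mem_autInducedBy.1 hα
  exact mem_extAut (lt_normalizerIn hS hP) (isMap_conj F normalizerIn_le hxS)
    fun y hy => (autMap_conjAut hxn hy).symm

theorem inExt_autMap {α : MulAut P} {x : Ω} (hxS : x ∈ S)
    (hx : x ∈ Subgroup.normalizer (P : Set Ω))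
    (h : α * conjAut hx * α⁻¹ ∈ autInducedBy S P) : InExt S P (autMap α) x := by
  obtain ⟨k, hkS, hk, he⟩ := mem_autInducedBy.1 h
  refine ⟨hxS, hx, k, hkS, fun y hy => ?_⟩
  rw [← conjMap_apply x y, ← autMap_conjAut hx hy, ← autMap_mul α (conjAut hx) hy,
    ← conjMap_apply k, ← autMap_conjAut hk (autMap_mem α hy), ← he, ← autMap_mul _ α hy,
    inv_mul_cancel_right]

theorem mem_extAut_of_inExt (hS : IsPGroup p S) (hF : F.IsSaturated p) (hP : F.IsFullyNormalized P)
    {α : MulAut P} (hα : α ∈ F.autGroup P) {x : Ω} (hx : InExt S P (autMap α) x) (hxP : x ∉ P) :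
    α ∈ extAut F P := by
  have hN : ∀ y ∈ Subgroup.zpowers x, InExt S P (autMap α) y := by
    intro y hy
    rw [← mem_extender_iff (φ := P.subtype.comp α.toMonoidHom) fun z => (autMap_coe α z).symm] at hx ⊢
    exact Subgroup.zpowers_le.2 hx hy
  obtain ⟨g, hg, he⟩ := receptive_extend (receptive_of_isFullyNormalized hS hF hP)
    (isIso_autMap hP.1 hα) hN
  exact mem_extAut (lt_of_le_not_ge le_sup_right fun h =>
    hxP (h (le_sup_left (b := P) (Subgroup.mem_zpowers x)))) hg he

/-- In the outer automorphism group of a centric `P`, an extendable automorphism conjugates a nontrivial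
element of `Aut_S(P)` into `Aut_S(P)`. -/
theorem exists_conj_of_extends (hS : IsPGroup p S) (hC : centralizerIn S P ≤ P) {α : MulAut P}
    (hPQ : P < Q) (hf : IsMap F Q f) (he : ∀ x ∈ P, f x = autMap α x) :
    ∃ x, x ∈ S ∧ ∃ hx : x ∈ Subgroup.normalizer (P : Set Ω), conjAut hx ∉ Inn P ∧
      α * conjAut hx * α⁻¹ ∈ autInducedBy S P := by
  haveI := finite_of_le hf.le
  obtain ⟨x, hxQ, hxP⟩ := SetLike.exists_of_lt (lt_inf_normalizer_of_lt (hS.to_le hf.le) hPQ)
  refine ⟨x, hf.le hxQ.1, hxQ.2, fun h => hxP (mem_of_conjAut_mem_inn hC (hPQ.le.trans hf.le)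
    (hf.le hxQ.1) hxQ.2 h), ?_⟩
  have hα : α ∈ F.autGroup P := extAut_le_autGroup F P (mem_extAut hPQ hf he)
  have hi := (isIso_autMap (hPQ.le.trans hf.le) hα).congr he
  have hfx := hi.mem_normalizerIn_of_extends hf hPQ.le (fun _ _ => rfl) hxQ.1 hxQ.2
  refine mem_autInducedBy.2 ⟨f x, hfx.1, hfx.2, ?_⟩
  rw [mul_inv_eq_iff_eq_mul]
  refine aut_ext fun y hy => ?_
  rw [autMap_mul _ _ hy, autMap_mul _ _ hy, autMap_conjAut hxQ.2 hy,
    autMap_conjAut hfx.2 (autMap_mem α hy), conjMap_apply, conjMap_apply,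
    ← he _ ((Subgroup.mem_normalizer_iff.1 hxQ.2 y).1 hy), ← he y hy,
    hf.map_conj hxQ.1 (hPQ.le hy)]

/-- Either all automorphisms extend (and the subgroup is not essential), or the subgroup is essential and
the extendable ones give a strongly `p`-embedded subgroup of `Out_F(P)`. -/
theorem extAut_dichotomy (hS : IsPGroup p S) (hF : F.IsSaturated p) (hPS : P < S)
    (hP : F.IsFullyNormalized P) :
    (¬ F.IsEssential p P ∧ extAut F P = F.autGroup P) ∨
      (F.IsEssential p P ∧ IsStronglyPEmbedded p (((extAut F P).subgroupOf (F.autGroup P)).map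
        (QuotientGroup.mk' ((Inn P).subgroupOf (F.autGroup P))))) := by
  by_cases hC : centralizerIn S P ≤ P
  swap
  · refine Or.inl ⟨fun he => hC (centralizerIn_le_of_isCentric he.1),
      le_antisymm (extAut_le_autGroup F P) fun α hα => ?_⟩
    obtain ⟨x, hx, hxP⟩ := SetLike.not_le_iff_exists.1 hC
    exact mem_extAut_of_inExt hS hF hP hα
      ((isIso_autMap hP.1 hα).isMap.inExt_of_centralizes hx) hxP
  haveI := finite_autGroup F hP.1
  set G := F.autGroup P with hG
  set π := QuotientGroup.mk' ((Inn P).subgroupOf G) with hπ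
  have hAp : IsPGroup p (((autInducedBy S P).subgroupOf G).map π) :=
    ((isPGroup_autInducedBy hS P).of_equiv
      (Subgroup.subgroupOfEquivOfLe (autInducedBy_le_autGroup F hP.1)).symm).map π
  have hAi : ¬ p ∣ (((autInducedBy S P).subgroupOf G).map π).index := fun hd =>
    ((isFullyAutomized_iff hS).1 (isFullyAutomized_of_isFullyNormalized hS hF hP)).2
      (hd.trans (Subgroup.index_map_dvd _ (f := π) (QuotientGroup.mk'_surjective _)))
  set A : Sylow p (G ⧸ (Inn P).subgroupOf G) := hAp.toSylow hAi with hA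
  have hAcoe : (A : Subgroup (G ⧸ (Inn P).subgroupOf G)) =
      ((autInducedBy S P).subgroupOf G).map π := rfl
  have hmk : ∀ a : G, π a = 1 ↔ (a : MulAut P) ∈ Inn P := fun a =>
    (QuotientGroup.eq_one_iff a).trans Subgroup.mem_subgroupOf
  by_cases htop : extAut F P = G
  · refine Or.inl ⟨fun he => ?_, htop⟩
    obtain ⟨-, -, hn, Y, hY⟩ := he
    obtain ⟨Y', hY'top, -, hY'⟩ := exists_stronglyEmbedded_over hY A
    apply hY'top
    rw [eq_top_iff]
    rintro z -
    obtain ⟨⟨a, ha⟩, rfl⟩ := QuotientGroup.mk'_surjective _ z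
    have key : extAut F P ≤ ((Y'.comap π).map G.subtype) := by
      rw [extAut, Subgroup.closure_le]
      rintro α ⟨Q, f, hPQ, hf, he⟩
      have hαG : α ∈ G := extAut_le_autGroup F P (mem_extAut hPQ hf he)
      obtain ⟨x, hxS, hxn, hxI, hxA⟩ := exists_conj_of_extends hS hC hPQ hf he
      refine ⟨⟨α, hαG⟩, ?_, rfl⟩
      have hxG : conjAut hxn ∈ G := conjAut_mem_autGroup F hP.1 ⟨hxS, hxn⟩
      refine mem_of_conj_mem A hY' (Q := Subgroup.zpowers (π ⟨_, hxG⟩)) ?_ ?_ ?_
      · rw [Subgroup.zpowers_le, hAcoe]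
        exact ⟨_, (mem_autInducedBy.2 ⟨x, hxS, hxn, rfl⟩ : conjAut hxn ∈ autInducedBy S P), rfl⟩
      · rw [Ne, Subgroup.zpowers_eq_bot, hmk]
        exact hxI
      · rintro w ⟨k, rfl⟩
        have h1 : π ⟨α, hαG⟩ * π ⟨_, hxG⟩ * (π ⟨α, hαG⟩)⁻¹ ∈
            (A : Subgroup (G ⧸ (Inn P).subgroupOf G)) := by
          rw [← map_inv, ← map_mul, ← map_mul, hAcoe]
          exact ⟨_, hxA, rfl⟩
        have := (A : Subgroup (G ⧸ (Inn P).subgroupOf G)).zpow_mem h1 k
        rwa [conj_zpow] at this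
    obtain ⟨b, hb, hbe⟩ := key (htop.ge ha)
    exact (Subtype.ext hbe : b = ⟨a, ha⟩) ▸ hb
  · have hproper : ((extAut F P).subgroupOf G).map π ≠ ⊤ := by
      intro h
      apply htop
      refine le_antisymm (extAut_le_autGroup F P) fun a ha => ?_
      obtain ⟨b, hb, hbe⟩ := h.ge (Subgroup.mem_top (π ⟨a, ha⟩))
      have hi : ((b⁻¹ * ⟨a, ha⟩ : G) : MulAut P) ∈ Inn P := by
        rw [← hmk, map_mul, map_inv, hbe, inv_mul_cancel]
      have := (extAut F P).mul_mem hb
        (autInducedBy_le_extAut hS F hPS (inn_le_autInducedBy hP.1 hi))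
      simpa using this
    have hsemb : IsStronglyPEmbedded p (((extAut F P).subgroupOf G).map π) := by
      refine isStronglyPEmbedded_iff.2 ⟨?_, hproper, A, fun Q hQA hQne z hz => ?_⟩
      · obtain ⟨x, hx, hxP⟩ := SetLike.exists_of_lt (lt_normalizerIn hS hPS)
        have hne : (A : Subgroup (G ⧸ (Inn P).subgroupOf G)) ≠ ⊥ := by
          intro h
          rw [hAcoe, Subgroup.eq_bot_iff_forall] at h
          exact hxP (mem_of_conjAut_mem_inn hC hP.1 hx.1 hx.2 ((hmk
            ⟨_, conjAut_mem_autGroup F hP.1 hx⟩).1 (h _ ⟨_, (mem_autInducedBy.2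
              ⟨x, hx.1, hx.2, rfl⟩ : conjAut hx.2 ∈ autInducedBy S P), rfl⟩)))
        haveI : Nontrivial (A : Subgroup (G ⧸ (Inn P).subgroupOf G)) :=
          (Subgroup.nontrivial_iff_ne_bot _).2 hne
        obtain ⟨n, hn, hcard⟩ := A.isPGroup'.nontrivial_iff_card.1 inferInstance
        exact (dvd_pow_self p hn.ne').trans (hcard ▸ Subgroup.card_subgroup_dvd_card _)
      · obtain ⟨⟨a, ha⟩, rfl⟩ := QuotientGroup.mk'_surjective _ z
        obtain ⟨w, hw, hw1⟩ := SetLike.exists_of_lt (bot_lt_iff_ne_bot.2 hQne)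
        rw [Subgroup.mem_bot] at hw1
        have hconj := (Subgroup.mem_normalizer_iff.1 hz w).1 hw
        obtain ⟨b, hb, rfl⟩ := hQA hw
        obtain ⟨x, hxS, hxn, hxe⟩ := mem_autInducedBy.1 (show (b : MulAut P) ∈ autInducedBy S P from hb)
        have hxP : x ∉ P := fun hxP => hw1 <| (hmk b).2 <| hxe ▸
          (inn_eq_autInducedBy_self P).ge (mem_autInducedBy.2 ⟨x, hxP, hxn, rfl⟩)
        obtain ⟨c, hc, hce⟩ := hQA hconj
        have hi : ((c⁻¹ * (⟨a, ha⟩ * b * ⟨a, ha⟩⁻¹) : G) : MulAut P) ∈ Inn P := by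
          rw [← hmk, map_mul, map_inv, hce, map_mul, map_mul, map_inv]
          exact inv_mul_cancel _
        have hmem : a * conjAut hxn * a⁻¹ ∈ autInducedBy S P := by
          have := (autInducedBy S P).mul_mem hc (inn_le_autInducedBy hP.1 hi)
          rw [← hxe]
          simpa using this
        exact ⟨⟨a, ha⟩, mem_extAut_of_inExt hS hF hP ha (inExt_autMap hxS hxn hmem) hxP, rfl⟩
    exact Or.inr ⟨⟨isCentric_of_receptive (receptive_of_isFullyNormalized hS hF hP) hC, hP,
      inferInstance, _, hsemb⟩, hsemb⟩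

/-- An essential subgroup is radical. -/
theorem isRadical_of_isEssential (hS : IsPGroup p S) (hP : F.IsEssential p P) :
    F.IsRadical p P := by
  obtain ⟨⟨hPS, -⟩, -, hn, Y, hY⟩ := hP
  haveI := finite_autGroup F hPS
  set G := F.autGroup P
  refine ⟨hPS, le_antisymm ?_ ?_⟩
  · rintro _ ⟨a, ha, rfl⟩
    have hp : IsPGroup p (pCore p G) := Sylow.sSup_of_normal _ (fun H hH => hH.2) (fun H hH => hH.1)
    have hbot : (pCore p G).map (QuotientGroup.mk' ((Inn P).subgroupOf G)) = ⊥ := by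
      haveI : ((pCore p G).map (QuotientGroup.mk' ((Inn P).subgroupOf G))).Normal :=
        (pCore_normal p G).map _ (QuotientGroup.mk'_surjective _)
      exact pCore_eq_bot_of_stronglyEmbedded hY (hp.map _)
    exact Subgroup.mem_subgroupOf.1 ((QuotientGroup.eq_one_iff a).1
      (Subgroup.eq_bot_iff_forall _ |>.1 hbot _ ⟨a, ha, rfl⟩))
  · intro a ha
    have hI : (Inn P).subgroupOf G ≤ pCore p G :=
      le_sSup (show (Inn P).subgroupOf G ∈ {N : Subgroup G | N.Normal ∧ IsPGroup p N} from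
        ⟨hn, (isPGroup_inn hS hPS).of_equiv
          (Subgroup.subgroupOfEquivOfLe (inn_le_autGroup F hPS)).symm⟩)
    exact ⟨⟨a, inn_le_autGroup F hPS ha⟩, hI (Subgroup.mem_subgroupOf.2 ha), rfl⟩

/-- An essential subgroup is a proper subgroup of `S`. -/
theorem lt_of_isEssential (hS : IsPGroup p S) (hF : F.IsSaturated p) (hP : F.IsEssential p P) :
    P < S := by
  refine lt_of_le_of_ne hP.1.1 fun he => ?_
  subst he
  obtain ⟨-, hPn, hn, Y, hY⟩ := hP
  haveI := finite_autGroup F (le_refl P)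
  have hd : p ∣ ((Inn P).subgroupOf (F.autGroup P)).index := by
    rw [Subgroup.index_eq_card]
    exact (isStronglyPEmbedded_iff.1 hY).1
  refine ((isFullyAutomized_iff hS).1 (isFullyAutomized_of_isFullyNormalized hS hF hPn)).2 ?_
  rwa [← inn_eq_autInducedBy_self]

/-- Alperin's theorem: `F` is generated by the automorphisms of `S` and of the essential subgroups. -/
theorem le_of_autGroup_essential (hS : IsPGroup p S) (hF : F.IsSaturated p)
    (hE : ∀ P, (P = S ∨ F.IsEssential p P) → F.autGroup P ≤ E.autGroup P) : F ≤ E := by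
  refine le_of_autGroup_fullyNormalized hS hF fun R hR big => ?_
  rcases hR.1.eq_or_lt with h | h
  · exact hE R (Or.inl h)
  rcases extAut_dichotomy hS hF h hR with ⟨-, h1⟩ | ⟨h1, -⟩
  · rw [← h1, extAut, Subgroup.closure_le]
    rintro α ⟨Q, f, hRQ, hf, he⟩
    haveI := finite_of_le hf.le
    have hlt : Nat.card R < Nat.card Q := by
      by_contra hle
      exact hRQ.ne (Subgroup.eq_of_le_of_card_ge hRQ.le (not_lt.1 hle))
    exact mem_autGroup_of_isMap (((big Q f hlt hf).mono hRQ.le).congr fun x hx => (he x hx).symm)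
  · exact hE R (Or.inr h1)

theorem isRadical_S (hS : IsPGroup p S) (hF : F.IsSaturated p) : F.IsRadical p S := by
  refine ⟨le_rfl, ?_⟩
  haveI := finite_autGroup F (le_refl S)
  set G := F.autGroup S
  have hn := isFullyAutomized_of_isFullyNormalized hS hF (isFullyNormalized_S F)
  obtain ⟨-, T, hT⟩ := hn
  rw [← inn_eq_autInducedBy_self] at hT
  haveI : (T : Subgroup G).Normal := hT ▸ inn_subgroupOf_normal S G
  have hc : pCore p G = (T : Subgroup G) := by
    refine le_antisymm (sSup_le fun N hN => ?_) (le_sSup ⟨inferInstance, T.isPGroup'⟩)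
    haveI := hN.1
    exact IsPGroup.le_sylow_of_normal hN.2 T
  rw [hc, hT, Subgroup.subgroupOf_map_subtype, inf_eq_left]
  exact inn_le_autGroup F le_rfl

/-- Alperin's theorem, centric radical form. -/
theorem le_of_autGroup_centricRadical (hS : IsPGroup p S) (hF : F.IsSaturated p)
    (hE : ∀ P, F.IsFullyNormalized P → F.IsCentric P → F.IsRadical p P →
      F.autGroup P ≤ E.autGroup P) : F ≤ E := by
  refine le_of_autGroup_essential hS hF fun P hP => ?_
  rcases hP with rfl | hP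
  · exact hE _ (isFullyNormalized_S F) (isCentric_S F) (isRadical_S hS hF)
  · exact hE P hP.2.1 hP.1 (isRadical_of_isEssential hS hP)

theorem eq_inner_of_isPGroup_autGroup (hS : IsPGroup p S) (hF : F.IsSaturated p)
    (h : ∀ P, P ≤ S → IsPGroup p (F.autGroup P)) : F = innerFusionSystem S := by
  refine le_antisymm' (le_of_autGroup_essential hS hF fun P hP => ?_) (innerFusionSystem_le F)
  rcases hP with rfl | hP
  · haveI := finite_autGroup F (le_refl P)
    have hn := (isFullyAutomized_iff hS).1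
      (isFullyAutomized_of_isFullyNormalized hS hF (isFullyNormalized_S F))
    obtain ⟨k, hk⟩ := ((h P le_rfl).index (H := (autInducedBy P P).subgroupOf (F.autGroup P)))
    have hk0 : k = 0 := by
      by_contra hk0
      exact hn.2 (show p ∣ ((autInducedBy P P).subgroupOf (F.autGroup P)).index from
        hk ▸ dvd_pow_self p hk0)
    rw [hk0, pow_zero, Subgroup.index_eq_one, Subgroup.subgroupOf_eq_top] at hk
    exact hk.trans (autInducedBy_le_autGroup _ le_rfl)
  · exfalso
    obtain ⟨⟨hPS, -⟩, -, hn, Y, hY⟩ := hP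
    haveI := finite_autGroup F hPS
    have htop : (⊤ : Subgroup (F.autGroup P ⧸ (Inn P).subgroupOf (F.autGroup P))) = ⊥ :=
      pCore_eq_bot_of_stronglyEmbedded hY
        (((h P hPS).to_quotient _).of_equiv Subgroup.topEquiv.symm)
    exact (isStronglyPEmbedded_iff.1 hY).2.1 (le_antisymm le_top (htop.le.trans bot_le))

end Cfsg.Agent.FusionSys
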