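import Cfsg.Agent.FusionSys.KNormalizer
import Cfsg.Agent.H91.CentSys

/-!
The normalizer and centralizer systems as instances of `N^K_F(Q)`: existence and saturation.
-/

set_option autoImplicit false

namespace Cfsg.Agent.FusionSys

open Cfsg Cfsg.FusionSystem Set

universe u

variable {Ω : Type u} [Group Ω] {S T : Subgroup Ω} {F : FusionSystem S} {Q : Subgroup Ω}

theorem mem_kNorm_top {x : Ω} : x ∈ kNorm S (⊤ : Subgroup (MulAut Q)) ↔ x ∈ normalizerIn S Q :=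
  mem_kNorm.trans ⟨fun ⟨h, _⟩ => h, fun h => ⟨h, Subgroup.mem_top _⟩⟩

theorem mem_kNorm_bot {x : Ω} : x ∈ kNorm S (⊥ : Subgroup (MulAut Q)) ↔ x ∈ centralizerIn S Q :=
  mem_kNorm.trans ⟨fun ⟨h, hK⟩ => conjAutIn_eq_one_iff (x := ⟨x, h⟩) |>.1 (Subgroup.mem_bot.1 hK),
    fun h => ⟨centralizerIn_le_normalizerIn h, Subgroup.mem_bot.2
      (conjAutIn_eq_one_iff (x := ⟨x, centralizerIn_le_normalizerIn h⟩) |>.2 h)⟩⟩

theorem onQ_bot_iff {g : Ω → Ω} : OnQ (⊥ : Subgroup (MulAut Q)) g ↔ ∀ q ∈ Q, g q = q := by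
  constructor
  · rintro ⟨κ, hκ, he⟩ q hq
    rw [he q hq, Subgroup.mem_bot.1 hκ, autMap_one hq]
  · exact fun h => ⟨1, one_mem _, fun q hq => (h q hq).trans (autMap_one hq).symm⟩

theorem onQ_top_iff {R : Subgroup Ω} {g : Ω → Ω} (hg : IsMap F R g) (hQR : Q ≤ R) :
    OnQ (⊤ : Subgroup (MulAut Q)) g ↔ g '' (Q : Set Ω) = Q := by
  constructor
  · rintro ⟨κ, -, he⟩
    rw [Set.image_congr he, image_autMap]
  · intro h
    obtain ⟨α, -, hα⟩ := (IsIso.mk (hg.mono hQR) h).exists_aut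
    exact ⟨α, Subgroup.mem_top _, fun q hq => (hα q hq).symm⟩

theorem exists_isKSys (F : FusionSystem S) (hQ : Q ≤ S) (K : Subgroup (MulAut Q))
    (h : ∀ x, x ∈ T ↔ x ∈ kNorm S K) : ∃ E : FusionSystem T, IsKSys F K E := by
  obtain rfl : T = kNorm S K := SetLike.ext h
  exact ⟨_, isKSys_kSys F hQ K⟩

theorem isKSys_normalizer_iff {E : FusionSystem (normalizerIn S Q)} :
    F.IsNormalizerSystem Q E ↔ IsKSys F (⊤ : Subgroup (MulAut Q)) E := by
  have key : ∀ (P : Subgroup Ω) (φ : P →* Ω), φ ∈ F.normalizerHom Q P ↔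
      P ≤ normalizerIn S Q ∧ (∀ x : P, φ x ∈ normalizerIn S Q) ∧
        ∃ g, IsMap F (P ⊔ Q) g ∧ (∀ x : P, g x = φ x) ∧ OnQ (⊤ : Subgroup (MulAut Q)) g := by
    intro P φ
    constructor
    · rintro ⟨-, h2, h3, ψ, hψ, he, hm⟩
      refine ⟨h2, h3, homFun ψ, isMap_of_mem hψ, fun x => ?_, ?_⟩
      · rw [homFun_mem ψ (Subgroup.mem_sup_left x.2)]
        exact he x
      · refine (onQ_top_iff (isMap_of_mem hψ) le_sup_right).2 ?_
        conv_rhs => rw [← hm]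
        ext y
        constructor
        · rintro ⟨x, hx, rfl⟩
          exact ⟨⟨x, Subgroup.mem_sup_right hx⟩, hx, (homFun_mem ψ _).symm⟩
        · rintro ⟨x, hx, rfl⟩
          exact ⟨x, hx, homFun_coe ψ x⟩
    · rintro ⟨h2, h3, g, hg, he, hQ⟩
      have him := (onQ_top_iff hg le_sup_right).1 hQ
      obtain ⟨ψ, hψ, hψg⟩ := hg
      refine ⟨mem_hom_of_isMap (IsMap.mono ⟨ψ, hψ, hψg⟩ le_sup_left) fun x => (he x).symm, h2, h3,
        ψ, hψ, fun x => (hψg _).trans (he x), SetLike.coe_injective ?_⟩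
      rw [← him]
      ext y
      constructor
      · rintro ⟨x, hx, rfl⟩
        exact ⟨x, hx, (hψg x).symm⟩
      · rintro ⟨x, hx, rfl⟩
        exact ⟨⟨x, Subgroup.mem_sup_right hx⟩, hx, hψg _⟩
  refine ⟨fun h => ⟨fun x => mem_kNorm_top.symm, fun P f => ⟨?_, ?_⟩⟩, fun h P => Set.ext fun φ => ?_⟩
  · rintro ⟨φ, hφ, hf⟩
    obtain ⟨h2, h3, g, hg, he, hQ⟩ := (key P φ).1 (h P ▸ hφ)
    exact ⟨h2, fun x hx => hf ⟨x, hx⟩ ▸ h3 _, g, hg, fun x hx => (he ⟨x, hx⟩).trans (hf ⟨x, hx⟩), hQ⟩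
  · rintro ⟨h2, h3, g, hg, he, hQ⟩
    obtain ⟨φ, -, hf⟩ := (hg.mono le_sup_left).congr fun x hx => (he x hx).symm
    exact ⟨φ, h P ▸ (key P φ).2 ⟨h2, fun x => (hf x).symm ▸ h3 x x.2, g, hg,
      fun x => (he x x.2).trans (hf x).symm, hQ⟩, hf⟩
  · rw [key, mem_hom_iff_isMap (F := E), h.map_iff]
    refine and_congr Iff.rfl (and_congr ⟨fun h1 x => homFun_coe φ x ▸ h1 x x.2,
      fun h1 x hx => (homFun_mem φ hx).symm ▸ h1 ⟨x, hx⟩⟩ (exists_congr fun g => and_congr Iff.rfl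
      (and_congr ⟨fun h1 x => (h1 x x.2).trans (homFun_coe φ x),
        fun h1 x hx => (h1 ⟨x, hx⟩).trans (homFun_mem φ hx).symm⟩ Iff.rfl)))

theorem isKSys_centralizer {E : FusionSystem (centralizerIn S Q)} (h : F.IsCentralizerSystem Q E) :
    IsKSys F (⊥ : Subgroup (MulAut Q)) E := by
  refine ⟨fun x => mem_kNorm_bot.symm, fun P f => ⟨?_, ?_⟩⟩
  · rintro ⟨φ, hφ, hf⟩
    obtain ⟨h2, h3, g, hg, he, hQ⟩ := (Cfsg.Agent.H91.centralizerHom_iff F).1 (h P ▸ hφ)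
    exact ⟨h2, fun x hx => hf ⟨x, hx⟩ ▸ h3 _, g, hg, fun x hx => (he ⟨x, hx⟩).trans (hf ⟨x, hx⟩),
      onQ_bot_iff.2 hQ⟩
  · rintro ⟨h2, h3, g, hg, he, hQ⟩
    obtain ⟨φ, -, hf⟩ := (hg.mono le_sup_left).congr fun x hx => (he x hx).symm
    exact ⟨φ, h P ▸ (Cfsg.Agent.H91.centralizerHom_iff F).2 ⟨h2, fun x => (hf x).symm ▸ h3 x x.2, g, hg,
      fun x => (he x x.2).trans (hf x).symm, onQ_bot_iff.1 hQ⟩, hf⟩

theorem exists_normalizerSystem (F : FusionSystem S) (hQ : Q ≤ S) :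
    ∃ E : FusionSystem (normalizerIn S Q), F.IsNormalizerSystem Q E := by
  obtain ⟨E, hE⟩ := exists_isKSys F hQ (⊤ : Subgroup (MulAut Q)) fun x => mem_kNorm_top.symm
  exact ⟨E, isKSys_normalizer_iff.2 hE⟩

variable [Finite S] {p : ℕ} [Fact p.Prime]

theorem isSaturated_normalizer (hS : IsPGroup p S) (hF : F.IsSaturated p)
    (hQ : F.IsFullyNormalized Q) {E : FusionSystem (normalizerIn S Q)}
    (hE : F.IsNormalizerSystem Q E) : E.IsSaturated p := by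
  refine isSaturated_of_isKSys hS hF (receptive_of_isFullyNormalized hS hF hQ) ?_
    (isKSys_normalizer_iff.1 hE)
  rw [inf_top_eq, inf_top_eq]
  exact ((isFullyAutomized_iff hS).1 (isFullyAutomized_of_isFullyNormalized hS hF hQ)).2

theorem isSaturated_centralizer (hS : IsPGroup p S) (hF : F.IsSaturated p)
    (hQ : F.IsFullyCentralized Q) {E : FusionSystem (centralizerIn S Q)}
    (hE : F.IsCentralizerSystem Q E) : E.IsSaturated p := by
  refine isSaturated_of_isKSys hS hF (receptive_of_isFullyCentralized hS hF hQ) ?_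
    (isKSys_centralizer hE)
  rw [inf_bot_eq, inf_bot_eq, Subgroup.relIndex_self]
  exact (Fact.out : p.Prime).not_dvd_one

end Cfsg.Agent.FusionSys
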