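import Cfsg.Agent.FusionSys.ModelConstruction
import Cfsg.Agent.Cores.PCore
import Cfsg.Agent.H89.Join

/-!
The group built in `ModelConstruction` realises the fusion system, so constrained systems have models.
-/

set_option autoImplicit false

namespace Cfsg.Agent.FusionSys

open Cfsg Cfsg.FusionSystem Set
open scoped IsMulCommutative

universe u

variable {Ω : Type u} [Group Ω] {S : Subgroup Ω}

namespace Setup

variable {F : FusionSystem S} {p : ℕ} (D : Setup F p) [Finite S] [Fact p.Prime]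

/-- A component of the monomial embedding on the stabilizer of a coset, as a function. -/
noncomputable def kappaMap (i : D.X) : Ω → Ω :=
  D.theta (D.base i) ∘ conjMap ((D.u i : Ω))⁻¹

theorem isMap_kappaMap (i : D.X) : IsMap F (D.stab i) (D.kappaMap i) := by
  refine (isMap_conj F (fun x hx => ?_) (S.inv_mem (D.u i).2)).comp (D.isMap_theta _) fun x hx => ?_
  · obtain ⟨s, -, rfl⟩ := hx
    exact s.2
  · obtain ⟨s, hs, rfl⟩ := hx
    have hs' : D.c s • i = i := hs
    have h := D.red_fixes s i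
    rw [hs'] at h
    refine le_sup_left (b := D.Q) ?_
    simpa [conjMap_apply] using D.mem_stab.2 h

theorem coe_kappa_of_fix {s : S} {i : D.X} (h : D.c s • i = i) :
    (D.kappa s i : Ω) = D.kappaMap i s := by
  simp only [kappa, h, kappaMap, Function.comp_apply, conjMap_apply, Subgroup.coe_mul,
    Subgroup.coe_inv, inv_inv]

theorem c_lift {i : D.X} {a : D.A} {s : S} (hs : a * D.t i = D.t (a • i) * D.c s) (q : D.Q) :
    (s : Ω) * (D.kappa (D.toS q) i : Ω) * (s : Ω)⁻¹ =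
      D.kappa (D.toS ((a : MulAut D.Q) q)) (a • i) := by
  rw [D.kappa_toS, D.kappa_toS, ← D.c_apply, ← MulAut.mul_apply, ← MulAut.mul_apply]
  have h : D.c s * (D.t i)⁻¹ = (D.t (a • i))⁻¹ * a := by
    rw [mul_inv_eq_iff_eq_mul, mul_assoc, hs, inv_mul_cancel_left]
  rw [← Subgroup.coe_mul, ← Subgroup.coe_mul, h]

/-- The image of `Q` in the extension is normalised. -/
theorem hat_conj_toS (x : D.Hat) (q : D.Q) :
    x * D.iotaHat (D.toS q) = D.iotaHat (D.toS ((x.a : MulAut D.Q) q)) * x := by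
  refine Hat.ext' ?_ fun i => ?_
  · show x.a * D.c (D.toS q) = D.c (D.toS ((x.a : MulAut D.Q) q)) * x.a
    apply Subtype.ext
    apply MulEquiv.ext
    intro y
    apply Subtype.ext
    show ((x.a : MulAut D.Q) ((D.c (D.toS q) : MulAut D.Q) y) : Ω) =
      ((x.a : MulAut D.Q) q : Ω) * ((x.a : MulAut D.Q) y : Ω) * ((x.a : MulAut D.Q) q : Ω)⁻¹
    rw [show (D.c (D.toS q) : MulAut D.Q) y = q * y * q⁻¹ from rfl, _root_.map_mul, _root_.map_mul,
      _root_.map_inv]
    rfl
  · show x.s (D.c (D.toS q) • i) * D.kappa (D.toS q) i =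
      D.kappa (D.toS ((x.a : MulAut D.Q) q)) (x.a • i) * x.s i
    rw [D.c_toS_smul]
    apply Subtype.ext
    rw [Subgroup.coe_mul, Subgroup.coe_mul, ← D.c_lift (x.cond i) q]
    group

theorem conj_toS (m : D.Model) (q : D.Q) :
    m * D.iota (D.toS q) * m⁻¹ = D.iota (D.toS ((D.modelProj m : MulAut D.Q) q)) := by
  induction m using QuotientGroup.induction_on with
  | H x =>
    rw [mul_inv_eq_iff_eq_mul]
    exact congrArg (QuotientGroup.mk' D.K) (D.hat_conj_toS x q)

/-- A map whose source contains `Q` is induced by the model. -/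
theorem forward {N : Subgroup Ω} {g : Ω → Ω} (hg : IsMap F N g) (hQN : D.Q ≤ N)
    (hgQ : ∀ q ∈ D.Q, g q ∈ D.Q) :
    ∃ m : D.Model, ∀ (x : S) (hx : (x : Ω) ∈ N),
      m * D.iota x * m⁻¹ = D.iota ⟨g x, hg.mem_S hx⟩ := by
  haveI := D.finite_Q
  obtain ⟨α, hα, hαe⟩ := (isIso_of_mapsTo (hg.mono hQN) hgQ).exists_aut
  let a : D.A := ⟨α, hα⟩
  have ha : ∀ q : D.Q, ((a : MulAut D.Q) q : Ω) = g q := fun q => by
    rw [← hαe q q.2, autMap_coe]
  let N' : Subgroup S := N.subgroupOf S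
  let G : N' →* S := MonoidHom.mk' (fun x => ⟨g (x : S), hg.mem_S x.2⟩)
    fun x y => Subtype.ext (hg.map_mul x.2 y.2)
  have hG : ∀ x : N', D.c (G x) * a = a * D.c (x : S) := by
    intro x
    apply Subtype.ext
    apply MulEquiv.ext
    intro q
    apply Subtype.ext
    show g (x : S) * ((a : MulAut D.Q) q : Ω) * (g (x : S))⁻¹ =
      ((a : MulAut D.Q) ((D.c (x : S) : MulAut D.Q) q) : Ω)
    rw [ha, ha, D.c_apply]
    exact (hg.map_conj x.2 (hQN q.2)).symm
  letI : MulAction N' D.X := MulAction.compHom D.X (D.c.comp N'.subtype)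
  have hsmul : ∀ (x : N') (i : D.X), x • i = D.c (x : S) • i := fun _ _ => rfl
  have hGs : ∀ (x : N') (i : D.X), D.c (G x) • a • i = a • x • i := fun x i => by
    rw [hsmul, ← mul_smul, ← mul_smul, hG]
  obtain ⟨s, hs⟩ := exists_equivariant (N := N') (X := D.X) (T := S)
    (fun x i => D.kappa x i) (fun x i => D.kappa (G x) (a • i))
    (fun x y i => by rw [Subgroup.coe_mul, D.kappa_mul, hsmul])
    (fun x y i => by rw [G.map_mul, D.kappa_mul, hGs])
    (fun i s => a * D.t i = D.t (a • i) * D.c s)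
    (fun x i s h => by
      have h1 := D.c_kappa (x : S) i
      have h2 := D.c_kappa (G x) (a • i)
      rw [hGs] at h2
      rw [← hsmul] at h1
      rw [eq_mul_inv_iff_mul_eq.2 h1, _root_.map_mul, _root_.map_mul, _root_.map_inv,
        ← mul_assoc (D.t _), ← mul_assoc (D.t _), h2, mul_assoc (D.c (G x)), ← h, ← mul_assoc,
        ← mul_assoc, ← mul_assoc, hG])
    (fun j => by
      obtain ⟨s₀, hs₀⟩ := D.t_inv_mul_mem a j
      have hs₀' : a * D.t j = D.t (a • j) * D.c s₀ := by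
        rw [hs₀, mul_assoc, mul_inv_cancel_left]
      let M : Subgroup Ω := N ⊓ D.stab j
      have hQM : D.Q ≤ M := le_inf hQN fun q hq => D.mem_stab (s := D.toS ⟨q, hq⟩).2
        (D.c_toS_smul ⟨q, hq⟩ j)
      have hM : ∀ y : S, (y : Ω) ∈ M → D.c y • j = j := fun y hy => D.mem_stab.1 hy.2
      have hMg : ∀ x ∈ M, g x ∈ D.stab (a • j) := by
        intro x hx
        have hxS : x ∈ S := hg.le hx.1
        have h1 := hGs ⟨⟨x, hxS⟩, hx.1⟩ j
        rw [hsmul, hM ⟨x, hxS⟩ hx] at h1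
        exact D.mem_stab.2 h1
      have h₁ : IsMap F M (conjMap (s₀ : Ω) ∘ D.kappaMap j) :=
        ((D.isMap_kappaMap j).mono inf_le_right).comp (isMap_conj F le_rfl s₀.2)
          fun x hx => (D.isMap_kappaMap j).mem_S hx.2
      have h₂ : IsMap F M (D.kappaMap (a • j) ∘ g) :=
        (hg.mono inf_le_left).comp (D.isMap_kappaMap (a • j)) hMg
      have heq : ∀ x ∈ D.Q,
          (conjMap (s₀ : Ω) ∘ D.kappaMap j) x = (D.kappaMap (a • j) ∘ g) x := by
        intro x hx
        rw [Function.comp_apply, Function.comp_apply, conjMap_apply, ← ha ⟨x, hx⟩,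
          show D.kappaMap j x = _ from (D.coe_kappa_of_fix (D.c_toS_smul ⟨x, hx⟩ j)).symm,
          D.c_lift hs₀' ⟨x, hx⟩]
        exact D.coe_kappa_of_fix (D.c_toS_smul _ _)
      obtain ⟨z, hz, hzc, hze⟩ := exists_center_twist D.isP D.sat hQM D.centric h₁ h₂ heq
      have hzj : D.c (D.toS ⟨z, hz⟩) • j = j := D.c_toS_smul _ j
      have hcz : D.c (D.toS ⟨z, hz⟩) = 1 := by
        apply Subtype.ext
        apply MulEquiv.ext
        intro y
        apply Subtype.ext
        show z * (y : Ω) * z⁻¹ = y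
        rw [← hzc y y.2, mul_inv_cancel_right]
      have hck : D.c (D.kappa (D.toS ⟨z, hz⟩) j) = 1 := by
        have h := D.c_kappa (D.toS ⟨z, hz⟩) j
        rwa [hzj, hcz, one_mul, mul_eq_left] at h
      refine ⟨s₀ * D.kappa (D.toS ⟨z, hz⟩) j, ?_, fun y hy => ?_⟩
      · rw [_root_.map_mul, hck, mul_one]
        exact hs₀'
      have hyj : D.c (y : S) • j = j := hy
      have hyM : ((y : S) : Ω) ∈ M := ⟨y.2, D.mem_stab.2 hyj⟩
      have hGj : D.c (G y) • a • j = a • j := by rw [hGs, hy]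
      have hzM : z ∈ D.stab j := (hQM hz).2
      apply Subtype.ext
      rw [Subgroup.coe_mul, Subgroup.coe_mul, Subgroup.coe_mul, D.coe_kappa_of_fix hGj,
        D.coe_kappa_of_fix hyj, D.coe_kappa_of_fix hzj,
        show D.kappaMap (a • j) (G y : Ω) = _ from hze _ hyM, Function.comp_apply, conjMap_apply,
        (D.isMap_kappaMap j).map_conj hzM hyM.2]
      show (s₀ : Ω) * (D.kappaMap j z * D.kappaMap j ((y : S) : Ω) * (D.kappaMap j z)⁻¹) * (s₀ : Ω)⁻¹ *
          ((s₀ : Ω) * D.kappaMap j z) =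
        ((s₀ * D.kappa (D.toS ⟨z, hz⟩) j : S) : Ω) * D.kappaMap j ((y : S) : Ω)
      rw [Subgroup.coe_mul, D.coe_kappa_of_fix hzj]
      show _ = (s₀ : Ω) * D.kappaMap j z * D.kappaMap j ((y : S) : Ω)
      group)
  let m : D.Hat := ⟨a, s, fun i => (hs i).1⟩
  refine ⟨QuotientGroup.mk' D.K m, fun x hx => ?_⟩
  rw [mul_inv_eq_iff_eq_mul]
  have h : m * D.iotaHat x = D.iotaHat (G ⟨x, hx⟩) * m := by
    refine Hat.ext' (hG ⟨x, hx⟩).symm fun i => ?_
    exact ((hs i).2 ⟨x, hx⟩).symm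
  exact congrArg (QuotientGroup.mk' D.K) h

/-- Conjugation in the model gives maps of the system. -/
theorem isMap_of_conj {P : Subgroup Ω} (hP : P ≤ S) {f : Ω → Ω} {m : D.Model}
    (hf : ∀ x : S, (x : Ω) ∈ P → ∃ h : f x ∈ S, m * D.iota x * m⁻¹ = D.iota ⟨f x, h⟩) :
    IsMap F P f := by
  set a := D.modelProj m with ha
  have hR : ∀ x ∈ P.subgroupOf S, a * D.c x * a⁻¹ ∈ D.R := by
    intro x hx
    obtain ⟨h, he⟩ := hf x hx
    refine ⟨⟨f x, h⟩, ?_⟩
    rw [← D.modelProj_iota, ← he, _root_.map_mul, _root_.map_mul, _root_.map_inv, D.modelProj_iota]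
  obtain ⟨ψ, hψ, hψQ, -⟩ := D.exists_ext a (P.subgroupOf S) hR
  rw [Subgroup.subgroupOf_map_subtype, inf_of_le_left hP] at hψ
  obtain ⟨m', hm'⟩ := D.forward hψ le_sup_right fun q hq => by
    rw [hψQ ⟨q, hq⟩]
    exact SetLike.coe_mem _
  have hproj : D.modelProj m' = a := by
    apply Subtype.ext
    apply MulEquiv.ext
    intro q
    apply Subtype.ext
    have h1 := D.conj_toS m' q
    rw [hm' (D.toS q) (le_sup_right (a := P) q.2)] at h1
    have h2 := congrArg Subtype.val (D.iota_injective h1)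
    show (((D.modelProj m' : MulAut D.Q) q : D.Q) : Ω) = _
    rw [← hψQ q]
    exact h2.symm
  obtain ⟨z, hz⟩ := D.exists_eq_iota_of_modelProj_eq_one (g := m'⁻¹ * m)
    (by rw [_root_.map_mul, _root_.map_inv, hproj, inv_mul_cancel])
  have hzS : ((z : D.Q) : Ω) ∈ S := D.le_S (z : D.Q).2
  have hmaps : ∀ x ∈ P, conjMap ((z : D.Q) : Ω) x ∈ P ⊔ D.Q := fun x hx =>
    (P ⊔ D.Q).mul_mem ((P ⊔ D.Q).mul_mem (le_sup_right (a := P) (z : D.Q).2)
      (le_sup_left (b := D.Q) hx)) ((P ⊔ D.Q).inv_mem (le_sup_right (a := P) (z : D.Q).2))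
  refine ((isMap_conj F hP hzS).comp hψ hmaps).congr fun x hx => ?_
  obtain ⟨h, he⟩ := hf ⟨x, hP hx⟩ hx
  have h3 : D.iota ⟨f x, h⟩ = m' * D.iota (D.toS z * ⟨x, hP hx⟩ * (D.toS z)⁻¹) * m'⁻¹ := by
    rw [← he, _root_.map_mul, _root_.map_mul, _root_.map_inv, ← hz]
    group
  replace h3 := h3.trans (hm' _ (show ((D.toS z * ⟨x, hP hx⟩ * (D.toS z)⁻¹ : S) : Ω) ∈ P ⊔ D.Q from
    hmaps x hx))
  exact congrArg Subtype.val (D.iota_injective h3)

theorem isRealizedBy : F.IsRealizedBy D.iota := by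
  refine ⟨D.iota_injective, fun P hP φ hφ => ⟨fun h => ?_, ?_⟩⟩
  · obtain ⟨g, hg, hge, hgQ⟩ := (isNormal_iff.1 D.normal).2 P _ (isMap_of_mem h)
    obtain ⟨m, hm⟩ := D.forward hg le_sup_right fun q hq => by
      have : g q ∈ g '' (D.Q : Set Ω) := ⟨q, hq, rfl⟩
      rwa [hgQ] at this
    refine ⟨m, fun x => ?_⟩
    rw [hm ⟨x, hP x.2⟩ (le_sup_left (b := D.Q) x.2)]
    exact congrArg D.iota (Subtype.ext (((hge x x.2).trans (homFun_coe φ x)).symm))
  · rintro ⟨m, hm⟩
    refine mem_hom_iff_isMap.2 (D.isMap_of_conj hP (m := m) fun x hx => ?_)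
    have he := homFun_mem φ hx
    refine ⟨he.symm ▸ hφ _, ?_⟩
    rw [← hm ⟨x, hx⟩]
    exact congrArg D.iota (Subtype.ext he.symm)

/-- The image of `Q` in the model. -/
noncomputable def qSub : Subgroup D.Model := (D.iota.comp D.toS).range

instance qSub_normal : D.qSub.Normal := by
  refine ⟨?_⟩
  rintro _ ⟨q, rfl⟩ m
  exact ⟨_, (D.conj_toS m q).symm⟩

theorem centralizer_qSub_le : Subgroup.centralizer (D.qSub : Set D.Model) ≤ D.qSub := by
  intro m hm
  have h1 : D.modelProj m = 1 := by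
    apply Subtype.ext
    apply MulEquiv.ext
    intro q
    apply Subtype.ext
    have h2 := D.conj_toS m q
    rw [← (Subgroup.mem_centralizer_iff.1 hm) (D.iota (D.toS q)) ⟨q, rfl⟩,
      mul_inv_cancel_right] at h2
    exact (congrArg Subtype.val (D.iota_injective h2)).symm
  obtain ⟨z, rfl⟩ := D.exists_eq_iota_of_modelProj_eq_one h1
  exact ⟨_, rfl⟩

theorem qSub_le_pCore : D.qSub ≤ pCore p D.Model :=
  Cores.le_pCore ((D.isP.to_le D.le_S).of_surjective _ (MonoidHom.rangeRestrict_surjective _))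

theorem isModel : F.IsModel p D.Model D.iota :=
  ⟨D.finite_model, D.isRealizedBy, D.exists_sylow_range,
    (Subgroup.centralizer_le D.qSub_le_pCore).trans (D.centralizer_qSub_le.trans D.qSub_le_pCore)⟩

end Setup

theorem isCentric_core [Finite S] {p : ℕ} {F : FusionSystem S} (hF : F.IsConstrained p) :
    F.IsCentric F.core := by
  obtain ⟨-, Q, hQ, hQc⟩ := hF
  exact isCentric_of_le hQc (Cfsg.Agent.H89.le_core F hQ) (Cfsg.Agent.H89.isNormal_core F).1

/-- A constrained system, with the data for constructing its model from `O_p(F)`. -/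
def setupCore [Finite S] {p : ℕ} (hS : IsPGroup p S) {F : FusionSystem S}
    (hF : F.IsConstrained p) : Setup F p :=
  ⟨F.core, hS, hF.1, Cfsg.Agent.H89.isNormal_core F, isCentric_core hF⟩

theorem exists_model [Finite S] {p : ℕ} [Fact p.Prime] (hS : IsPGroup p S) (F : FusionSystem S)
    (hF : F.IsConstrained p) :
    ∃ (G : Type u) (_ : Group G) (ι : S →* G), F.IsModel p G ι :=
  ⟨_, _, _, (setupCore hS hF).isModel⟩

end Cfsg.Agent.FusionSys
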