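import Cfsg.Agent.FusionSys.Group

/-!
Fusion systems over isomorphic groups with corresponding maps; a system realised on a Sylow subgroup is
saturated.
-/

set_option autoImplicit false

namespace Cfsg.Agent.FusionSys

open Cfsg Cfsg.FusionSystem Set

variable {Ω Ω' : Type*} [Group Ω] [Group Ω'] {S : Subgroup Ω} {T : Subgroup Ω'}

/-- The subgroup generated by the image of `P` under a function between two groups. -/
def imgTo (f : Ω → Ω') (P : Subgroup Ω) : Subgroup Ω' := Subgroup.closure (f '' P)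

/-- An isomorphism `S ≅ T` carrying the maps of `F` onto those of `E`, as a pair of functions. -/
structure SysEquiv (F : FusionSystem S) (E : FusionSystem T) where
  fwd : Ω → Ω'
  bwd : Ω' → Ω
  fwd_mem : ∀ x ∈ S, fwd x ∈ T
  bwd_mem : ∀ y ∈ T, bwd y ∈ S
  bwd_fwd : ∀ x ∈ S, bwd (fwd x) = x
  fwd_bwd : ∀ y ∈ T, fwd (bwd y) = y
  fwd_mul : ∀ x ∈ S, ∀ y ∈ S, fwd (x * y) = fwd x * fwd y
  hom : ∀ P f, IsMap F P f → IsMap E (imgTo fwd P) (fwd ∘ f ∘ bwd)
  hom' : ∀ P f, IsMap E P f → IsMap F (imgTo bwd P) (bwd ∘ f ∘ fwd)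

namespace SysEquiv

variable {F : FusionSystem S} {E : FusionSystem T} (j : SysEquiv F E) {P : Subgroup Ω}

/-- The inverse correspondence. -/
def symm : SysEquiv E F where
  fwd := j.bwd
  bwd := j.fwd
  fwd_mem := j.bwd_mem
  bwd_mem := j.fwd_mem
  bwd_fwd := j.fwd_bwd
  fwd_bwd := j.bwd_fwd
  fwd_mul x hx y hy := by
    rw [← j.bwd_fwd (j.bwd x * j.bwd y) (S.mul_mem (j.bwd_mem x hx) (j.bwd_mem y hy)),
      j.fwd_mul _ (j.bwd_mem x hx) _ (j.bwd_mem y hy), j.fwd_bwd x hx, j.fwd_bwd y hy]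
  hom := j.hom'
  hom' := j.hom

theorem fwd_one : j.fwd 1 = 1 :=
  mul_eq_left.1 ((j.fwd_mul 1 S.one_mem 1 S.one_mem).symm.trans (congrArg j.fwd (one_mul 1)))

theorem fwd_inv {x : Ω} (hx : x ∈ S) : j.fwd x⁻¹ = (j.fwd x)⁻¹ := by
  refine eq_inv_of_mul_eq_one_left ?_
  rw [← j.fwd_mul _ (S.inv_mem hx) _ hx, inv_mul_cancel, j.fwd_one]

theorem fwd_conj {x y : Ω} (hx : x ∈ S) (hy : y ∈ S) :
    j.fwd (x * y * x⁻¹) = j.fwd x * j.fwd y * (j.fwd x)⁻¹ := by
  rw [j.fwd_mul _ (S.mul_mem hx hy) _ (S.inv_mem hx), j.fwd_mul _ hx _ hy, j.fwd_inv hx]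

/-- The image of a subgroup. -/
abbrev img (P : Subgroup Ω) : Subgroup Ω' := imgTo j.fwd P

theorem coe_img (hP : P ≤ S) : (j.img P : Set Ω') = j.fwd '' P := by
  refine Set.Subset.antisymm ?_ Subgroup.subset_closure
  intro y hy
  induction hy using Subgroup.closure_induction with
  | mem y hy => exact hy
  | one => exact ⟨1, P.one_mem, j.fwd_one⟩
  | mul a b _ _ ha hb =>
    obtain ⟨x, hx, rfl⟩ := ha
    obtain ⟨z, hz, rfl⟩ := hb
    exact ⟨x * z, P.mul_mem hx hz, j.fwd_mul x (hP hx) z (hP hz)⟩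
  | inv a _ ha =>
    obtain ⟨x, hx, rfl⟩ := ha
    exact ⟨x⁻¹, P.inv_mem hx, j.fwd_inv (hP hx)⟩

theorem mem_img (hP : P ≤ S) {y : Ω'} : y ∈ j.img P ↔ ∃ x ∈ P, j.fwd x = y := by
  rw [← SetLike.mem_coe, j.coe_img hP]
  rfl

theorem img_le (hP : P ≤ S) : j.img P ≤ T := fun _ hy => by
  obtain ⟨x, hx, rfl⟩ := (j.mem_img hP).1 hy
  exact j.fwd_mem x (hP hx)

theorem fwd_mem_img {x : Ω} (hx : x ∈ P) : j.fwd x ∈ j.img P :=
  Subgroup.subset_closure ⟨x, hx, rfl⟩

theorem bwd_mem_of_mem_img (hP : P ≤ S) {y : Ω'} (hy : y ∈ j.img P) : j.bwd y ∈ P := by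
  obtain ⟨x, hx, rfl⟩ := (j.mem_img hP).1 hy
  rwa [j.bwd_fwd x (hP hx)]

theorem symm_img_img (hP : P ≤ S) : j.symm.img (j.img P) = P := by
  ext x
  rw [j.symm.mem_img (j.img_le hP)]
  exact ⟨fun ⟨y, hy, e⟩ => e ▸ j.bwd_mem_of_mem_img hP hy,
    fun hx => ⟨_, j.fwd_mem_img hx, j.bwd_fwd x (hP hx)⟩⟩

theorem isIso_img {Q : Subgroup Ω} {f : Ω → Ω} (hf : IsIso F P Q f) :
    IsIso E (j.img P) (j.img Q) (j.fwd ∘ f ∘ j.bwd) := by
  refine ⟨j.hom P f hf.isMap, ?_⟩
  rw [j.coe_img hf.source_le, j.coe_img hf.target_le, ← hf.image_eq, Set.image_image,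
    Set.image_image]
  exact Set.image_congr fun x hx => by
    rw [Function.comp_apply, Function.comp_apply, j.bwd_fwd x (hf.source_le hx)]

theorem isConj_img {Q : Subgroup Ω} (h : F.IsConj P Q) : E.IsConj (j.img P) (j.img Q) := by
  obtain ⟨f, hf⟩ := isConj_iff.1 h
  exact (j.isIso_img hf).isConj

theorem fwd_mem_normalizer (hP : P ≤ S) [Finite P] {x : Ω} (hx : x ∈ S)
    (hn : x ∈ Subgroup.normalizer (P : Set Ω)) :
    j.fwd x ∈ Subgroup.normalizer (j.img P : Set Ω') := by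
  haveI : Finite (j.img P) :=
    Finite.of_surjective (fun z : P => (⟨j.fwd z, j.fwd_mem_img z.2⟩ : j.img P)) fun y => by
      obtain ⟨z, hz, he⟩ := (j.mem_img hP).1 y.2
      exact ⟨⟨z, hz⟩, Subtype.ext he⟩
  refine mem_normalizer_of_maps fun y hy => ?_
  obtain ⟨z, hz, rfl⟩ := (j.mem_img hP).1 hy
  rw [← j.fwd_conj hx (hP hz)]
  exact j.fwd_mem_img ((Subgroup.mem_normalizer_iff.1 hn z).1 hz)

theorem inExt_img [Finite S] {f : Ω → Ω} (hf : IsMap F P f) {x : Ω} (hx : InExt S P f x) :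
    InExt T (j.img P) (j.fwd ∘ f ∘ j.bwd) (j.fwd x) := by
  obtain ⟨hxS, hxn, h, hh, he⟩ := hx
  haveI := finite_of_le hf.le
  refine ⟨j.fwd_mem x hxS, j.fwd_mem_normalizer hf.le hxS hxn, j.fwd h, j.fwd_mem h hh,
    fun y hy => ?_⟩
  obtain ⟨z, hz, rfl⟩ := (j.mem_img hf.le).1 hy
  rw [← j.fwd_conj hxS (hf.le hz), Function.comp_apply, Function.comp_apply, Function.comp_apply,
    Function.comp_apply, j.bwd_fwd _ (hf.le hz),
    j.bwd_fwd _ (S.mul_mem (S.mul_mem hxS (hf.le hz)) (S.inv_mem hxS)), he z hz,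
    j.fwd_conj hh (hf.mem_S hz)]

theorem isReceptive_of_img [Finite S] {Q : Subgroup Ω} (hQ : Q ≤ S)
    (h : E.IsReceptive (j.img Q)) : F.IsReceptive Q := by
  refine receptive_of_extend hQ fun P f N hf hPN hN => ?_
  have hNS : N ≤ S := fun x hx => ((hN x).1 hx).1
  obtain ⟨g, hg, he⟩ := receptive_extend h (j.isIso_img hf) (N := j.img N) fun y hy => by
    obtain ⟨x, hx, rfl⟩ := (j.mem_img hNS).1 hy
    exact j.inExt_img hf.isMap ((hN x).1 hx)
  have hback := j.hom' _ g (hg.mono le_sup_left)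
  rw [show imgTo j.bwd (j.img N) = N from j.symm_img_img hNS] at hback
  refine ⟨_, hback, fun y hy => ?_⟩
  rw [Function.comp_apply, Function.comp_apply, he _ (j.fwd_mem_img hy), Function.comp_apply,
    Function.comp_apply, j.bwd_fwd y (hf.source_le hy), j.bwd_fwd _ (hf.target_le (hf.mem hy))]

/-- The isomorphism of `P` with its image. -/
def imgEquiv (hP : P ≤ S) : P ≃* j.img P where
  toFun x := ⟨j.fwd x, j.fwd_mem_img x.2⟩
  invFun y := ⟨j.bwd y, j.bwd_mem_of_mem_img hP y.2⟩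
  left_inv x := Subtype.ext (j.bwd_fwd x (hP x.2))
  right_inv y := Subtype.ext (j.fwd_bwd y (j.img_le hP y.2))
  map_mul' x y := Subtype.ext (j.fwd_mul x (hP x.2) y (hP y.2))

theorem isFullyAutomized_of_img [Finite S] [Finite T] {p : ℕ} [Fact p.Prime] (hS : IsPGroup p S)
    (hT : IsPGroup p T) (hP : P ≤ S) (h : E.IsFullyAutomized p (j.img P)) :
    F.IsFullyAutomized p P := by
  refine (isFullyAutomized_iff hS).2 ⟨hP, ?_⟩
  have h' := ((isFullyAutomized_iff hT).1 h).2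
  set e : MulAut P ≃* MulAut (j.img P) := MulAut.congr (j.imgEquiv hP) with he
  have happ : ∀ (α : MulAut P) (x : Ω), x ∈ P → autMap (e α) (j.fwd x) = j.fwd (autMap α x) := by
    intro α x hx
    rw [autMap_apply _ (j.fwd_mem_img hx), autMap_apply α hx]
    show ((j.imgEquiv hP (α ((j.imgEquiv hP).symm (j.imgEquiv hP ⟨x, hx⟩)))) : Ω') = _
    rw [MulEquiv.symm_apply_apply]
    rfl
  have h1 : (autInducedBy T (j.img P)).comap e.toMonoidHom ≤ autInducedBy S P := by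
    intro α hα
    obtain ⟨t, ht, htn, hte⟩ := mem_autInducedBy.1 hα
    haveI := finite_of_le hP
    have hfin : Finite (j.img P) := finite_of_le (j.img_le hP)
    have hn : j.bwd t ∈ Subgroup.normalizer (P : Set Ω) := by
      have := j.symm.fwd_mem_normalizer (j.img_le hP) ht htn
      rwa [j.symm_img_img hP] at this
    refine mem_autInducedBy.2 ⟨j.bwd t, j.bwd_mem t ht, hn, aut_ext fun x hx => ?_⟩
    have h2 := happ α x hx
    rw [show e α = conjAut htn from hte, autMap_conjAut htn (j.fwd_mem_img hx)] at h2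
    rw [autMap_conjAut hn hx, ← j.bwd_fwd _ (hP (autMap_mem α hx)), ← h2]
    show j.bwd (t * j.fwd x * t⁻¹) = _
    rw [show j.bwd (t * j.fwd x * t⁻¹) = _ from j.symm.fwd_conj ht (j.fwd_mem x (hP hx)),
      show j.symm.fwd (j.fwd x) = x from j.bwd_fwd x (hP hx)]
    rfl
  have h2 : (F.autGroup P).map e.toMonoidHom ≤ E.autGroup (j.img P) := by
    rintro _ ⟨α, hα, rfl⟩
    refine mem_autGroup_of_isMap ((j.hom P _ ((mem_autGroup_iff hP).1 hα)).congr fun y hy => ?_)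
    obtain ⟨x, hx, rfl⟩ := (j.mem_img hP).1 hy
    rw [Function.comp_apply, Function.comp_apply, j.bwd_fwd x (hP hx)]
    exact happ α x hx
  have h3 : E.autGroup (j.img P) ≤ (F.autGroup P).map e.toMonoidHom := by
    intro β hβ
    refine ⟨e.symm β, mem_autGroup_of_isMap ?_, e.apply_symm_apply β⟩
    have := j.hom' _ _ ((mem_autGroup_iff (j.img_le hP)).1 hβ)
    rw [show imgTo j.bwd (j.img P) = P from j.symm_img_img hP] at this
    refine this.congr fun x hx => ?_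
    rw [Function.comp_apply, Function.comp_apply]
    conv_rhs => rw [← e.apply_symm_apply β, happ _ x hx, j.bwd_fwd _ (hP (autMap_mem _ hx))]
  intro hd
  refine h' ?_
  rw [← le_antisymm h2 h3, ← Subgroup.relIndex_comap]
  exact hd.trans (Subgroup.relIndex_dvd_of_le_left _ h1)

theorem isSaturated (j : SysEquiv F E) [Finite S] [Finite T] {p : ℕ} [Fact p.Prime]
    (hS : IsPGroup p S) (hT : IsPGroup p T) (h : E.IsSaturated p) : F.IsSaturated p := by
  intro P hP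
  obtain ⟨Q', hQ', hfa, hrec⟩ := h (j.img P) (j.img_le hP)
  have hQ'T : Q' ≤ T := hfa.1
  have he : j.img (j.symm.img Q') = Q' := j.symm.symm_img_img hQ'T
  have hQS : j.symm.img Q' ≤ S := j.symm.img_le hQ'T
  refine ⟨j.symm.img Q', ?_, ?_, ?_⟩
  · have := j.symm.isConj_img hQ'
    rwa [j.symm_img_img hP] at this
  · exact j.isFullyAutomized_of_img hS hT hQS (by rw [he]; exact hfa)
  · exact j.isReceptive_of_img hQS (by rw [he]; exact hrec)

end SysEquiv

section Realized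

variable {G : Type*} [Group G] {F : FusionSystem S} {ι : S →* G}

theorem isMap_realized_iff (hr : F.IsRealizedBy ι) {P : Subgroup Ω} {f : Ω → Ω} :
    IsMap F P f ↔ P ≤ S ∧ ∃ g : G, ∀ x : S, (x : Ω) ∈ P →
      ∃ h : f x ∈ S, ι ⟨f x, h⟩ = g * ι x * g⁻¹ := by
  constructor
  · rintro ⟨φ, hφ, he⟩
    have hP := (F.le_of_mem hφ).1
    obtain ⟨g, hg⟩ := (hr.2 P hP φ (F.le_of_mem hφ).2).1 hφ
    refine ⟨hP, g, fun x hx => ?_⟩
    have h := (F.le_of_mem hφ).2 ⟨x, hx⟩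
    refine ⟨he ⟨x, hx⟩ ▸ h, ?_⟩
    rw [← hg ⟨x, hx⟩]
    exact congrArg ι (Subtype.ext (he ⟨x, hx⟩).symm)
  · rintro ⟨hP, g, hg⟩
    have hS : ∀ x : P, f x ∈ S := fun x => (hg ⟨x, hP x.2⟩ x.2).1
    have hι : ∀ x : P, ι ⟨f x, hS x⟩ = g * ι ⟨x, hP x.2⟩ * g⁻¹ := fun x =>
      (hg ⟨x, hP x.2⟩ x.2).2
    refine ⟨MonoidHom.mk' (fun x : P => f x) fun x y => ?_,
      (hr.2 P hP _ hS).2 ⟨g, hι⟩, fun x => rfl⟩
    have h : ι ⟨f ((x * y : P) : Ω), hS _⟩ = ι (⟨f x, hS x⟩ * ⟨f y, hS y⟩) := by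
      rw [map_mul, hι, hι, hι,
        show (⟨((x * y : P) : Ω), hP (x * y).2⟩ : S) = ⟨x, hP x.2⟩ * ⟨y, hP y.2⟩ from
          Subtype.ext rfl, map_mul]
      group
    exact congrArg Subtype.val (hr.1 h)

/-- The inverse of an injective homomorphism, as a function on the ambient groups. -/
noncomputable def bwdFun (hι : Function.Injective ι) : G → Ω :=
  homFun (S.subtype.comp (MonoidHom.ofInjective hι).symm.toMonoidHom)

theorem bwdFun_apply (hι : Function.Injective ι) (x : S) : bwdFun hι (ι x) = (x : Ω) := by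
  rw [bwdFun, homFun_mem (P := ι.range) _ (MonoidHom.mem_range.2 ⟨x, rfl⟩)]
  show (((MonoidHom.ofInjective hι).symm (MonoidHom.ofInjective hι x) : S) : Ω) = x
  rw [MulEquiv.symm_apply_apply]

/-- A realised system corresponds to the fusion system of the group on the image of `S`. -/
noncomputable def realizedEquiv (hr : F.IsRealizedBy ι) :
    SysEquiv F (groupFusionSystem ι.range) where
  fwd := homFun ι
  bwd := bwdFun hr.1
  fwd_mem x hx := by
    rw [homFun_mem ι hx]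
    exact ⟨_, rfl⟩
  bwd_mem y hy := by
    obtain ⟨x, rfl⟩ := hy
    rw [bwdFun_apply]
    exact x.2
  bwd_fwd x hx := by rw [homFun_mem ι hx, bwdFun_apply]
  fwd_bwd y hy := by
    obtain ⟨x, rfl⟩ := hy
    rw [bwdFun_apply, homFun_coe]
  fwd_mul x hx y hy := by
    rw [homFun_mem ι hx, homFun_mem ι hy, homFun_mem ι (S.mul_mem hx hy), ← map_mul]
    rfl
  hom P f hf := by
    obtain ⟨hP, g, hg⟩ := (isMap_realized_iff hr).1 hf
    have hle : imgTo (homFun ι) P ≤ (P.subgroupOf S).map ι := by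
      refine (Subgroup.closure_le _).2 ?_
      rintro _ ⟨x, hx, rfl⟩
      exact ⟨⟨x, hP hx⟩, hx, (homFun_mem ι (hP hx)).symm⟩
    refine isMap_group_iff.2 ⟨hle.trans (Subgroup.map_le_range _ _), g, fun y hy => ?_⟩
    obtain ⟨x, hx, rfl⟩ := hle hy
    obtain ⟨h, he⟩ := hg x hx
    rw [Function.comp_apply, Function.comp_apply, bwdFun_apply, homFun_mem ι h]
    exact ⟨⟨_, he⟩, he⟩
  hom' P f hf := by
    obtain ⟨hP, g, hg⟩ := isMap_group_iff.1 hf
    have hmem : imgTo (bwdFun hr.1) P ≤ (P.comap ι).map S.subtype := by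
      refine (Subgroup.closure_le _).2 ?_
      rintro _ ⟨y, hy, rfl⟩
      obtain ⟨x, rfl⟩ := hP hy
      exact ⟨x, hy, (bwdFun_apply hr.1 x).symm⟩
    refine (isMap_realized_iff hr).2 ⟨hmem.trans (Subgroup.map_subtype_le _), g, fun x hx => ?_⟩
    obtain ⟨x', hx', e⟩ := hmem hx
    obtain rfl : x' = x := Subtype.ext e
    obtain ⟨hgx, hfx⟩ := hg _ hx'
    obtain ⟨s, hs⟩ := hgx
    rw [Function.comp_apply, Function.comp_apply, homFun_coe, hfx, ← hs]
    refine ⟨(bwdFun_apply hr.1 s).symm ▸ s.2, ?_⟩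
    exact congrArg ι (Subtype.ext (bwdFun_apply hr.1 s))

theorem isSaturated_of_realized [Finite S] [Finite G] {p : ℕ} [Fact p.Prime] (hS : IsPGroup p S)
    (hr : F.IsRealizedBy ι) (hT : ∃ T : Sylow p G, (T : Subgroup G) = ι.range) :
    F.IsSaturated p := by
  obtain ⟨T, hT⟩ := hT
  have h := isSaturated_group T
  rw [hT] at h
  exact (realizedEquiv hr).isSaturated hS (hS.of_surjective _ ι.rangeRestrict_surjective) h

end Realized

end Cfsg.Agent.FusionSys
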