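import Cfsg.Agent.FusionSys.Functor
import Cfsg.Agent.FusionSys.ModelRealize
import Cfsg.Agent.Thompson.Section
import Cfsg.Prelude.Def_LocalEven
import Cfsg.Agent.FusionSys.KInstances
import Cfsg.Agent.FusionSys.Transport

/-!
Glauberman functors: a functor `W` on `p`-groups whose value on a Sylow subgroup is normal in every
`X`-free group of characteristic `p` gives a normal subgroup in every `X`-free saturated system.
-/

set_option autoImplicit false

namespace Cfsg.Agent.FusionSys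

open Cfsg Cfsg.FusionSystem Set

universe u v

variable (W : ∀ (Q : Type u) [Group Q], Subgroup Q) {Ω : Type u} [Group Ω] {S : Subgroup Ω}

open Classical in
/-- The functor relative to `C`: the preimage in `R` of `W(R/C)`. -/
noncomputable def wFun (C R : Subgroup Ω) : Subgroup Ω :=
  if h : (C.subgroupOf R).Normal then
    haveI := h
    ((W (R ⧸ C.subgroupOf R)).comap (QuotientGroup.mk' _)).map R.subtype
  else R

variable {W}

theorem wFun_eq {C R : Subgroup Ω} [(C.subgroupOf R).Normal] :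
    wFun W C R = ((W (R ⧸ C.subgroupOf R)).comap (QuotientGroup.mk' _)).map R.subtype := by
  rw [wFun, dif_pos]

theorem mem_wFun {C R : Subgroup Ω} [(C.subgroupOf R).Normal] {x : R} :
    (x : Ω) ∈ wFun W C R ↔ QuotientGroup.mk' (C.subgroupOf R) x ∈ W (R ⧸ C.subgroupOf R) := by
  rw [wFun_eq]
  constructor
  · rintro ⟨y, hy, e⟩
    obtain rfl : y = x := Subtype.ext e
    exact hy
  · exact fun h => ⟨x, h, rfl⟩

theorem normal_subgroupOf_of_le {C R : Subgroup Ω} (h : R ≤ Subgroup.normalizer (C : Set Ω)) :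
    (C.subgroupOf R).Normal :=
  ⟨fun c hc r => (Subgroup.mem_normalizer_iff.1 (h r.2) c).1 hc⟩

theorem wFun_le (C R : Subgroup Ω) : wFun W C R ≤ R := by
  unfold wFun
  split
  · exact Subgroup.map_subtype_le _
  · exact le_rfl

theorem le_wFun {C R : Subgroup Ω} (hCR : C ≤ R) : C ≤ wFun W C R := by
  intro x hx
  by_cases h : (C.subgroupOf R).Normal
  · refine (mem_wFun (x := ⟨x, hCR hx⟩)).2 ?_
    rw [show QuotientGroup.mk' (C.subgroupOf R) ⟨x, hCR hx⟩ = 1 from (QuotientGroup.eq_one_iff _).2 hx]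
    exact one_mem _
  · rw [wFun, dif_neg h]
    exact hCR hx

variable [Finite S] {p : ℕ} [Fact p.Prime] {F : FusionSystem S}
  (hW1 : ∀ (Q : Type u) [Group Q] [Finite Q], IsPGroup p Q → Nontrivial Q → W Q ≠ ⊥)
  (hW2 : ∀ (Q R : Type u) [Group Q] [Group R] [Finite Q], IsPGroup p Q →
    ∀ φ : Q ≃* R, (W Q).map φ.toMonoidHom = W R)

include hW1 in
theorem lt_wFun (hS : IsPGroup p S) {C R : Subgroup Ω} (hCR : C < R) (hR : R ≤ S)
    (hn : R ≤ Subgroup.normalizer (C : Set Ω)) : C < wFun W C R := by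
  haveI := normal_subgroupOf_of_le hn
  haveI := finite_of_le hR
  refine lt_of_le_of_ne (le_wFun hCR.le) fun he => ?_
  haveI : Nontrivial (R ⧸ C.subgroupOf R) := by
    obtain ⟨x, hxR, hxC⟩ := SetLike.exists_of_lt hCR
    exact ⟨⟨QuotientGroup.mk' (C.subgroupOf R) ⟨x, hxR⟩, 1,
      fun e => hxC ((QuotientGroup.eq_one_iff (N := C.subgroupOf R) _).1 e)⟩⟩
  refine hW1 (R ⧸ C.subgroupOf R) ((hS.to_le hR).to_quotient _) inferInstance ((Subgroup.eq_bot_iff_forall _).2 fun w hw => ?_)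
  obtain ⟨r, rfl⟩ := QuotientGroup.mk'_surjective (C.subgroupOf R) w
  have : (r : Ω) ∈ wFun W C R := mem_wFun.2 hw
  rw [← he] at this
  exact (QuotientGroup.eq_one_iff r).2 this

include hW2 in
theorem image_wFun (hS : IsPGroup p S) {C R C' R' : Subgroup Ω} {f : Ω → Ω}
    (hn : R ≤ Subgroup.normalizer (C : Set Ω)) (hCR : C ≤ R)
    (hf : IsIso F R R' f) (hC : imgSub f C = C') :
    imgSub f (wFun W C R) = wFun W C' R' := by
  subst hC
  have hR := hf.source_le
  haveI := finite_of_le hR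
  haveI := normal_subgroupOf_of_le hn
  have hfC := hf.isMap.mono hCR
  have hnorm : ((imgSub f C).subgroupOf R').Normal := ⟨fun c hc r => by
    obtain ⟨y, hy, hye⟩ := hfC.mem_imgSub.1 hc
    obtain ⟨x, hx, hxe⟩ := hf.exists_preimage r.2
    refine hfC.mem_imgSub.2 ⟨x * y * x⁻¹, (Subgroup.mem_normalizer_iff.1 (hn hx) y).1 hy, ?_⟩
    rw [hf.isMap.map_conj hx (hCR hy), hxe, hye]
    rfl⟩
  haveI := hnorm
  have hmap : (C.subgroupOf R).map hf.equiv.toMonoidHom = (imgSub f C).subgroupOf R' := by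
    ext r
    constructor
    · rintro ⟨x, hx, rfl⟩
      exact hfC.mem_imgSub.2 ⟨x, hx, rfl⟩
    · intro hr
      obtain ⟨y, hy, hye⟩ := hfC.mem_imgSub.1 hr
      exact ⟨⟨y, hCR hy⟩, hy, Subtype.ext hye⟩
  let e := QuotientGroup.congr (C.subgroupOf R) ((imgSub f C).subgroupOf R') hf.equiv hmap
  have he := hW2 _ _ ((hS.to_le hR).to_quotient _) e
  have hmem : ∀ x : R, f x ∈ wFun W (imgSub f C) R' ↔ (x : Ω) ∈ wFun W C R := by
    intro x
    refine (mem_wFun (x := hf.equiv x)).trans (Iff.trans ?_ mem_wFun.symm)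
    rw [← he]
    constructor
    · rintro ⟨w, hw, hwe⟩
      rwa [show QuotientGroup.mk' _ x = w from e.injective hwe.symm]
    · exact fun h => ⟨_, h, rfl⟩
  ext y
  rw [(hf.isMap.mono (wFun_le C R)).mem_imgSub]
  constructor
  · rintro ⟨x, hx, rfl⟩
    exact (hmem ⟨x, wFun_le C R hx⟩).2 hx
  · intro hy
    obtain ⟨x, hx, rfl⟩ := hf.exists_preimage (wFun_le _ _ hy)
    exact ⟨x, (hmem ⟨x, hx⟩).1 hy, rfl⟩

include hW1 hW2 in
theorem isWFun_wFun (hS : IsPGroup p S) : IsWFun F (wFun W) where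
  le C R _ _ := wFun_le C R
  lt C R hCR hR hn := lt_wFun hW1 hS hCR hR hn
  bot_le C R hCR _ := le_wFun hCR
  equivariant C R f hCR hn hf hfC := by
    haveI := finite_of_le (hCR.trans hf.le)
    exact image_wFun hW2 hS hn hCR hf.isIso (isIso_of_mapsTo (hf.mono hCR) hfC).eq_imgSub.symm

theorem sectionFree_of_injective {X : Type v} [Group X] {G G' : Type*} [Group G] [Group G']
    {f : G' →* G} (hf : Function.Injective f) (h : ¬ Involves X G) : ¬ Involves X G' := fun h' =>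
  h (Thompson.hasSection_iff.1 (Thompson.HasSection.of_injective hf (Thompson.hasSection_iff.2 h')))

theorem sectionFree_of_surjective {X : Type v} [Group X] {G G' : Type*} [Group G] [Group G']
    {f : G →* G'} (hf : Function.Surjective f) (h : ¬ Involves X G) : ¬ Involves X G' := fun h' =>
  h (Thompson.hasSection_iff.1 (Thompson.HasSection.of_surjective hf (Thompson.hasSection_iff.2 h')))

section Local

variable {X : Type v} [Group X]
  (hW3 : ∀ (L : Type u) [Group L] [Finite L] (P : Sylow p L),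
    Subgroup.centralizer ((pCore p L : Subgroup L) : Set L) ≤ pCore p L → ¬ Involves X L →
      (((W ↥(P : Subgroup L)).map (P : Subgroup L).subtype : Subgroup L)).Normal)
  (hfree : ∀ Q : Subgroup Ω, F.IsFullyNormalized Q → F.IsCentric Q →
    ∀ N : FusionSystem (normalizerIn S Q), F.IsNormalizerSystem Q N →
      ∀ (L : Type u) [Group L] (ι : ↥(normalizerIn S Q) →* L), N.IsModel p L ι → ¬ Involves X L)

include hW2 hW3 hfree in
/-- The local condition at a fully normalized subgroup, from its model. -/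
theorem local_at_fullyNormalized (hS : IsPGroup p S) (hF : F.IsSaturated p)
    (C R Q : Subgroup Ω) (A : Subgroup (MulAut Q)) (hCQ : C ≤ Q) (hQR : Q ≤ R) (hQn : F.IsFullyNormalized Q)
    (hQc : F.IsCentric Q) (hRN : R ≤ normalizerIn S Q) (hnC : R ≤ Subgroup.normalizer (C : Set Ω))
    (hA : A ≤ F.autGroup Q) (hRA : autInducedBy R Q ≤ A) (hsyl : ¬ p ∣ (autInducedBy R Q).relIndex A)
    (hAC : ∀ α ∈ A, ∀ x ∈ C, autMap α x ∈ C)
    (hAp : ∀ α ∈ A, ∃ n : ℕ, ∀ x ∈ C, autMap (α ^ p ^ n) x = x) :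
    ∀ α ∈ A, ∃ g, IsMap F (wFun W C R ⊔ Q) g ∧ (∀ x ∈ Q, g x = autMap α x) ∧
      ∀ x ∈ wFun W C R, g x ∈ wFun W C R := by
  set N := normalizerIn S Q
  haveI : Finite N := finite_of_le normalizerIn_le
  have hNp : IsPGroup p N := hS.to_le normalizerIn_le
  have hQN : Q ≤ N := le_normalizerIn_self hQn.1
  obtain ⟨E, hEN⟩ := exists_normalizerSystem F hQn.1
  have hK := isKSys_normalizer_iff.1 hEN
  have hEsat : E.IsSaturated p := isSaturated_normalizer hS hF hQn hEN
  have hEnorm : E.IsNormal Q := hK.isNormal_self hQN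
  have hEcen : E.IsCentric Q := ⟨hQN, fun Q' hQ' x hx => by
    obtain ⟨f, hf⟩ := isConj_iff.1 hQ'
    obtain ⟨hxN, hxc⟩ := FusionSys.mem_centralizerIn.1 hx
    exact hQc.2 Q' (IsIso.mk (hK.isMap_le hf.isMap) hf.image_eq).isConj
      (FusionSys.mem_centralizerIn.2 ⟨normalizerIn_le hxN, hxc⟩)⟩
  let D : Setup E p := ⟨Q, hNp, hEsat, hEnorm, hEcen⟩
  have hL : ¬ Involves X D.Model := hfree Q hQn hQc E hEN D.Model D.iota D.isModel
  haveI := D.finite_model
  have hAE : A ≤ D.A := fun α hα => by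
    have hm := (mem_autGroup_iff hQn.1).1 (hA hα)
    exact mem_autGroup_of_isMap ((hK.map_iff Q _).2 ⟨hQN, fun x hx => hQN (autMap_mem α hx), autMap α,
      hm.mono (by rw [sup_idem]), fun _ _ => rfl, α, Subgroup.mem_top _, fun _ _ => rfl⟩)
  set L' : Subgroup D.Model := (A.comap D.A.subtype).comap D.modelProj
  have hmemL' : ∀ m, m ∈ L' ↔ ((D.modelProj m : MulAut Q)) ∈ A := fun m => Iff.rfl
  have hιR : ∀ r : R, D.iota (Subgroup.inclusion hRN r) ∈ L' := fun r =>
    hRA (mem_autInducedBy.2 ⟨r, r.2, (hRN r.2).2, rfl⟩)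
  let j : R →* L' := (D.iota.comp (Subgroup.inclusion hRN)).codRestrict L' hιR
  have hj : ∀ r, ((j r : L') : D.Model) = D.iota (Subgroup.inclusion hRN r) := fun r => rfl
  have hjinj : Function.Injective j := fun a b h =>
    Subgroup.inclusion_injective hRN (D.iota_injective (congrArg Subtype.val h))
  haveI := finite_of_le (hRN.trans normalizerIn_le)
  have hRp : IsPGroup p R := hNp.to_le hRN
  have hker : ∀ m, D.modelProj m = 1 → ∃ r : R, D.iota (Subgroup.inclusion hRN r) = m := fun m hm => by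
    obtain ⟨z, hz⟩ := D.exists_eq_iota_of_modelProj_eq_one hm
    exact ⟨⟨((z : D.Q) : Ω), hQR (z : D.Q).2⟩, hz.symm⟩
  let π : L' →* A := ((D.A.subtype.comp D.modelProj).comp L'.subtype).codRestrict A fun m => m.2
  have hπsurj : Function.Surjective π := fun a => by
    obtain ⟨m, hm⟩ := D.modelProj_surjective ⟨a, hAE a.2⟩
    refine ⟨⟨m, (hmemL' m).2 (by rw [hm]; exact a.2)⟩, Subtype.ext ?_⟩
    show (D.modelProj m : MulAut Q) = a
    rw [hm]
  have hpre : ((autInducedBy R Q).subgroupOf A).comap π = j.range := by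
    ext m
    constructor
    · intro hm
      obtain ⟨r, hr, hrn, hre⟩ := mem_autInducedBy.1 hm
      obtain ⟨r', hr'⟩ := hker ((D.iota ⟨r, hRN hr⟩)⁻¹ * m) (by
        rw [_root_.map_mul, _root_.map_inv, inv_mul_eq_one]
        exact Subtype.ext hre.symm)
      refine ⟨⟨r, hr⟩ * r', Subtype.ext ?_⟩
      rw [hj, _root_.map_mul, _root_.map_mul, hr', ← mul_assoc]
      exact (congrArg (· * (m : D.Model)) (mul_inv_cancel (D.iota ⟨r, hRN hr⟩))).trans (one_mul _)
    · rintro ⟨r, rfl⟩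
      exact mem_autInducedBy.2 ⟨r, r.2, (hRN r.2).2, rfl⟩
  have hi : ¬ p ∣ j.range.index := by
    rw [← hpre, Subgroup.index_comap_of_surjective _ hπsurj]
    exact hsyl
  let P : Sylow p L' := (hRp.of_surjective _ j.rangeRestrict_surjective).toSylow hi
  -- `Q` and `C` inside `L'`
  have hconj : ∀ (m : L') (q : D.Q), (m : D.Model) * D.iota (D.toS q) * (m : D.Model)⁻¹ =
      D.iota (D.toS ((D.modelProj m : MulAut D.Q) q)) := fun m q => D.conj_toS m q
  set Qh : Subgroup L' := (Q.subgroupOf R).map j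
  set Ch : Subgroup L' := (C.subgroupOf R).map j
  have hconjj : ∀ (m : L') (r : R) (hr : (r : Ω) ∈ Q),
      m * j r * m⁻¹ = j ⟨autMap (D.modelProj m : MulAut Q) r, hQR (autMap_mem _ hr)⟩ := by
    intro m r hr
    apply Subtype.ext
    refine (hconj m ⟨r, hr⟩).trans ?_
    exact congrArg D.iota (Subtype.ext (autMap_apply _ hr).symm)
  haveI hQhn : Qh.Normal := ⟨by
    rintro _ ⟨r, hr, rfl⟩ m
    exact ⟨⟨autMap (D.modelProj m : MulAut Q) r, hQR (autMap_mem _ hr)⟩, autMap_mem _ hr,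
      (hconjj m r hr).symm⟩⟩
  haveI hChn : Ch.Normal := ⟨by
    rintro _ ⟨r, hr, rfl⟩ m
    exact ⟨⟨autMap (D.modelProj m : MulAut Q) r, hQR (autMap_mem _ (hCQ hr))⟩, hAC _ m.2 _ hr,
      (hconjj m r (hCQ hr)).symm⟩⟩
  set Lb := L' ⧸ Ch
  set q := QuotientGroup.mk' Ch with hq
  have hqs : Function.Surjective q := QuotientGroup.mk'_surjective _
  have hLb : ¬ Involves X Lb :=
    sectionFree_of_surjective hqs (sectionFree_of_injective L'.subtype_injective hL)
  have hQhp : IsPGroup p Qh := ((hRp.to_subgroup _)).map j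
  have hQbn : (Qh.map q).Normal := hQhn.map q hqs
  have hcon : Subgroup.centralizer ((pCore p Lb : Subgroup Lb) : Set Lb) ≤ pCore p Lb := by
    refine (Subgroup.centralizer_le (Cores.le_pCore (hN := hQbn) (hQhp.map q))).trans ?_
    haveI : (Subgroup.centralizer ((Qh.map q : Subgroup Lb) : Set Lb)).Normal := by
      haveI := hQbn
      infer_instance
    refine Cores.le_pCore ?_
    rintro ⟨x, hx⟩
    obtain ⟨m, rfl⟩ := hqs x
    obtain ⟨n, hn⟩ := hAp _ m.2
    set β := (D.modelProj m : MulAut Q) ^ p ^ n with hβ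
    have hβC : ∀ c ∈ C, autMap β c = c := fun c hc => hn c hc
    have hcong : ∀ y : Ω, y ∈ Q → ∃ c ∈ C, autMap (D.modelProj m : MulAut Q) y = y * c := by
      intro y hy
      have h := Subgroup.mem_centralizer_iff.1 hx (q (j ⟨y, hQR hy⟩)) ⟨_, ⟨⟨y, hQR hy⟩, hy, rfl⟩, rfl⟩
      have h2 : q (j ⟨y, hQR hy⟩)⁻¹ * q (m * j ⟨y, hQR hy⟩ * m⁻¹) = 1 := by
        rw [_root_.map_inv, _root_.map_mul, _root_.map_mul, _root_.map_inv, ← h, mul_inv_cancel_right,
          inv_mul_cancel]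
      rw [← _root_.map_mul, hconjj m ⟨y, hQR hy⟩ hy, ← _root_.map_inv, ← _root_.map_mul] at h2
      obtain ⟨r, hr, hre⟩ := (QuotientGroup.eq_one_iff _).1 h2
      refine ⟨r, hr, ?_⟩
      rw [hjinj hre]
      simp
    have hpow : ∀ (k : ℕ) (y : Ω), y ∈ Q →
        ∃ c ∈ C, autMap ((D.modelProj m : MulAut Q) ^ k) y = y * c := by
      intro k
      induction k with
      | zero => exact fun y hy => ⟨1, C.one_mem, by rw [pow_zero, autMap_one hy, mul_one]⟩
      | succ k ih =>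
        intro y hy
        obtain ⟨c, hc, he⟩ := hcong y hy
        obtain ⟨c', hc', he'⟩ := ih _ (autMap_mem _ hy)
        refine ⟨c * c', C.mul_mem hc hc', ?_⟩
        rw [pow_succ, autMap_mul _ _ hy, he', he, mul_assoc]
    have hβpow : ∀ (k : ℕ) (y : Ω), y ∈ Q → ∀ c ∈ C, autMap β y = y * c → autMap (β ^ k) y = y * c ^ k := by
      intro k
      induction k with
      | zero => intro y hy c _ _; rw [pow_zero, pow_zero, autMap_one hy, mul_one]
      | succ k ih =>
        intro y hy c hc he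
        have hck : c ^ k ∈ Q := hCQ (C.pow_mem hc k)
        rw [pow_succ', autMap_mul _ _ hy, ih y hy c hc he, autMap_apply _ (Q.mul_mem hy hck)]
        show ((β (⟨y, hy⟩ * ⟨c ^ k, hck⟩) : Q) : Ω) = _
        rw [_root_.map_mul, Subgroup.coe_mul, ← autMap_apply β hy, ← autMap_apply β hck, he,
          hβC _ (C.pow_mem hc k), pow_succ', mul_assoc]
    haveI := finite_of_le (hCQ.trans hQn.1)
    obtain ⟨i, hi'⟩ := IsPGroup.iff_card.1 (hS.to_le (hCQ.trans hQn.1))
    have hβ1 : β ^ p ^ i = 1 := aut_ext fun y hy => by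
      obtain ⟨c, hc, he⟩ := hpow (p ^ n) y hy
      rw [hβpow _ y hy c hc he, ← hi', show c ^ Nat.card C = 1 from
        congrArg Subtype.val (pow_card_eq_one' (x := (⟨c, hc⟩ : C))), mul_one, autMap_one hy]
    have hmker : D.modelProj ((m : D.Model) ^ (p ^ n * p ^ i)) = 1 := by
      rw [_root_.map_pow]
      apply Subtype.ext
      rw [Subgroup.coe_pow, pow_mul]
      exact hβ1
    obtain ⟨r, hr⟩ := hker _ hmker
    obtain ⟨l, hl⟩ := hRp r
    refine ⟨n + i + l, Subtype.ext ?_⟩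
    show q m ^ p ^ (n + i + l) = 1
    rw [← _root_.map_pow]
    have : m ^ p ^ (n + i + l) = 1 := Subtype.ext (by
      rw [Subgroup.coe_pow, pow_add, pow_add, pow_mul, ← hr, ← _root_.map_pow, ← _root_.map_pow, hl,
        _root_.map_one, _root_.map_one]
      rfl)
    rw [this, _root_.map_one]
  let Pb : Sylow p Lb := P.mapSurjective hqs
  have hWn := hW3 Lb Pb hcon hLb
  -- identify `W(Pb)` with the image of `wFun W C R`
  haveI := normal_subgroupOf_of_le hnC
  have hPb : ∀ r : R, q (j r) ∈ (Pb : Subgroup Lb) := fun r => by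
    rw [Sylow.coe_mapSurjective]
    exact ⟨_, ⟨r, rfl⟩, rfl⟩
  let φ : R →* (Pb : Subgroup Lb) := (q.comp j).codRestrict _ hPb
  have hφs : Function.Surjective φ := by
    rintro ⟨x, hx⟩
    rw [Sylow.coe_mapSurjective] at hx
    obtain ⟨_, ⟨r, rfl⟩, rfl⟩ := hx
    exact ⟨r, rfl⟩
  have hφk : φ.ker = C.subgroupOf R := by
    ext r
    rw [MonoidHom.mem_ker, ← Subtype.coe_inj]
    show q (j r) = 1 ↔ _
    rw [hq, QuotientGroup.mk'_apply, QuotientGroup.eq_one_iff]
    exact ⟨fun ⟨r', hr', e⟩ => hjinj e ▸ hr', fun h => ⟨r, h, rfl⟩⟩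
  let e : (R ⧸ C.subgroupOf R) ≃* (Pb : Subgroup Lb) :=
    (QuotientGroup.quotientMulEquivOfEq hφk.symm).trans (QuotientGroup.quotientKerEquivOfSurjective φ hφs)
  have hee : ∀ r : R, e (QuotientGroup.mk' _ r) = φ r := fun r => rfl
  have heW := hW2 _ _ (hRp.to_quotient _) e
  have hWmem : ∀ r : R, q (j r) ∈ (W ↥(Pb : Subgroup Lb)).map (Pb : Subgroup Lb).subtype ↔
      (r : Ω) ∈ wFun W C R := by
    intro r
    rw [mem_wFun, ← heW]
    constructor
    · rintro ⟨_, ⟨w, hw, rfl⟩, he⟩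
      rwa [show QuotientGroup.mk' _ r = w from e.injective (Subtype.ext he.symm)]
    · exact fun h => ⟨_, ⟨_, h, rfl⟩, congrArg Subtype.val (hee r)⟩
  intro α hα
  obtain ⟨m, hm⟩ := hπsurj ⟨α, hα⟩
  have hmα : (D.modelProj m : MulAut Q) = α := congrArg Subtype.val hm
  set V := wFun W C R with hV
  have hVR : V ≤ R := wFun_le C R
  have hmV : ∀ r : R, (r : Ω) ∈ V → ∃ r' : R, (r' : Ω) ∈ V ∧ m * j r * m⁻¹ = j r' := by
    intro r hr
    have h1 := hWn.conj_mem _ ((hWmem r).2 hr) (q m)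
    rw [← _root_.map_inv, ← _root_.map_mul, ← _root_.map_mul] at h1
    obtain ⟨w, hw, hwe⟩ := h1
    obtain ⟨r', hr'⟩ := hφs w
    have hr'e : q (j r') = q (m * j r * m⁻¹) := by rw [← hwe, ← hr']; rfl
    obtain ⟨c, hc, hce⟩ := QuotientGroup.eq.1 hr'e
    refine ⟨r' * c, (wFun W C R).mul_mem ((hWmem r').1 ⟨w, hw, ?_⟩) (le_wFun (hCQ.trans hQR) hc), ?_⟩
    · rw [← hr']; rfl
    · rw [_root_.map_mul, hce, mul_inv_cancel_left]
  let f : Ω → Ω := fun x =>
    bwdFun D.iota_injective ((m : D.Model) * homFun D.iota x * (m : D.Model)⁻¹)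
  have hfr : ∀ (r : R) (r' : R), m * j r * m⁻¹ = j r' → f r = r' := by
    intro r r' h
    show bwdFun D.iota_injective ((m : D.Model) * homFun D.iota (r : Ω) * (m : D.Model)⁻¹) = r'
    rw [show homFun D.iota (r : Ω) = D.iota (Subgroup.inclusion hRN r) from homFun_mem _ (hRN r.2)]
    have := congrArg Subtype.val h
    rw [show (m : D.Model) * D.iota (Subgroup.inclusion hRN r) * (m : D.Model)⁻¹ =
      D.iota (Subgroup.inclusion hRN r') from this, bwdFun_apply]
    rfl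
  have hfQ : ∀ x ∈ Q, f x = autMap α x := fun x hx => by
    rw [hfr ⟨x, hQR hx⟩ _ (hconjj m ⟨x, hQR hx⟩ hx), hmα]
  have hmap : IsMap E (V ⊔ Q) f := by
    have hle : V ⊔ Q ≤ ((j.range.comap (MulAut.conj m).toMonoidHom).comap j).map R.subtype := by
      refine sup_le (fun x hx => ?_) (fun x hx => ?_)
      · obtain ⟨r', -, he⟩ := hmV ⟨x, hVR hx⟩ hx
        exact ⟨⟨x, hVR hx⟩, ⟨r', he.symm⟩, rfl⟩
      · exact ⟨⟨x, hQR hx⟩, ⟨_, (hconjj m ⟨x, hQR hx⟩ hx).symm⟩, rfl⟩
    refine D.isMap_of_conj ((sup_le hVR hQR).trans hRN) (m := (m : D.Model)) fun x hx => ?_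
    obtain ⟨r, ⟨r', hr'⟩, hrx⟩ := hle hx
    obtain rfl : Subgroup.inclusion hRN r = x := Subtype.ext hrx
    have hr'' : m * j r * m⁻¹ = j r' := hr'.symm
    refine ⟨show f (r : Ω) ∈ N from (hfr r r' hr'').symm ▸ hRN r'.2, ?_⟩
    exact (congrArg Subtype.val hr'').trans (congrArg D.iota (Subtype.ext (hfr r r' hr'').symm))
  refine ⟨f, hK.isMap_le hmap, hfQ, fun x hx => ?_⟩
  obtain ⟨r', hr', he⟩ := hmV ⟨x, hVR hx⟩ hx
  exact (hfr _ r' he).symm ▸ hr'

include hW2 hW3 hfree in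
theorem localHyp_wFun (hS : IsPGroup p S) (hF : F.IsSaturated p) : LocalHyp F p (wFun W) := by
  intro C R Q A hCQ hQR hRS hQc hRQ hRC hA hRA hsyl hAC hAp α hα
  have hQS := hQR.trans hRS
  have hCR := hCQ.trans hQR
  have hRN : R ≤ normalizerIn S Q := fun x hx => ⟨hRS hx, hRQ hx⟩
  haveI := finite_of_le hRS
  haveI := finite_of_le hQS
  obtain ⟨Q₂, hQQ₂, hQ₂n⟩ := exists_isFullyNormalized F hQS
  obtain ⟨u, hu, hui, hum⟩ := exists_map_to_fullyNormalized hS hF hQ₂n hQQ₂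
  have huR := (hu.mono hRN).isIso
  set R₂ := imgSub u R
  set C₂ := imgSub u C
  have huC : IsMap F C u := (hu.mono hRN).mono hCR
  haveI := finite_of_le hQ₂n.1
  haveI := finite_mulAut_of_le hQ₂n.1
  have hC₂R : R₂ ≤ Subgroup.normalizer (C₂ : Set Ω) := by
    haveI := finite_of_le huC.imgSub_le
    intro y hy
    obtain ⟨x, hx, rfl⟩ := huR.exists_preimage hy
    refine mem_normalizer_of_maps fun z hz => ?_
    obtain ⟨c, hc, rfl⟩ := huC.mem_imgSub.1 hz
    rw [← huR.isMap.map_conj hx (hCR hc)]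
    exact huC.mem_imgSub.2 ⟨_, (Subgroup.mem_normalizer_iff.1 (hRC hx) c).1 hc, rfl⟩
  have hQ₂R₂ : Q₂ ≤ R₂ := fun y hy => by
    obtain ⟨x, hx, rfl⟩ := hui.exists_preimage hy
    exact huR.mem (hQR hx)
  have hR₂N : R₂ ≤ normalizerIn S Q₂ := fun y hy => by
    obtain ⟨x, hx, rfl⟩ := huR.exists_preimage hy
    exact hum x (hRN hx)
  set A₂ := A.map hui.autEquiv.toMonoidHom
  have hind : ∀ x, ∀ hx : x ∈ R, hui.autEquiv (conjAut (hRQ hx)) = conjAut (hR₂N (huR.mem hx)).2 :=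
    fun x hx => hui.autEquiv_conjAut hu (le_normalizerIn_self hQS) (fun _ _ => rfl) (hRN hx) _ _
  have hmapR : (autInducedBy R Q).map hui.autEquiv.toMonoidHom = autInducedBy R₂ Q₂ := by
    ext a
    constructor
    · rintro ⟨b, hb, rfl⟩
      obtain ⟨x, hx, hxn, rfl⟩ := mem_autInducedBy.1 hb
      exact mem_autInducedBy.2 ⟨u x, huR.mem hx, _, hind x hx⟩
    · intro ha
      obtain ⟨y, hy, hyn, rfl⟩ := mem_autInducedBy.1 ha
      obtain ⟨x, hx, rfl⟩ := huR.exists_preimage hy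
      exact ⟨_, mem_autInducedBy.2 ⟨x, hx, hRQ hx, rfl⟩, hind x hx⟩
  have happ : ∀ (b : MulAut Q) (x : Ω), x ∈ Q → autMap (hui.autEquiv b) (u x) = u (autMap b x) :=
    fun b x hx => hui.autMap_autEquiv b hx
  obtain ⟨g, hg, hge, hgV⟩ := local_at_fullyNormalized hW2 hW3 hfree hS hF C₂ R₂ Q₂ A₂
    (fun y hy => by obtain ⟨x, hx, rfl⟩ := huC.mem_imgSub.1 hy; exact hui.mem (hCQ hx))
    hQ₂R₂ hQ₂n (isCentric_of_isConj hQc hQQ₂) hR₂N hC₂R
    (by rintro _ ⟨b, hb, rfl⟩; exact hui.autEquiv_mem_autGroup (hA hb))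
    (hmapR ▸ Subgroup.map_mono hRA)
    (by rw [← hmapR, Subgroup.relIndex_map_map_of_injective _ _ hui.autEquiv.injective]; exact hsyl)
    (by
      rintro _ ⟨b, hb, rfl⟩ y hy
      obtain ⟨x, hx, rfl⟩ := huC.mem_imgSub.1 hy
      rw [show hui.autEquiv.toMonoidHom b = hui.autEquiv b from rfl, happ b x (hCQ hx)]
      exact huC.mem_imgSub.2 ⟨_, hAC b hb x hx, rfl⟩)
    (by
      rintro _ ⟨b, hb, rfl⟩
      obtain ⟨n, hn⟩ := hAp b hb
      refine ⟨n, fun y hy => ?_⟩
      obtain ⟨x, hx, rfl⟩ := huC.mem_imgSub.1 hy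
      rw [show hui.autEquiv.toMonoidHom b ^ p ^ n = hui.autEquiv (b ^ p ^ n) from (map_pow _ _ _).symm,
        happ _ x (hCQ hx), hn x hx])
    (hui.autEquiv α) ⟨α, hα, rfl⟩
  have hV := image_wFun hW2 hS hRC hCR huR (rfl : imgSub u C = C₂)
  obtain ⟨v, hv, hvu⟩ := huR.isMap.exists_inv
  have hdom : ∀ x ∈ wFun W C R ⊔ Q, u x ∈ wFun W C₂ R₂ ⊔ Q₂ := fun x hx =>
    (huR.isMap.mono (sup_le (wFun_le C R) hQR)).mapsTo_sup
      (fun a ha => Subgroup.mem_sup_left
        (hV ▸ (huR.isMap.mono (wFun_le C R)).mem_imgSub.2 ⟨a, ha, rfl⟩))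
      (fun a ha => Subgroup.mem_sup_right (hui.mem ha)) hx
  refine ⟨v ∘ g ∘ u, ((huR.isMap.mono (sup_le (wFun_le C R) hQR)).comp hg hdom).comp hv fun x hx => ?_,
    fun x hx => ?_, fun x hx => ?_⟩
  · refine SetLike.le_def.1 (sup_le (wFun_le _ _) hQ₂R₂) (hg.mapsTo_sup
      (fun a ha => Subgroup.mem_sup_left (hgV a ha))
      (fun a ha => Subgroup.mem_sup_right (hge a ha ▸ autMap_mem _ ha)) (hdom x hx))
  · show v (g (u x)) = autMap α x
    rw [hge _ (hui.mem hx), happ α x hx, hvu _ (hQR (autMap_mem α hx))]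
  · have hux : u x ∈ wFun W C₂ R₂ := hV ▸ (huR.isMap.mono (wFun_le C R)).mem_imgSub.2 ⟨x, hx, rfl⟩
    have hg' := hgV _ hux
    rw [← hV] at hg'
    obtain ⟨y, hy, hye⟩ := (huR.isMap.mono (wFun_le C R)).mem_imgSub.1 hg'
    show v (g (u x)) ∈ wFun W C R
    rw [← hye, hvu y (wFun_le C R hy)]
    exact hy

include hW1 hW2 hW3 hfree in
/-- In an `X`-free system a Glauberman functor gives a normal subgroup. -/
theorem isNormal_functor (hS : IsPGroup p S) (hF : F.IsSaturated p) :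
    F.IsNormal ((W ↥S).map S.subtype) := by
  haveI : Finite (⊥ : Subgroup Ω) := inferInstance
  have hb : F.IsNormal ⊥ := Cfsg.Agent.H89.isNormal_bot F
  haveI hn : ((⊥ : Subgroup Ω).subgroupOf S).Normal :=
    normal_subgroupOf_of_le (fun x _ => Subgroup.mem_normalizer_iff.2 fun y => by simp)
  have hp1 : IsPGroup p (F.autGroup ⊥) := fun a => ⟨0, by
    rw [pow_zero, pow_one]
    exact Subtype.ext (MulEquiv.ext fun x => Subsingleton.elim _ _)⟩
  have h := isNormal_W hS hF (isWFun_wFun hW1 hW2 hS) (localHyp_wFun hW2 hW3 hfree hS hF) ⊥ hb hp1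
  have heq : wFun W ⊥ S = (W ↥S).map S.subtype := by
    let e : (↥S ⧸ (⊥ : Subgroup Ω).subgroupOf S) ≃* ↥S :=
      (QuotientGroup.quotientMulEquivOfEq (Subgroup.bot_subgroupOf S)).trans QuotientGroup.quotientBot
    have he := hW2 _ _ (hS.to_quotient _) e
    have hee : ∀ x : S, e (QuotientGroup.mk' _ x) = x := fun x => rfl
    ext x
    constructor
    · intro hx
      have hxS := wFun_le _ _ hx
      refine ⟨⟨x, hxS⟩, ?_, rfl⟩
      rw [← he]
      exact ⟨_, (mem_wFun (x := ⟨x, hxS⟩)).1 hx, hee _⟩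
    · rintro ⟨y, hy, rfl⟩
      rw [← he] at hy
      obtain ⟨w, hw, rfl⟩ := hy
      obtain ⟨r, rfl⟩ := QuotientGroup.mk'_surjective _ w
      exact (mem_wFun (x := r)).2 hw
  rwa [heq] at h

end Local

end Cfsg.Agent.FusionSys
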