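import Cfsg.Agent.FusionSys.ModelRealize
import Cfsg.Agent.FusionSys.Transport

/-!
Properties of models: the system is constrained, `O_p(G)` corresponds to `O_p(F)`, uniqueness, and automorphisms
fixing the Sylow subgroup.
-/

set_option autoImplicit false

namespace Cfsg.Agent.FusionSys

open Cfsg Cfsg.FusionSystem Set
open scoped IsMulCommutative

universe u v

variable {Ω : Type u} [Group Ω] {S : Subgroup Ω} [Finite S] {p : ℕ} [Fact p.Prime]
  {F : FusionSystem S} {G : Type v} [Group G] {ι : S →* G}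

/-- The preimage of `O_p(G)`. -/
def modelCore (p : ℕ) (ι : S →* G) : Subgroup Ω := ((pCore p G).comap ι).map S.subtype

omit [Finite S] [Fact p.Prime] in
theorem mem_modelCore {x : S} : (x : Ω) ∈ modelCore p ι ↔ ι x ∈ pCore p G := by
  constructor
  · rintro ⟨y, hy, e⟩
    obtain rfl : y = x := Subtype.ext e
    exact hy
  · exact fun h => ⟨x, h, rfl⟩

omit [Finite S] [Fact p.Prime] in
theorem modelCore_le : modelCore p ι ≤ S := Subgroup.map_subtype_le _

theorem pCore_le_range (hG : F.IsModel p G ι) : pCore p G ≤ ι.range := by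
  obtain ⟨T, hT⟩ := hG.2.2.1
  exact hT ▸ Cores.pCore_le_sylow T

omit [Finite S] [Fact p.Prime] in
theorem conj_mem_pCore {x : G} (hx : x ∈ pCore p G) (g : G) : g * x * g⁻¹ ∈ pCore p G :=
  (inferInstance : (pCore p G).Normal).conj_mem x hx g

/-- A map realised by `g` extends over the preimage of `O_p(G)`. -/
theorem exists_conj_extend (hG : F.IsModel p G ι) {P : Subgroup Ω} {f : Ω → Ω}
    (hf : IsMap F P f) : ∃ (ψ : Ω → Ω) (g : G), IsMap F (P ⊔ modelCore p ι) ψ ∧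
      (∀ x ∈ P, ψ x = f x) ∧ ∀ x : S, (x : Ω) ∈ P ⊔ modelCore p ι →
        ∃ h : ψ x ∈ S, ι ⟨ψ x, h⟩ = g * ι x * g⁻¹ := by
  obtain ⟨hP, g, hg⟩ := (isMap_realized_iff hG.2.1).1 hf
  let X : Subgroup Ω := (ι.range.comap ((MulAut.conj g).toMonoidHom.comp ι)).map S.subtype
  have hX : P ⊔ modelCore p ι ≤ X := by
    refine sup_le (fun x hx => ⟨⟨x, hP hx⟩, ?_, rfl⟩) ?_
    · obtain ⟨h, he⟩ := hg ⟨x, hP hx⟩ hx
      exact ⟨⟨f x, h⟩, he⟩
    · rintro _ ⟨x, hx, rfl⟩
      exact ⟨x, pCore_le_range hG (conj_mem_pCore hx g), rfl⟩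
  let ψ : Ω → Ω := fun x => bwdFun hG.2.1.1 (g * homFun ι x * g⁻¹)
  have hψ : ∀ x : S, (x : Ω) ∈ X → ∃ h : ψ x ∈ S, ι ⟨ψ x, h⟩ = g * ι x * g⁻¹ := by
    rintro x ⟨y, ⟨s, hs⟩, e⟩
    obtain rfl : y = x := Subtype.ext e
    have hs' : ι s = g * ι y * g⁻¹ := hs
    have he : ψ y = s := by
      show bwdFun hG.2.1.1 (g * homFun ι y * g⁻¹) = s
      rw [homFun_coe, ← hs', bwdFun_apply]
    exact ⟨he.symm ▸ s.2, (congrArg ι (Subtype.ext he)).trans hs'⟩
  refine ⟨ψ, g, (isMap_realized_iff hG.2.1).2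
    ⟨sup_le hP modelCore_le, g, fun x hx => hψ x (hX hx)⟩, fun x hx => ?_, fun x hx => hψ x (hX hx)⟩
  obtain ⟨h, he⟩ := hg ⟨x, hP hx⟩ hx
  obtain ⟨h', he'⟩ := hψ ⟨x, hP hx⟩ (hX (le_sup_left (b := modelCore p ι) hx))
  exact congrArg Subtype.val (hG.2.1.1 (he'.trans he.symm))

theorem isNormal_modelCore (hG : F.IsModel p G ι) : F.IsNormal (modelCore p ι) := by
  refine isNormal_iff.2 ⟨modelCore_le, fun P f hf => ?_⟩
  obtain ⟨ψ, g, hψ, he, hg⟩ := exists_conj_extend hG hf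
  refine ⟨ψ, hψ, he, ?_⟩
  haveI := finite_of_le (S := S) (modelCore_le (p := p) (ι := ι))
  refine (hψ.mono le_sup_right).image_eq_of_mapsTo fun x hx => ?_
  obtain ⟨h, he'⟩ := hg ⟨x, modelCore_le hx⟩ (le_sup_right (a := P) hx)
  refine (mem_modelCore (x := ⟨ψ x, h⟩)).2 ?_
  rw [he']
  exact conj_mem_pCore ((mem_modelCore (x := ⟨x, modelCore_le hx⟩)).1 hx) g

/-- Elements of `G` centralising the preimage of `O_p(G)` lie in `O_p(G)`. -/
theorem mem_pCore_of_centralizes (hG : F.IsModel p G ι) {g : G}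
    (h : ∀ x : S, (x : Ω) ∈ modelCore p ι → ι x * g = g * ι x) : g ∈ pCore p G := by
  refine hG.2.2.2 (Subgroup.mem_centralizer_iff.2 fun y hy => ?_)
  obtain ⟨x, rfl⟩ := pCore_le_range hG hy
  exact h x (mem_modelCore.2 hy)

theorem isCentric_modelCore (hG : F.IsModel p G ι) : F.IsCentric (modelCore p ι) := by
  refine ⟨modelCore_le, fun R hR x hx => ?_⟩
  obtain ⟨f, hf⟩ := isConj_iff.1 hR
  obtain rfl : R = modelCore p ι := by
    haveI := finite_of_le (S := S) (modelCore_le (p := p) (ι := ι))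
    have hsc := (stronglyClosed_iff.1 (stronglyClosed_of_isNormal (isNormal_modelCore hG))).2
    have h1 := isIso_of_mapsTo hf.isMap fun y hy => hsc _ f le_rfl hf.isMap y hy
    exact hf.eq_imgSub.trans h1.eq_imgSub.symm
  obtain ⟨hxS, hxc⟩ := mem_centralizerIn.1 hx
  refine (mem_modelCore (x := ⟨x, hxS⟩)).2 (mem_pCore_of_centralizes hG fun y hy => ?_)
  rw [← _root_.map_mul, ← _root_.map_mul]
  exact congrArg ι (Subtype.ext (hxc y hy))

theorem isConstrained_of_model (hS : IsPGroup p S) (hG : F.IsModel p G ι) : F.IsConstrained p :=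
  haveI := hG.1
  ⟨isSaturated_of_realized hS hG.2.1 hG.2.2.1, _, isNormal_modelCore hG, isCentric_modelCore hG⟩

/-- `O_p(F)` corresponds to `O_p(G)` in every model. -/
theorem core_eq_modelCore (hS : IsPGroup p S) (hG : F.IsModel p G ι) :
    F.core = modelCore p ι := by
  haveI := hG.1
  refine le_antisymm ?_ (Cfsg.Agent.H89.le_core F (isNormal_modelCore hG))
  have hQ := Cfsg.Agent.H89.isNormal_core F
  set Q := F.core
  haveI := finite_of_le hQ.1
  let QG : Subgroup G := (Q.subgroupOf S).map ι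
  have key : ∀ (g : G) (x : S), (x : Ω) ∈ Q → g * ι x * g⁻¹ ∈ QG := by
    intro g x hx
    have hmem : ∀ y : S, (y : Ω) ∈ modelCore p ι →
        ∃ h : bwdFun hG.2.1.1 (g * ι y * g⁻¹) ∈ S, ι ⟨_, h⟩ = g * ι y * g⁻¹ := fun y hy => by
      obtain ⟨s, hs⟩ := pCore_le_range hG (conj_mem_pCore (mem_modelCore.1 hy) g)
      have he : bwdFun hG.2.1.1 (g * ι y * g⁻¹) = s := by rw [← hs, bwdFun_apply]
      exact ⟨he.symm ▸ s.2, (congrArg ι (Subtype.ext he)).trans hs⟩
    have hmap : IsMap F (modelCore p ι)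
        (fun y => bwdFun hG.2.1.1 (g * homFun ι y * g⁻¹)) := by
      refine (isMap_realized_iff hG.2.1).2 ⟨modelCore_le, g, fun y hy => ?_⟩
      simp only [homFun_coe]
      exact hmem y hy
    obtain ⟨ψ, hψ, hψe, hψQ⟩ := (isNormal_iff.1 hQ).2 _ _ hmap
    obtain ⟨-, g', hg'⟩ := (isMap_realized_iff hG.2.1).1 hψ
    have hd : g'⁻¹ * g ∈ pCore p G := mem_pCore_of_centralizes hG fun y hy => by
      obtain ⟨h, he⟩ := hg' y (le_sup_left (b := Q) hy)
      obtain ⟨h', he'⟩ := hmem y hy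
      have hy' : ψ y = bwdFun hG.2.1.1 (g * ι y * g⁻¹) := by
        rw [hψe y hy]
        simp only [homFun_coe]
      have h1 : g' * ι y * g'⁻¹ = g * ι y * g⁻¹ :=
        he.symm.trans ((congrArg ι (Subtype.ext hy')).trans he')
      calc ι y * (g'⁻¹ * g) = g'⁻¹ * (g' * ι y * g'⁻¹) * g := by group
        _ = g'⁻¹ * g * ι y := by rw [h1]; group
    obtain ⟨w, hw⟩ := pCore_le_range hG hd
    let x' : S := w * x * w⁻¹
    have hx' : (x' : Ω) ∈ Q :=
      (Subgroup.mem_normalizer_iff.1 (le_normalizer_of_isNormal hQ w.2) x).1 hx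
    obtain ⟨h, he⟩ := hg' x' (le_sup_right (a := modelCore p ι) hx')
    have hq : ψ x' ∈ Q := by
      rw [← SetLike.mem_coe, ← hψQ]
      exact ⟨_, hx', rfl⟩
    refine ⟨⟨ψ x', h⟩, hq, ?_⟩
    rw [he, _root_.map_mul, _root_.map_mul, _root_.map_inv, hw]
    group
  haveI : QG.Normal := ⟨by
    rintro _ ⟨x, hx, rfl⟩ g
    exact key g x hx⟩
  have hle : QG ≤ pCore p G := Cores.le_pCore ((hS.to_subgroup (Q.subgroupOf S)).map ι)
  exact fun x hx => (mem_modelCore (x := ⟨x, hQ.1 hx⟩)).2 (hle ⟨_, hx, rfl⟩)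

namespace Setup

variable (D : Setup F p)

/-- The conjugation action of a model on `Q`, given that `Q` corresponds to `O_p(G)`. -/
theorem exists_projTo (hG : F.IsModel p G ι) (hQ : D.Q = modelCore p ι) :
    ∃ π : G →* D.A, (∀ (g : G) (q : D.Q),
      ι (D.toS ((π g : MulAut D.Q) q)) = g * ι (D.toS q) * g⁻¹) ∧
      (∀ s : S, π (ι s) = D.c s) ∧ Function.Surjective π ∧
      ∀ g, π g = 1 → ∃ z : Subgroup.center D.Q, g = ι (D.toS z) := by
  haveI := D.finite_Q
  have hmem : ∀ q : D.Q, ι (D.toS q) ∈ pCore p G := fun q =>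
    mem_modelCore.1 (hQ ▸ q.2 : (q : Ω) ∈ modelCore p ι)
  have hex : ∀ w ∈ pCore p G, ∃ q : D.Q, ι (D.toS q) = w := fun w hw => by
    obtain ⟨s, rfl⟩ := pCore_le_range hG hw
    exact ⟨⟨s, hQ.symm ▸ mem_modelCore.2 hw⟩, rfl⟩
  let e : D.Q ≃* pCore p G := MulEquiv.ofBijective
    ((ι.comp D.toS).codRestrict (pCore p G) hmem)
    ⟨fun x y h => Subgroup.inclusion_injective D.le_S (hG.2.1.1 (congrArg Subtype.val h)),
      fun w => (hex w w.2).imp fun q hq => Subtype.ext hq⟩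
  have he : ∀ q, ((e q : pCore p G) : G) = ι (D.toS q) := fun q => rfl
  let α : G →* MulAut D.Q := (MulAut.congr e.symm).toMonoidHom.comp MulAut.conjNormal
  have hα : ∀ (g : G) (q : D.Q), ι (D.toS (α g q)) = g * ι (D.toS q) * g⁻¹ := by
    intro g q
    show ι (D.toS (e.symm (MulAut.conjNormal g (e q)))) = _
    rw [← he, MulEquiv.apply_symm_apply, MulAut.conjNormal_apply, he]
  have hαA : ∀ g, α g ∈ D.A := fun g => by
    refine mem_autGroup_of_isMap ((isMap_realized_iff hG.2.1).2 ⟨D.le_S, g, fun x hx => ?_⟩)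
    rw [autMap_apply _ hx]
    exact ⟨D.le_S (SetLike.coe_mem _), hα g ⟨x, hx⟩⟩
  refine ⟨α.codRestrict D.A hαA, hα, fun s => ?_, fun a => ?_, fun g hg => ?_⟩
  · apply Subtype.ext
    apply MulEquiv.ext
    intro q
    apply Subgroup.inclusion_injective D.le_S
    apply hG.2.1.1
    refine (hα (ι s) q).trans ?_
    rw [← _root_.map_inv, ← _root_.map_mul, ← _root_.map_mul]
    rfl
  · obtain ⟨-, g, hg⟩ := (isMap_realized_iff hG.2.1).1 ((mem_autGroup_iff D.le_S).1 a.2)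
    refine ⟨g, Subtype.ext (MulEquiv.ext fun q => Subgroup.inclusion_injective D.le_S
      (hG.2.1.1 ((hα g q).trans ?_)))⟩
    obtain ⟨h, hge⟩ := hg (D.toS q) q.2
    rw [← hge]
    exact congrArg ι (Subtype.ext (autMap_coe _ q))
  · have hc : g ∈ pCore p G := mem_pCore_of_centralizes hG fun x hx => by
      have h1 := hα g ⟨x, hQ.symm ▸ hx⟩
      rw [show α g = 1 from congrArg Subtype.val hg, MulAut.one_apply] at h1
      exact eq_mul_inv_iff_mul_eq.1 h1
    obtain ⟨q, rfl⟩ := hex g hc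
    refine ⟨⟨q, Subgroup.mem_center_iff.2 fun r => ?_⟩, rfl⟩
    have h1 := hα (ι (D.toS q)) r
    rw [show α (ι (D.toS q)) = 1 from congrArg Subtype.val hg, MulAut.one_apply,
      eq_mul_inv_iff_mul_eq, ← _root_.map_mul ι, ← _root_.map_mul ι] at h1
    exact Subgroup.inclusion_injective D.le_S ((_root_.map_mul _ _ _).trans
      ((hG.2.1.1 h1).trans (_root_.map_mul _ _ _).symm))

theorem exists_equiv_model (hG : F.IsModel p G ι) (hQ : D.Q = modelCore p ι) :
    ∃ φ : G ≃* D.Model, ∀ s : S, φ (ι s) = D.iota s := by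
  obtain ⟨π, hα, hπι, hπs, hπk⟩ := D.exists_projTo hG hQ
  have hιs : ∀ g, π g ∈ D.R → ∃ s : S, ι s = g := by
    rintro g ⟨s, hs⟩
    obtain ⟨z, hz⟩ := hπk ((ι s)⁻¹ * g) (by rw [_root_.map_mul, _root_.map_inv, hπι, hs, inv_mul_cancel])
    exact ⟨s * D.toS z, by rw [_root_.map_mul, ← hz, mul_inv_cancel_left]⟩
  have hgb : ∀ b : D.X, ∃ g : G, π g = Quotient.out b ∧ ∀ x : S, (x : Ω) ∈ D.stab b ⊔ D.Q →
      ∃ h : D.theta b x ∈ S, ι ⟨D.theta b x, h⟩ = g⁻¹ * ι x * g := by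
    intro b
    obtain ⟨-, h, hh⟩ := (isMap_realized_iff hG.2.1).1 (D.isMap_theta b)
    refine ⟨h⁻¹, ?_, fun x hx => by rw [inv_inv]; exact hh x hx⟩
    rw [_root_.map_inv, inv_eq_iff_eq_inv]
    apply Subtype.ext
    apply MulEquiv.ext
    intro q
    obtain ⟨hq, hqe⟩ := hh (D.toS q) (le_sup_right (a := D.stab b) q.2)
    apply Subgroup.inclusion_injective D.le_S
    apply hG.2.1.1
    have h2 : ι (D.toS ((((Quotient.out b)⁻¹ : D.A) : MulAut D.Q) q)) = h * ι (D.toS q) * h⁻¹ := by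
      rw [← hqe]
      exact congrArg ι (Subtype.ext (D.theta_Q b q).symm)
    refine Eq.trans ?_ h2.symm
    exact hα h q
  choose gb hgb₁ hgb₂ using hgb
  let gi : D.X → G := fun i => ι (D.u i) * gb (D.base i)
  have hgi : ∀ i, π (gi i) = D.t i := fun i => by
    rw [_root_.map_mul, hπι, hgb₁]
    rfl
  have hex : ∀ g i, ∃ s : S, ι s = (gi (π g • i))⁻¹ * g * gi i := fun g i => hιs _ <| by
    rw [_root_.map_mul, _root_.map_mul, _root_.map_inv, hgi, hgi]
    exact D.t_inv_mul_mem (π g) i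
  choose sg hsg using hex
  let Φ : G →* D.Hat := MonoidHom.mk'
    (fun g => ⟨π g, sg g, fun i => by
      have := congrArg π (hsg g i)
      rw [hπι, _root_.map_mul, _root_.map_mul, _root_.map_inv, hgi, hgi] at this
      rw [this, mul_assoc, mul_inv_cancel_left]⟩)
    fun g g' => Hat.ext' (_root_.map_mul π g g') fun i => hG.2.1.1 <| by
      show ι (sg (g * g') i) = ι (sg g (π g' • i) * sg g' i)
      rw [_root_.map_mul ι, hsg, hsg, hsg, _root_.map_mul, mul_smul]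
      group
  have hΦ : ∀ s : S, Φ (ι s) = D.iotaHat s := fun s => Hat.ext' (hπι s) fun i => hG.2.1.1 <| by
    show ι (sg (ι s) i) = ι (D.kappa s i)
    rw [hsg, hπι]
    have hred := D.red_fixes s i
    obtain ⟨h, he⟩ := hgb₂ (D.base i) _ (le_sup_left (b := D.Q) (D.mem_stab.2 hred))
    rw [show D.kappa s i = ⟨_, h⟩ from Subtype.ext rfl, he]
    show (ι (D.u (D.c s • i)) * gb (D.base (D.c s • i)))⁻¹ * ι s * (ι (D.u i) * gb (D.base i)) = _
    rw [D.base_smul, _root_.map_mul, _root_.map_mul, _root_.map_inv]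
    group
  let ψ : G →* D.Model := (QuotientGroup.mk' D.K).comp Φ
  have hψι : ∀ s, ψ (ι s) = D.iota s := fun s => congrArg (QuotientGroup.mk' D.K) (hΦ s)
  have hψπ : ∀ g, D.modelProj (ψ g) = π g := fun g => rfl
  have hinj : Function.Injective ψ := by
    rw [injective_iff_map_eq_one]
    intro g hg
    obtain ⟨z, rfl⟩ := hπk g (by rw [← hψπ, hg, _root_.map_one])
    rw [hψι] at hg
    rw [show D.toS z = 1 from (injective_iff_map_eq_one D.iota).1 D.iota_injective _ hg,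
      _root_.map_one]
  have hsurj : Function.Surjective ψ := fun m => by
    obtain ⟨g, hg⟩ := hπs (D.modelProj m)
    obtain ⟨z, hz⟩ := D.exists_eq_iota_of_modelProj_eq_one (g := (ψ g)⁻¹ * m)
      (by rw [_root_.map_mul, _root_.map_inv, hψπ, hg, inv_mul_cancel])
    exact ⟨g * ι (D.toS z), by rw [_root_.map_mul, hψι, ← hz, mul_inv_cancel_left]⟩
  exact ⟨MulEquiv.ofBijective ψ ⟨hinj, hsurj⟩, hψι⟩

end Setup

theorem exists_equiv_models (hS : IsPGroup p S) (hF : F.IsConstrained p) {G₂ : Type*} [Group G₂]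
    {ι₂ : S →* G₂} (h₁ : F.IsModel p G ι) (h₂ : F.IsModel p G₂ ι₂) :
    ∃ φ : G ≃* G₂, ∀ x : S, φ (ι x) = ι₂ x := by
  obtain ⟨φ₁, e₁⟩ := (setupCore hS hF).exists_equiv_model h₁ (core_eq_modelCore hS h₁)
  obtain ⟨φ₂, e₂⟩ := (setupCore hS hF).exists_equiv_model h₂ (core_eq_modelCore hS h₂)
  exact ⟨φ₁.trans φ₂.symm, fun x => by
    rw [MulEquiv.trans_apply, e₁, ← e₂ x, MulEquiv.symm_apply_apply]⟩

/-- An automorphism of a model fixing the Sylow subgroup is conjugation by an element of `Z(S)`. -/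
theorem exists_center_conj (hS : IsPGroup p S) (hG : F.IsModel p G ι) (ψ : G ≃* G)
    (hψ : ∀ x : S, ψ (ι x) = ι x) :
    ∃ z : S, z ∈ Subgroup.center S ∧ ∀ g : G, ψ g = ι z * g * (ι z)⁻¹ := by
  haveI := hG.1
  obtain ⟨T, hT⟩ := hG.2.2.1
  let Z : Subgroup G := pCore p G ⊓ Subgroup.centralizer ((pCore p G : Subgroup G) : Set G)
  haveI : IsMulCommutative Z :=
    ⟨⟨fun a b => Subtype.ext ((Subgroup.mem_centralizer_iff.1 b.2.2) a a.2.1)⟩⟩
  have hfix : ∀ w ∈ pCore p G, ψ w = w := fun w hw => by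
    obtain ⟨x, rfl⟩ := pCore_le_range hG hw
    exact hψ x
  have hd : ∀ g : G, ψ g * g⁻¹ ∈ Z := by
    intro g
    have hc : ψ g * g⁻¹ ∈ Subgroup.centralizer ((pCore p G : Subgroup G) : Set G) := by
      rw [Subgroup.mem_centralizer_iff]
      intro w hw
      have hw' : g⁻¹ * w * g ∈ pCore p G := by simpa using conj_mem_pCore hw g⁻¹
      have h1 : (ψ g)⁻¹ * w * ψ g = g⁻¹ * w * g := by
        rw [← hfix _ hw', _root_.map_mul, _root_.map_mul, _root_.map_inv, hfix w hw]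
      calc w * (ψ g * g⁻¹) = ψ g * ((ψ g)⁻¹ * w * ψ g) * g⁻¹ := by group
        _ = ψ g * g⁻¹ * w := by rw [h1]; group
    exact ⟨hG.2.2.2 hc, hc⟩
  let d : G → Z := fun g => ⟨ψ g * g⁻¹, hd g⟩
  have hdT : ∀ g, ∀ t ∈ (T : Subgroup G), d (g * t) = d g := by
    intro g t ht
    obtain ⟨x, rfl⟩ := (hT ▸ ht : t ∈ ι.range)
    apply Subtype.ext
    show ψ (g * ι x) * (g * ι x)⁻¹ = ψ g * g⁻¹
    rw [_root_.map_mul, hψ]
    group
  haveI : Z.Normal := inferInstance
  letI : Fintype (G ⧸ (T : Subgroup G)) := Fintype.ofFinite _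
  let w : Z := ∏ i : G ⧸ (T : Subgroup G), d (Quotient.out i)
  let cj : G → Z →* Z := fun g => (MulAut.conjNormal g).toMonoidHom
  have hcj : ∀ g (x : Z), ((cj g x : Z) : G) = g * x * g⁻¹ := fun g x => rfl
  have hw : ∀ g, d g ^ (T : Subgroup G).index = w * (cj g w)⁻¹ := by
    intro g
    rw [eq_mul_inv_iff_mul_eq, Subgroup.index_eq_card, Nat.card_eq_fintype_card, ← Finset.card_univ,
      ← Finset.prod_const, _root_.map_prod, ← Finset.prod_mul_distrib]
    refine Fintype.prod_equiv (MulAction.toPerm g) _ _ fun i => ?_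
    obtain ⟨t, ht⟩ : ∃ t ∈ (T : Subgroup G),
        Quotient.out (g • i) = g * Quotient.out i * t := by
      have h : (QuotientGroup.mk (g * Quotient.out i) : G ⧸ (T : Subgroup G)) = g • i := by
        rw [← smul_eq_mul, ← MulAction.Quotient.smul_mk, QuotientGroup.out_eq']
      obtain ⟨t, ht⟩ := QuotientGroup.mk_out_eq_mul (T : Subgroup G) (g * Quotient.out i)
      rw [h] at ht
      exact ⟨t, t.2, ht⟩
    rw [show MulAction.toPerm g i = g • i from rfl, ht.2, hdT _ _ ht.1]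
    apply Subtype.ext
    show ψ g * g⁻¹ * (g * (ψ (Quotient.out i) * (Quotient.out i)⁻¹) * g⁻¹) =
      ψ (g * Quotient.out i) * (g * Quotient.out i)⁻¹
    rw [_root_.map_mul]
    group
  obtain ⟨n, hn⟩ := IsPGroup.iff_card.1 ((Cores.pCore_isPGroup (p := p) (G := G)).to_le
    (inf_le_left : Z ≤ pCore p G))
  have hcop : (Nat.card Z).Coprime (T : Subgroup G).index := by
    rw [hn]
    exact (((Fact.out : p.Prime).coprime_iff_not_dvd).2 T.not_dvd_index).pow_left n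
  obtain ⟨z, hz⟩ := (powCoprime hcop).surjective w
  rw [powCoprime_apply] at hz
  have key : ∀ g, d g = z * (cj g z)⁻¹ := fun g => by
    refine (powCoprime hcop).injective ?_
    rw [powCoprime_apply, powCoprime_apply, hw, mul_pow, inv_pow, ← _root_.map_pow, hz]
  have hkey : ∀ g, ψ g = z * g * (z : G)⁻¹ := fun g => by
    have h := congrArg Subtype.val (key g)
    change ψ g * g⁻¹ = (z : G) * (g * z * g⁻¹)⁻¹ at h
    rw [mul_inv_eq_iff_eq_mul] at h
    rw [h]
    group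
  obtain ⟨z₀, hz₀⟩ := pCore_le_range hG z.2.1
  refine ⟨z₀, Subgroup.mem_center_iff.2 fun s => hG.2.1.1 ?_, fun g => by rw [hz₀]; exact hkey g⟩
  have h1 := hkey (ι s)
  rw [hψ, eq_mul_inv_iff_mul_eq] at h1
  rw [_root_.map_mul, _root_.map_mul, hz₀]
  exact h1

end Cfsg.Agent.FusionSys
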