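import Cfsg.Agent.FusionSys.Skeleton
import Cfsg.Agent.FusionSys.GlauFunctor
import Cfsg.Agent.FusionSys.ModelFacts
import Cfsg.Agent.Fusion.StrongControl
import Cfsg.Agent.H49.LocalModel

/-!
Control of the centre of a saturated system by a functor containing the centre: a central element of the Sylow
subgroup fixed by the maps stabilizing `W` is central in the system, for any class of central elements in which this
holds in finite groups of characteristic `p`.
-/

set_option autoImplicit false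
set_option linter.style.haveILetI false

namespace Cfsg.Agent.FusionSys

open Cfsg Cfsg.FusionSystem Set

universe u

variable {Ω : Type u} [Group Ω] {S : Subgroup Ω}

/-- Every map of `E` extends to one fixing `z`. -/
def CentralElt {T : Subgroup Ω} (E : FusionSystem T) (z : Ω) : Prop :=
  ∀ P f, IsMap E P f → ∃ g, IsMap E (P ⊔ Subgroup.zpowers z) g ∧ (∀ x ∈ P, g x = f x) ∧ g z = z

theorem fix_zpowers {T : Subgroup Ω} {E : FusionSystem T} {P : Subgroup Ω} {g : Ω → Ω} {z : Ω}
    (hg : IsMap E P g) (hz : z ∈ P) (he : g z = z) : ∀ q ∈ Subgroup.zpowers z, g q = q := by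
  obtain ⟨φ, -, hφ⟩ := hg
  rintro _ ⟨n, rfl⟩
  show g (z ^ n) = z ^ n
  rw [← hφ ⟨z ^ n, P.zpow_mem hz n⟩, show (⟨z ^ n, P.zpow_mem hz n⟩ : P) = ⟨z, hz⟩ ^ n from Subtype.ext rfl,
    map_zpow, hφ ⟨z, hz⟩, he]

theorem centralElt_iff {T : Subgroup Ω} [Finite T] {E : FusionSystem T} {z : Ω} (hz : z ∈ T) :
    CentralElt E z ↔ z ∈ E.center := by
  constructor
  · intro h
    refine Cfsg.Agent.H89.le_center E (isCentral_iff.2 ⟨Subgroup.zpowers_le.2 hz, fun P f hf => ?_⟩)
      (Subgroup.mem_zpowers z)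
    obtain ⟨g, hg, hge, hgz⟩ := h P f hf
    exact ⟨g, hg, hge, fix_zpowers hg (Subgroup.mem_sup_right (Subgroup.mem_zpowers z)) hgz⟩
  · intro h P f hf
    obtain ⟨g, hg, hge, hgz⟩ := (isCentral_iff.1 (Cfsg.Agent.H89.isCentral_center E)).2 P f hf
    exact ⟨g, hg.mono (sup_le le_sup_left ((Subgroup.zpowers_le.2 h).trans le_sup_right)), hge, hgz z h⟩

variable {p : ℕ} [Fact p.Prime]

/-- The statement proved by the induction, for a class `Good` of central elements. -/
def CenterControlled (W : ∀ (Q : Type u) [Group Q], Subgroup Q)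
    (Good : ∀ (G : Type u) [Group G], Subgroup G → G → Prop) (T : Subgroup Ω) (E : FusionSystem T)
    (C : Subgroup Ω) : Prop :=
  ∀ z, Good Ω T z →
    (∀ P f, IsMap E P f → wFun W C T ≤ P → (∀ r ∈ wFun W C T, f r ∈ wFun W C T) → f z = z) →
    CentralElt E z

variable {W : ∀ (Q : Type u) [Group Q], Subgroup Q}
  (hW1 : ∀ (Q : Type u) [Group Q] [Finite Q], IsPGroup p Q → Nontrivial Q → W Q ≠ ⊥)
  (hW2 : ∀ (Q R : Type u) [Group Q] [Group R] [Finite Q], IsPGroup p Q →
    ∀ φ : Q ≃* R, (W Q).map φ.toMonoidHom = W R)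
  (hWZ : ∀ (Q : Type u) [Group Q] [Finite Q], IsPGroup p Q → Subgroup.center Q ≤ W Q)

/-- What is required of the class `Good`. -/
structure GoodClass (W : ∀ (Q : Type u) [Group Q], Subgroup Q) (p : ℕ)
    (Good : ∀ (G : Type u) [Group G], Subgroup G → G → Prop) : Prop where
  mem : ∀ (G : Type u) [Group G] (T : Subgroup G) (z : G), Good G T z →
    z ∈ T ∧ ∀ y ∈ T, y * z = z * y
  restrict : ∀ (G : Type u) [Group G] (T T' : Subgroup G) (z : G), T' ≤ T →
    T ⊓ Subgroup.centralizer (T : Set G) ≤ T' → Good G T z → Good G T' z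
  push : ∀ (G H : Type u) [Group G] [Group H] (T : Subgroup G) (θ : T →* H) (z : T),
    Good G T z → Good H θ.range (θ z)
  group : ∀ (G : Type u) [Group G] [Finite G] (P : Sylow p G),
    Subgroup.centralizer ((pCore p G : Subgroup G) : Set G) ≤ pCore p G →
    ∀ z : G, Good G (P : Subgroup G) z →
      (∀ n ∈ Subgroup.normalizer (((W ↥(P : Subgroup G)).map (P : Subgroup G).subtype : Subgroup G) : Set G),
        n * z = z * n) → z ∈ Subgroup.center G

include hWZ in
theorem mem_wFun_of_central {C R : Subgroup Ω} [Finite R] (hRp : IsPGroup p R)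
    (hn : R ≤ Subgroup.normalizer (C : Set Ω)) {z : Ω}
    (hz : z ∈ R) (hc : ∀ y ∈ R, y * z = z * y) : z ∈ wFun W C R := by
  haveI := normal_subgroupOf_of_le hn
  refine (mem_wFun (x := ⟨z, hz⟩)).2 (hWZ _ (hRp.to_quotient _) (Subgroup.mem_center_iff.2 fun w => ?_))
  obtain ⟨y, rfl⟩ := QuotientGroup.mk'_surjective _ w
  rw [← map_mul, ← map_mul]
  exact congrArg _ (Subtype.ext (hc y y.2))

variable {Good : ∀ (G : Type u) [Group G], Subgroup G → G → Prop} (hgood : GoodClass W p Good)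

variable [Finite S] {F : FusionSystem S} (hS : IsPGroup p S)

include hW2 hWZ hgood hS in
theorem centerControlled_of_centric {T : Subgroup Ω} {E : FusionSystem T} (hI : Inherits F p E)
    {C : Subgroup Ω} (hC : E.IsNormal C) (hCp : IsPGroup p (E.autGroup C))
    (hD : E.IsCentric E.core) : CenterControlled W Good T E C := by
  intro z hz hfix
  obtain ⟨hzT, hzc⟩ := hgood.mem Ω T z hz
  have hTS := hI.le
  haveI := finite_of_le hTS
  have hTp : IsPGroup p T := hS.to_le hTS
  have hDn : E.IsNormal E.core := Cfsg.Agent.H89.isNormal_core E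
  have hCD : C ≤ E.core := Cfsg.Agent.H89.le_core E hC
  let D : Setup E p := ⟨E.core, hTp, hI.sat, hDn, hD⟩
  haveI := D.finite_model
  obtain ⟨P₀, hP₀⟩ := D.exists_sylow_range
  set R := wFun W C T with hR
  have hRT : R ≤ T := wFun_le C T
  set ι := D.iota
  have hιinj : Function.Injective ι := D.iota_injective
  have hCT : C ≤ T := hC.1
  haveI := finite_of_le hCT
  haveI hCTn : (C.subgroupOf T).Normal := normal_subgroupOf_of_le (le_normalizer_of_isNormal hC)
  set Ch : Subgroup D.Model := (C.subgroupOf T).map ι with hChdef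
  have hsc := (stronglyClosed_iff.1 (stronglyClosed_of_isNormal hC)).2
  have hconjD : ∀ (m : D.Model) (c : T) (hc : (c : Ω) ∈ E.core),
      m * ι c * m⁻¹ = ι ⟨autMap (D.modelProj m : MulAut D.Q) c, hDn.1 (autMap_mem _ hc)⟩ := by
    intro m c hc
    refine (D.conj_toS m ⟨c, hc⟩).trans (congrArg ι (Subtype.ext ?_))
    exact (autMap_apply _ hc).symm
  have hautC : ∀ (m : D.Model) (c : Ω), c ∈ C → autMap (D.modelProj m : MulAut D.Q) c ∈ C := fun m c hc =>
    hsc C _ le_rfl (((mem_autGroup_iff hDn.1).1 (D.modelProj m).2).mono hCD) c hc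
  haveI hChn : Ch.Normal := ⟨by
    rintro _ ⟨c, hc, rfl⟩ m
    exact ⟨⟨_, hDn.1 (autMap_mem _ (hCD hc))⟩, hautC m c hc, (hconjD m c (hCD hc)).symm⟩⟩
  -- elements of order prime to `p` centralize `C`
  have hcen : ∀ g : D.Model, (orderOf g).Coprime p → ∀ c : T, (c : Ω) ∈ C → Commute g (ι c) := by
    intro g hg c hc
    set β := (D.modelProj g : MulAut D.Q)
    have hβn : β ^ orderOf g = 1 := by
      rw [← SubgroupClass.coe_pow, ← _root_.map_pow, pow_orderOf_eq_one, _root_.map_one]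
      rfl
    obtain ⟨γ, hγ, hγe⟩ := (isIso_of_mapsTo (((mem_autGroup_iff hDn.1).1 (D.modelProj g).2).mono hCD)
      (hautC g)).exists_aut
    have hpow : ∀ (k : ℕ), ∀ x ∈ C, autMap (β ^ k) x = autMap (γ ^ k) x := by
      intro k
      induction k with
      | zero => intro x hx; rw [pow_zero, pow_zero, autMap_one hx]; exact autMap_one (hCD hx)
      | succ k ih =>
        intro x hx
        rw [pow_succ, pow_succ, autMap_mul _ _ (hCD hx : x ∈ D.Q), autMap_mul _ _ hx,
          show autMap γ x = autMap β x from hγe x hx, ih _ (hautC g x hx)]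
    have hγn : γ ^ orderOf g = 1 := aut_ext fun x hx => by
      rw [← hpow _ x hx, hβn, autMap_one hx]
      exact autMap_one (hCD hx)
    obtain ⟨k, hk⟩ := hCp ⟨γ, hγ⟩
    have hγ1 : γ = 1 := orderOf_eq_one_iff.1 (Nat.eq_one_of_dvd_coprimes (Nat.Coprime.pow_left k hg.symm)
      (orderOf_dvd_of_pow_eq_one (show γ ^ p ^ k = 1 from congrArg Subtype.val hk))
      (orderOf_dvd_of_pow_eq_one hγn))
    have hfc : autMap β (c : Ω) = c := by
      rw [← show autMap γ (c : Ω) = autMap β c from hγe c hc, hγ1, autMap_one hc]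
    refine mul_inv_eq_iff_eq_mul.1 ((hconjD g c (hCD hc)).trans (congrArg ι (Subtype.ext ?_)))
    exact hfc
  set q := QuotientGroup.mk' Ch with hq
  have hqs : Function.Surjective q := QuotientGroup.mk'_surjective _
  let Pb : Sylow p (D.Model ⧸ Ch) := P₀.mapSurjective hqs
  -- the quotient has characteristic `p`
  have hcon : Subgroup.centralizer ((pCore p (D.Model ⧸ Ch) : Subgroup _) : Set (D.Model ⧸ Ch)) ≤
      pCore p (D.Model ⧸ Ch) := by
    haveI hQbn : (D.qSub.map q).Normal := Subgroup.Normal.map inferInstance q hqs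
    have hQp : IsPGroup p (D.qSub.map q) :=
      ((hTp.to_le hDn.1).of_surjective _ (MonoidHom.rangeRestrict_surjective _)).map q
    refine (Subgroup.centralizer_le (Cores.le_pCore (hN := hQbn) hQp)).trans ?_
    haveI : (Subgroup.centralizer ((D.qSub.map q : Subgroup _) : Set (D.Model ⧸ Ch))).Normal := by
      haveI := hQbn
      infer_instance
    refine Cores.le_pCore ?_
    rintro ⟨x, hx⟩
    obtain ⟨m, rfl⟩ := hqs x
    obtain ⟨k, hk⟩ := Fusion.exists_pow_coprime (p := p) m
    refine ⟨k, Subtype.ext ?_⟩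
    show q m ^ p ^ k = 1
    rw [← _root_.map_pow]
    have hmk : q (m ^ p ^ k) ∈ Subgroup.centralizer ((D.qSub.map q : Subgroup _) : Set (D.Model ⧸ Ch)) := by
      rw [_root_.map_pow]
      exact pow_mem hx _
    have hcq : m ^ p ^ k ∈ Subgroup.centralizer (D.qSub : Set D.Model) := by
      refine Subgroup.mem_centralizer_iff.2 fun b hb => ?_
      obtain ⟨c, hc, hce⟩ : b⁻¹ * (m ^ p ^ k * b * (m ^ p ^ k)⁻¹) ∈ Ch :=
        (QuotientGroup.eq_one_iff _).1 (by
          show q _ = 1
          rw [_root_.map_mul, _root_.map_inv, _root_.map_mul, _root_.map_mul, _root_.map_inv,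
            ← Subgroup.mem_centralizer_iff.1 hmk (q b) ⟨b, hb, rfl⟩, mul_inv_cancel_right, inv_mul_cancel])
      have hcc := hcen _ hk c hc
      have hn : ∀ i : ℕ, (m ^ p ^ k) ^ i * b * ((m ^ p ^ k) ^ i)⁻¹ = b * ι c ^ i := by
        intro i
        induction i with
        | zero => simp
        | succ i ih =>
          have h1 : m ^ p ^ k * b * (m ^ p ^ k)⁻¹ = b * ι c := by
            rw [hce, mul_inv_cancel_left]
          calc (m ^ p ^ k) ^ (i + 1) * b * ((m ^ p ^ k) ^ (i + 1))⁻¹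
              = m ^ p ^ k * ((m ^ p ^ k) ^ i * b * ((m ^ p ^ k) ^ i)⁻¹) * (m ^ p ^ k)⁻¹ := by
                rw [pow_succ']; group
            _ = m ^ p ^ k * b * (m ^ p ^ k)⁻¹ * (m ^ p ^ k * ι c ^ i * (m ^ p ^ k)⁻¹) := by
                rw [ih]; group
            _ = b * ι c * ι c ^ i := by rw [h1, (hcc.pow_right i).eq, mul_inv_cancel_right]
            _ = _ := by rw [mul_assoc, ← pow_succ']
      have h0 := hn (orderOf (m ^ p ^ k))
      rw [pow_orderOf_eq_one, one_mul, inv_one, mul_one] at h0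
      obtain ⟨j, hj⟩ := hTp c
      have hc1 : ι c = 1 := orderOf_eq_one_iff.1 (Nat.eq_one_of_dvd_coprimes (hk.pow_right j)
        (orderOf_dvd_of_pow_eq_one (left_eq_mul.1 h0))
        (orderOf_dvd_of_pow_eq_one (by rw [← _root_.map_pow, hj, _root_.map_one])))
      have h1 : b⁻¹ * (m ^ p ^ k * b * (m ^ p ^ k)⁻¹) = 1 := hce.symm.trans hc1
      exact (mul_inv_eq_iff_eq_mul.1 (inv_mul_eq_one.1 h1).symm).symm
    obtain ⟨d, hd⟩ := D.centralizer_qSub_le hcq
    obtain ⟨j, hj⟩ := hTp (D.toS d)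
    have h1 : m ^ p ^ k = 1 := orderOf_eq_one_iff.1 (Nat.eq_one_of_dvd_coprimes (hk.pow_right j) dvd_rfl
      (orderOf_dvd_of_pow_eq_one (by
        rw [← show ι (D.toS d) = m ^ p ^ k from hd, ← _root_.map_pow, hj, _root_.map_one])))
    rw [h1, _root_.map_one]
  -- the group statement in the quotient
  set Wb : Subgroup (D.Model ⧸ Ch) :=
    (W ↥(Pb : Subgroup (D.Model ⧸ Ch))).map (Pb : Subgroup (D.Model ⧸ Ch)).subtype with hWb
  let e : (↥T ⧸ C.subgroupOf T) →* (Pb : Subgroup (D.Model ⧸ Ch)) :=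
    QuotientGroup.lift _ ((q.comp ι).codRestrict _ fun t => by
      rw [Sylow.coe_mapSurjective]; exact ⟨_, hP₀ ▸ ⟨t, rfl⟩, rfl⟩) fun t ht =>
      Subtype.ext ((QuotientGroup.eq_one_iff _).2 ⟨t, ht, rfl⟩)
  have hes : Function.Surjective e := by
    rintro ⟨w, hw⟩
    rw [Sylow.coe_mapSurjective, hP₀] at hw
    obtain ⟨_, ⟨t, rfl⟩, rfl⟩ := hw
    exact ⟨QuotientGroup.mk t, rfl⟩
  have hei : Function.Injective e := by
    rw [injective_iff_map_eq_one]
    intro w hw
    obtain ⟨t, rfl⟩ := QuotientGroup.mk_surjective w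
    obtain ⟨d, hd, hde⟩ := (QuotientGroup.eq_one_iff _).1 (congrArg Subtype.val hw)
    exact (QuotientGroup.eq_one_iff _).2 (hιinj hde ▸ hd)
  have heW := hW2 _ _ (hTp.to_quotient _) (MulEquiv.ofBijective e ⟨hei, hes⟩)
  have hRmem : ∀ t : T, (t : Ω) ∈ R ↔ q (ι t) ∈ Wb := by
    intro t
    rw [hR, mem_wFun]
    constructor
    · intro h
      refine ⟨e (QuotientGroup.mk t), ?_, rfl⟩
      rw [← heW]
      exact ⟨_, h, rfl⟩
    · rintro ⟨w, hw, hwe⟩
      rw [← heW] at hw
      obtain ⟨y, hy, rfl⟩ := hw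
      rwa [show QuotientGroup.mk' _ t = y from hei (Subtype.ext hwe.symm)]
  have hzR : z ∈ R := mem_wFun_of_central hWZ hTp (le_normalizer_of_isNormal hC) hzT hzc
  have hzb : Good (D.Model ⧸ Ch) (Pb : Subgroup (D.Model ⧸ Ch)) (q (ι ⟨z, hzT⟩)) := by
    have h := hgood.push Ω (D.Model ⧸ Ch) T (q.comp ι) ⟨z, hzT⟩ hz
    rwa [show (q.comp ι).range = (Pb : Subgroup (D.Model ⧸ Ch)) by
      rw [Sylow.coe_mapSurjective, hP₀, MonoidHom.range_comp]] at h
  have hzcen := hgood.group _ Pb hcon _ hzb (fun n hn => by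
    obtain ⟨m, rfl⟩ := hqs n
    have hstab : ∀ r : T, (r : Ω) ∈ R → ∃ r' : T, (r' : Ω) ∈ R ∧ ι r' = m * ι r * m⁻¹ := by
      intro r hr
      have h := (Subgroup.mem_normalizer_iff.1 hn _).1 ((hRmem r).1 hr)
      rw [← _root_.map_inv, ← _root_.map_mul, ← _root_.map_mul] at h
      obtain ⟨z', hz'⟩ := hes ⟨_, Subgroup.map_subtype_le _ h⟩
      obtain ⟨s, rfl⟩ := QuotientGroup.mk_surjective z'
      have hs : q (ι s) = q (m * ι r * m⁻¹) := congrArg Subtype.val hz'
      obtain ⟨d, hd, hde⟩ := QuotientGroup.eq.1 hs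
      refine ⟨s * d, R.mul_mem ((hRmem s).2 (hs ▸ h)) (le_wFun hCT hd), ?_⟩
      rw [_root_.map_mul, hde, mul_inv_cancel_left]
    let φ : Ω → Ω := fun w => bwdFun hιinj (m * homFun ι w * m⁻¹)
    have hφ : ∀ r r' : T, ι r' = m * ι r * m⁻¹ → φ r = r' := fun r r' e => by
      show bwdFun hιinj (m * homFun ι (r : Ω) * m⁻¹) = r'
      rw [homFun_coe, ← e, bwdFun_apply]
    have hmap : IsMap E R φ := by
      refine D.isMap_of_conj hRT (m := m) fun w hw => ?_
      obtain ⟨r', -, he⟩ := hstab w hw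
      exact ⟨(hφ w r' he).symm ▸ r'.2, he.symm.trans (congrArg ι (Subtype.ext (hφ w r' he).symm))⟩
    have hφR : ∀ r ∈ R, φ r ∈ R := fun r hr => by
      obtain ⟨r', hr', he⟩ := hstab ⟨r, hRT hr⟩ hr
      exact (hφ ⟨r, hRT hr⟩ r' he).symm ▸ hr'
    obtain ⟨r', -, he⟩ := hstab ⟨z, hzT⟩ hzR
    have hfz : φ z = z := hfix R φ hmap le_rfl hφR
    rw [hφ ⟨z, hzT⟩ r' he] at hfz
    rw [show r' = ⟨z, hzT⟩ from Subtype.ext hfz] at he
    rw [← _root_.map_mul, ← _root_.map_mul]
    exact congrArg q (eq_mul_inv_iff_mul_eq.1 he).symm)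
  -- back to the model
  have hzM : ∀ g : D.Model, Commute g (ι ⟨z, hzT⟩) := by
    let M : Subgroup D.Model := Subgroup.centralizer ({ι ⟨z, hzT⟩} : Set D.Model)
    suffices hM : M = ⊤ by
      intro g
      have hg := Subgroup.mem_top g
      rw [← hM] at hg
      exact Subgroup.mem_centralizer_singleton_iff.1 hg
    refine top_le_iff.1 ((Fusion.sylow_sup_pResidual P₀).ge.trans (sup_le ?_ ((Subgroup.closure_le _).2 ?_)))
    · rw [hP₀]
      rintro _ ⟨t, rfl⟩
      refine Subgroup.mem_centralizer_singleton_iff.2 ?_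
      rw [← _root_.map_mul, ← _root_.map_mul]
      exact congrArg ι (Subtype.ext (hzc t t.2))
    · intro g hg
      refine Subgroup.mem_centralizer_singleton_iff.2 ?_
      set zι := ι ⟨z, hzT⟩
      obtain ⟨c, hc, hce⟩ : zι⁻¹ * (g * zι * g⁻¹) ∈ Ch := (QuotientGroup.eq_one_iff _).1 (by
        show q _ = 1
        rw [_root_.map_mul, _root_.map_inv, _root_.map_mul, _root_.map_mul, _root_.map_inv,
          Subgroup.mem_center_iff.1 hzcen (q g), mul_inv_cancel_right, inv_mul_cancel])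
      have hcc := hcen g hg c hc
      have h1 : g * zι * g⁻¹ = zι * ι c := by rw [hce, mul_inv_cancel_left]
      have hn : ∀ i : ℕ, g ^ i * zι * (g ^ i)⁻¹ = zι * ι c ^ i := by
        intro i
        induction i with
        | zero => simp
        | succ i ih =>
          calc g ^ (i + 1) * zι * (g ^ (i + 1))⁻¹
              = g * (g ^ i * zι * (g ^ i)⁻¹) * g⁻¹ := by rw [pow_succ']; group
            _ = g * zι * g⁻¹ * (g * ι c ^ i * g⁻¹) := by rw [ih]; group
            _ = zι * ι c * ι c ^ i := by rw [h1, (hcc.pow_right i).eq, mul_inv_cancel_right]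
            _ = _ := by rw [mul_assoc, ← pow_succ']
      have h0 := hn (orderOf g)
      rw [pow_orderOf_eq_one, one_mul, inv_one, mul_one] at h0
      obtain ⟨j, hj⟩ := hTp c
      have hc1 : ι c = 1 := orderOf_eq_one_iff.1 (Nat.eq_one_of_dvd_coprimes (Nat.Coprime.pow_right j hg)
        (orderOf_dvd_of_pow_eq_one (left_eq_mul.1 h0))
        (orderOf_dvd_of_pow_eq_one (by rw [← _root_.map_pow, hj, _root_.map_one])))
      rw [hc1, mul_one] at h1
      exact mul_inv_eq_iff_eq_mul.1 h1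
  intro P f hf
  obtain ⟨hP, g, hg⟩ := (isMap_realized_iff D.isRealizedBy).1 hf
  let ψ : Ω → Ω := fun w => bwdFun hιinj (g * homFun ι w * g⁻¹)
  have hψ : ∀ r r' : T, ι r' = g * ι r * g⁻¹ → ψ r = r' := fun r r' e => by
    show bwdFun hιinj (g * homFun ι (r : Ω) * g⁻¹) = r'
    rw [homFun_coe, ← e, bwdFun_apply]
  have hze : ι ⟨z, hzT⟩ = g * ι ⟨z, hzT⟩ * g⁻¹ := by rw [(hzM g).eq, mul_inv_cancel_right]
  have hle : P ⊔ Subgroup.zpowers z ≤
      ((ι.range.comap ((MulAut.conj g).toMonoidHom.comp ι))).map T.subtype := by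
    refine sup_le (fun w hw => ?_) (Subgroup.zpowers_le.2 ⟨⟨z, hzT⟩, ⟨⟨z, hzT⟩, hze⟩, rfl⟩)
    obtain ⟨h, he⟩ := hg ⟨w, hP hw⟩ hw
    exact ⟨⟨w, hP hw⟩, ⟨⟨f w, h⟩, he⟩, rfl⟩
  refine ⟨ψ, (isMap_realized_iff D.isRealizedBy).2 ⟨sup_le hP (Subgroup.zpowers_le.2 hzT), g, fun w hw => ?_⟩,
    fun w hw => ?_, hψ ⟨z, hzT⟩ ⟨z, hzT⟩ hze⟩
  · obtain ⟨w', ⟨r', he⟩, hwe⟩ := hle hw
    obtain rfl : w' = w := Subtype.ext hwe
    exact ⟨(hψ w' r' he).symm ▸ r'.2, (congrArg ι (Subtype.ext (hψ w' r' he))).trans he⟩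
  · obtain ⟨h, he⟩ := hg ⟨w, hP hw⟩ hw
    exact hψ ⟨w, hP hw⟩ ⟨f w, h⟩ he

include hW1 hW2 hWZ hgood hS in
theorem centerControlled (T : Subgroup Ω) (E : FusionSystem T) (hI : Inherits F p E) (C : Subgroup Ω)
    (hC : E.IsNormal C) (hCp : IsPGroup p (E.autGroup C)) : CenterControlled W Good T E C := by
  refine induction_on_core (F := F) hS (fun T E C => CenterControlled W Good T E C)
    (fun T E hI C hC hCp hD => centerControlled_of_centric hW2 hWZ hgood hS hI hC hCp hD) ?_ ?_ ?_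
    T E hI C hC hCp
  · intro T E E₁ E₂ hI _ _ hprod C _ _ _ _ h₁ h₂ z hz hfix P f hf
    obtain ⟨h, m, hh, hm, he⟩ := hprod.2.2 P f hf
    obtain ⟨h', hh', hhe, hhz⟩ := h₁ z hz (fun P' f' hf' => hfix P' f' (hprod.1 P' f' hf')) P h hh
    obtain ⟨m', hm', hme, hmz⟩ := h₂ z hz (fun P' f' hf' => hfix P' f' (hprod.2.1 P' f' hf')) _ m hm
    refine ⟨m' ∘ h', (hprod.1 _ _ hh').comp (hprod.2.1 _ _ hm') fun x hx =>
      hh'.mapsTo_sup (fun a ha => Subgroup.mem_sup_left (hh.mem_imgSub.2 ⟨a, ha, (hhe a ha).symm⟩))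
        (fun a ha => by
          rw [fix_zpowers hh' (Subgroup.mem_sup_right (Subgroup.mem_zpowers z)) hhz a ha]
          exact Subgroup.mem_sup_right ha) hx,
      fun x hx => ?_, by rw [Function.comp_apply, hhz, hmz]⟩
    rw [Function.comp_apply, hhe x hx, hme _ (hh.mem_imgSub.2 ⟨x, hx, rfl⟩), he x hx]
  · intro T E hI C hC hCp _ hDlt hDn hDp hrec hb z hz hfix
    obtain ⟨hzT, hzc⟩ := hgood.mem Ω T z hz
    haveI := finite_of_le hI.le
    refine hb z hz fun P f hf hVP hm => ?_
    set V := wFun W E.core T with hV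
    have hVT : V ≤ T := wFun_le _ _
    have hDV : E.core < V := lt_wFun hW1 hS hDlt hI.le (le_normalizer_of_isNormal hDn)
    have hzV : z ∈ V := mem_wFun_of_central hWZ (hS.to_le hI.le) (le_normalizer_of_isNormal hDn) hzT hzc
    haveI := finite_of_le hVT
    have hVn : T ≤ Subgroup.normalizer (V : Set Ω) := fun y hy =>
      normalizes_W (isWFun_wFun hW1 hW2 hS) hI hDn hDn.1 le_rfl hy (Subgroup.le_normalizer hy)
    have heq : normalizerIn T V = T := le_antisymm normalizerIn_le fun y hy => ⟨hy, hVn hy⟩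
    have hVfn : E.IsFullyNormalized V := ⟨hVT, fun R _ => by
      rw [heq]; exact Subgroup.card_le_of_le normalizerIn_le⟩
    obtain ⟨E', hE'⟩ := exists_normalizerSystem E hVT
    have hK := isKSys_normalizer_iff.1 hE'
    obtain ⟨g, -, hge, hgz⟩ := (hrec V hDV hVfn E' hK).2 C hC hCp z
      (hgood.restrict Ω T _ z heq.le (inf_le_left.trans heq.ge) hz)
      (fun P' f' hf' hP' hm' => by
        rw [show wFun W C (normalizerIn T V) = wFun W C T from congrArg _ heq] at hP' hm'
        exact hfix P' f' (hK.isMap_le hf') hP' hm') P f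
      ((hK.map_iff _ _).2 ⟨hf.le.trans heq.ge,
        fun y hy => heq.ge (hf.mem_S hy), f, hf.mono (sup_le le_rfl hVP), fun _ _ => rfl,
        (onQ_top_iff hf hVP).2 ((hf.mono hVP).image_eq_of_mapsTo hm)⟩)
    rw [← hge z (hVP hzV), hgz]
  · intro T E hI hDlt hDn hDp hrec z hz hfix
    obtain ⟨hzT, hzc⟩ := hgood.mem Ω T z hz
    have hTS := hI.le
    haveI := finite_of_le hTS
    have hTp : IsPGroup p T := hS.to_le hTS
    set D := E.core
    haveI := finite_of_le hDn.1
    have hDN := le_normalizer_of_isNormal hDn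
    have hzle : Subgroup.zpowers z ≤ T := Subgroup.zpowers_le.2 hzT
    obtain ⟨E'', hE''⟩ := exists_isKSys (T := T) E hzle (⊥ : Subgroup (MulAut (Subgroup.zpowers z)))
      fun x => ⟨fun hx => mem_kNorm_bot.2 (FusionSys.mem_centralizerIn.2 ⟨hx, fun y hy => by
        obtain ⟨n, rfl⟩ := hy
        exact ((show Commute x z from hzc x hx).zpow_right n).eq.symm⟩), fun hx => kNorm_le hx⟩
    have hto : ∀ P f, IsMap E'' P f → ∃ g, IsMap E (P ⊔ Subgroup.zpowers z) g ∧
        (∀ x ∈ P, g x = f x) ∧ g z = z := by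
      intro P f hf
      obtain ⟨-, -, g, hg, hge, hQ⟩ := (hE''.map_iff P f).1 hf
      exact ⟨g, hg, hge, onQ_bot_iff.1 hQ z (Subgroup.mem_zpowers z)⟩
    intro P f hf
    refine hto P f (le_iff_isMap.1 (le_of_autGroup_fullyNormalized hTp hI.sat (E := E'')
      fun Q hQn big α hα => ?_) P f hf)
    have hQT := hQn.1
    haveI := finite_of_le hQT
    have hαm := (mem_autGroup_iff hQT).1 hα
    refine mem_autGroup_of_isMap ?_
    have mk : (∃ g, IsMap E (Q ⊔ Subgroup.zpowers z) g ∧ (∀ x ∈ Q, g x = autMap α x) ∧ g z = z) →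
        IsMap E'' Q (autMap α) := fun ⟨g, hg, hge, hgz⟩ => (hE''.map_iff _ _).2 ⟨hQT,
      fun x hx => hQT (autMap_mem α hx), g, hg, hge,
      onQ_bot_iff.2 (fix_zpowers hg (Subgroup.mem_sup_right (Subgroup.mem_zpowers z)) hgz)⟩
    have bigfix : ∀ (P' : Subgroup Ω) (u : Ω → Ω), Nat.card Q < Nat.card P' → IsMap E P' u → z ∈ P' →
        u z = z := fun P' u hlt hu hzP => by
      obtain ⟨g, -, hge, hgz⟩ := hto P' u (big _ u hlt hu)
      rw [← hge z hzP, hgz]
    have ext : ∀ (X : Subgroup Ω) (g : Ω → Ω), ¬ X ≤ Q → IsMap E (X ⊔ Q) g →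
        (∀ x ∈ Q, g x = autMap α x) → IsMap E'' Q (autMap α) := by
      intro X g hX hg hge
      haveI := finite_of_le hg.le
      have hlt : Nat.card Q < Nat.card (X ⊔ Q : Subgroup Ω) := by
        by_contra hle
        exact hX (le_sup_left.trans
          (Subgroup.eq_of_le_of_card_ge (le_sup_right : Q ≤ X ⊔ Q) (not_lt.1 hle)).ge)
      exact ((big _ g hlt hg).mono le_sup_right).congr fun x hx => (hge x hx).symm
    by_cases hDQ : D ≤ Q
    swap
    · obtain ⟨g, hg, hge, -⟩ := (isNormal_iff.1 hDn).2 Q _ hαm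
      exact ext D g hDQ (hg.mono (sup_le le_sup_right le_sup_left)) hge
    by_cases hCQ : centralizerIn T Q ≤ Q
    swap
    · obtain ⟨g, hg, hge⟩ := receptive_extend (receptive_of_isFullyNormalized hTp hI.sat hQn)
        (isIso_autMap hQT hα) (N := centralizerIn T Q) fun x hx => hαm.inExt_of_centralizes hx
      exact ext _ g hCQ hg hge
    have hzQ : z ∈ Q := hCQ (FusionSys.mem_centralizerIn.2 ⟨hzT, fun y hy => hzc y (hQT hy)⟩)
    suffices hαz : autMap α z = z from
      mk ⟨autMap α, hαm.mono (sup_le le_rfl (Subgroup.zpowers_le.2 hzQ)), fun _ _ => rfl, hαz⟩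
    rcases hQT.eq_or_lt with rfl | hQlt
    · refine hfix _ _ hαm (wFun_le _ _) fun r hr => ?_
      have h := (isWFun_wFun (F := F) hW1 hW2 hS).equivariant D Q (autMap α) hDQ hDN
        (hI.sub _ _ hαm) ((stronglyClosed_iff.1 (stronglyClosed_of_isNormal hDn)).2 D _ le_rfl
          (hαm.mono hDQ))
      rw [← (isIso_autMap le_rfl hα).eq_imgSub] at h
      show autMap α r ∈ wFun W D Q
      haveI := finite_of_le (S := S) ((wFun_le (W := W) D Q).trans hTS)
      rw [← SetLike.mem_coe, ← h, (hαm.mono (wFun_le _ _)).coe_imgSub]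
      exact ⟨r, hr, rfl⟩
    rcases hDQ.eq_or_lt with hDeq | hDlt'
    · subst hDeq
      haveI : Finite (E.autGroup D) := finite_autGroup E hQT
      have hpi := ((isFullyAutomized_iff hTp).1 (isFullyAutomized_of_isFullyNormalized hTp hI.sat hQn)).2
      have hle : E.autGroup D ≤ autInducedBy T D := by
        rw [← Subgroup.relIndex_eq_one]
        obtain ⟨k, hk⟩ := hDp.index ((autInducedBy T D).subgroupOf (E.autGroup D))
        rcases Nat.eq_zero_or_pos k with rfl | hk0
        · exact hk.trans (pow_zero p)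
        · exact absurd (show p ∣ (autInducedBy T D).relIndex (E.autGroup D) by
            rw [Subgroup.relIndex, hk]; exact dvd_pow_self p hk0.ne') hpi
      obtain ⟨t, ht, htn, rfl⟩ := mem_autInducedBy.1 (hle hα)
      rw [autMap_conjAut htn hzQ, conjMap_apply, hzc t ht, mul_inv_cancel_right]
    have key : ∀ (j : ℕ) (T₁ : Subgroup Ω), Nat.card T - Nat.card (normalizerIn T T₁) = j → D < T₁ →
        E.IsFullyNormalized T₁ → Nat.card Q < Nat.card (normalizerIn T T₁) →
        ∀ P f, IsMap E P f → P ≤ normalizerIn T T₁ → T₁ ≤ P → (∀ r ∈ T₁, f r ∈ T₁) →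
          z ∈ P → f z = z := by
      intro j
      induction j using Nat.strong_induction_on with
      | _ j ihj =>
      intro T₁ hj hDT₁ hT₁n hbig P f hf hPN hT₁P hm hzP
      set N₁ := normalizerIn T T₁ with hN₁
      haveI := finite_of_le hT₁n.1
      haveI : Finite N₁ := finite_of_le (S := T) normalizerIn_le
      obtain ⟨E', hE'⟩ := exists_normalizerSystem E hT₁n.1
      have hKs := isKSys_normalizer_iff.1 hE'
      have hZN : T ⊓ Subgroup.centralizer (T : Set Ω) ≤ N₁ := fun y hy =>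
        ⟨hy.1, mem_normalizer_of_maps fun r hr => by
          rw [← Subgroup.mem_centralizer_iff.1 hy.2 r (hT₁n.1 hr), mul_inv_cancel_right]; exact hr⟩
      have hcl := (hrec T₁ hDT₁ hT₁n E' hKs).2 D hDn hDp z (hgood.restrict Ω T _ z normalizerIn_le hZN hz)
      refine (?_ : CentralElt E' z → f z = z) (hcl fun P' f' hf' hVP hm' => ?_)
      · intro hce
        obtain ⟨g, -, hge, hgz⟩ := hce P f
          ((hKs.map_iff _ _).2 ⟨hPN, fun y hy => by
            have h := hf.mem_normalizerIn hT₁P hy (hPN hy).2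
            rwa [← (isIso_of_mapsTo (hf.mono hT₁P) hm).eq_imgSub] at h, f,
            hf.mono (sup_le le_rfl hT₁P), fun _ _ => rfl,
            (onQ_top_iff hf hT₁P).2 ((hf.mono hT₁P).image_eq_of_mapsTo hm)⟩)
        rw [← hge z hzP, hgz]
      set V := wFun W D N₁ with hV
      have hfE : IsMap E P' f' := hKs.isMap_le hf'
      rcases (normalizerIn_le : N₁ ≤ T).eq_or_lt with he | hlt
      · have he' : V = wFun W D T := congrArg (wFun W D) he
        rw [he'] at hVP hm'
        exact hfix P' f' hfE hVP hm'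
      have hDN₁ : D < N₁ := hDT₁.trans_le (le_normalizerIn_self hT₁n.1)
      have hVT : V ≤ T := (wFun_le _ _).trans normalizerIn_le
      have hDV : D < V := lt_wFun hW1 hS hDN₁ (normalizerIn_le.trans hTS) (normalizerIn_le.trans hDN)
      have hNN : normalizerIn T N₁ ≤ normalizerIn T V := fun y hy =>
        ⟨hy.1, normalizes_W (isWFun_wFun hW1 hW2 hS) hI hDn hDN₁.le normalizerIn_le hy.1 hy.2⟩
      have hcard : Nat.card N₁ < Nat.card (normalizerIn T V) := by
        haveI := finite_of_le (S := T) (P := normalizerIn T V) normalizerIn_le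
        exact (card_lt_card_normalizerIn hTp hlt).trans_le (Subgroup.card_le_of_le hNN)
      haveI := finite_of_le hVT
      obtain ⟨V₂, hVV₂, hV₂n⟩ := exists_isFullyNormalized E hVT
      obtain ⟨u, hu, hui, hum⟩ := exists_map_to_fullyNormalized hTp hI.sat hV₂n hVV₂
      have hzV : z ∈ V := mem_wFun_of_central hWZ (hTp.to_le normalizerIn_le)
        (normalizerIn_le.trans hDN) (hZN ⟨hzT, Subgroup.mem_centralizer_iff.2 hzc⟩)
        fun y hy => hzc y (normalizerIn_le hy)
      have hP'V : P' ≤ normalizerIn T V :=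
        (hf'.le.trans ((le_normalizerIn_self normalizerIn_le).trans hNN))
      have hfV : ∀ y ∈ P', f' y ∈ normalizerIn T V := fun y hy =>
        hNN (le_normalizerIn_self normalizerIn_le (hf'.mem_S hy))
      have huz : u z = z := bigfix _ u (hbig.trans hcard) hu (hP'V (hVP hzV))
      have huP := hu.mono hP'V
      obtain ⟨v, hv, hvu⟩ := huP.exists_inv
      have hvP : ∀ w ∈ imgSub u P', v w ∈ P' := fun w hw => by
        obtain ⟨y, hy, rfl⟩ := huP.mem_imgSub.1 hw
        rw [hvu y hy]; exact hy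
      have hcomp : IsMap E (imgSub u P') (u ∘ f' ∘ v) :=
        (hv.comp hfE hvP).comp hu fun w hw => hfV _ (hvP w hw)
      have hN₂ : Nat.card N₁ < Nat.card (normalizerIn T V₂) :=
        hcard.trans_le (by
          haveI := finite_of_le (S := T) (P := normalizerIn T V₂) normalizerIn_le
          exact card_le_of_mapsTo hu le_rfl hum)
      have hDV₂ : D < V₂ := by
        refine lt_of_le_of_ne (fun w hw => ?_) fun he => ?_
        · obtain ⟨y, hy, rfl⟩ := (isIso_of_mapsTo (hui.isMap.mono hDV.le)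
            ((stronglyClosed_iff.1 (stronglyClosed_of_isNormal hDn)).2 D u le_rfl
              (hui.isMap.mono hDV.le))).exists_preimage hw
          exact hui.mem (hDV.le hy)
        · subst he
          exact hDV.ne (Subgroup.eq_of_le_of_card_ge hDV.le (le_of_eq hui.card_eq))
      have h := ihj _ (by
          have : Nat.card (normalizerIn T V₂) ≤ Nat.card T := Subgroup.card_le_of_le normalizerIn_le
          omega) V₂ rfl hDV₂ hV₂n (hbig.trans hN₂) (imgSub u P') (u ∘ f' ∘ v) hcomp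
        (fun w hw => by
          obtain ⟨y, hy, rfl⟩ := huP.mem_imgSub.1 hw
          exact hum y (hP'V hy))
        (fun w hw => by
          obtain ⟨y, hy, rfl⟩ := hui.exists_preimage hw
          exact huP.mem_imgSub.2 ⟨y, hVP hy, rfl⟩)
        (fun w hw => by
          obtain ⟨y, hy, rfl⟩ := hui.exists_preimage hw
          show u (f' (v (u y))) ∈ V₂
          rw [hvu y (hVP hy)]
          exact hui.mem (hm' y hy))
        (huP.mem_imgSub.2 ⟨z, hVP hzV, huz⟩)
      have hvz : v z = z := by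
        have := hvu z (hVP hzV)
        rwa [huz] at this
      rw [Function.comp_apply, Function.comp_apply, hvz] at h
      exact hu.injOn (hfV z (hVP hzV)) (hP'V (hVP hzV)) (h.trans huz.symm)
    exact key _ Q rfl hDlt' hQn (card_lt_card_normalizerIn hTp hQlt) Q _ hαm
      (le_normalizerIn_self hQT) le_rfl (fun r hr => autMap_mem _ hr) hzQ

include hW1 hW2 hWZ hgood hS in
/-- An element of the class lying in the centre of `N_F(W S)` lies in the centre of `F`. -/
theorem mem_center_of_mem_center_normalizer (hF : F.IsSaturated p)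
    {N : FusionSystem (normalizerIn S ((W ↥S).map S.subtype))}
    (hN : F.IsNormalizerSystem ((W ↥S).map S.subtype) N) {z : Ω} (hz : Good Ω S z)
    (hzN : z ∈ N.center) : z ∈ F.center := by
  obtain ⟨hzS, hzc⟩ := hgood.mem Ω S z hz
  have hI : Inherits F p F := ⟨le_rfl, hF, fun _ _ h => h, fun _ _ h => h⟩
  have hb : F.IsNormal ⊥ := Cfsg.Agent.H89.isNormal_bot F
  have hp1 : IsPGroup p (F.autGroup ⊥) := fun a => ⟨0, by
    rw [pow_zero, pow_one]
    exact Subtype.ext (MulEquiv.ext fun x => Subsingleton.elim _ _)⟩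
  haveI : ((⊥ : Subgroup Ω).subgroupOf S).Normal :=
    normal_subgroupOf_of_le fun x _ => Subgroup.mem_normalizer_iff.2 fun y => by simp
  have heq : wFun W ⊥ S = (W ↥S).map S.subtype := by
    let e : (↥S ⧸ (⊥ : Subgroup Ω).subgroupOf S) ≃* ↥S :=
      (QuotientGroup.quotientMulEquivOfEq (Subgroup.bot_subgroupOf S)).trans QuotientGroup.quotientBot
    have he := hW2 _ _ (hS.to_quotient _) e
    ext x
    constructor
    · intro hx
      have hxS := wFun_le _ _ hx
      refine ⟨⟨x, hxS⟩, ?_, rfl⟩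
      rw [← he]
      exact ⟨_, (mem_wFun (x := ⟨x, hxS⟩)).1 hx, rfl⟩
    · rintro ⟨y, hy, rfl⟩
      rw [← he] at hy
      obtain ⟨w, hw, rfl⟩ := hy
      obtain ⟨r, rfl⟩ := QuotientGroup.mk'_surjective _ w
      exact (mem_wFun (x := r)).2 hw
  have hn : S ≤ Subgroup.normalizer (((W ↥S).map S.subtype : Subgroup Ω) : Set Ω) := fun x hx =>
    heq ▸ normalizes_W (isWFun_wFun hW1 hW2 hS) hI hb bot_le le_rfl hx (Subgroup.le_normalizer hx)
  have hVS : (W ↥S).map S.subtype ≤ S := Subgroup.map_subtype_le _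
  haveI := finite_of_le hVS
  haveI : Finite ↥(normalizerIn S ((W ↥S).map S.subtype)) := finite_of_le normalizerIn_le
  have hK := isKSys_normalizer_iff.1 hN
  have hzN' := (centralElt_iff (show z ∈ normalizerIn S ((W ↥S).map S.subtype) from
    ⟨hzS, hn hzS⟩)).2 hzN
  refine (centralElt_iff hzS).1 (centerControlled hW1 hW2 hWZ hgood hS S F hI ⊥ hb hp1 z hz
    fun P f hf hVP hm => ?_)
  rw [heq] at hVP hm
  obtain ⟨g, -, hge, hgz⟩ := hzN' P f ((hK.map_iff _ _).2
    ⟨fun y hy => ⟨hf.le hy, hn (hf.le hy)⟩, fun y hy => ⟨hf.mem_S hy, hn (hf.mem_S hy)⟩, f,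
      hf.mono (sup_le le_rfl hVP), fun _ _ => rfl,
      (onQ_top_iff hf hVP).2 ((hf.mono hVP).image_eq_of_mapsTo hm)⟩)
  have hzP : z ∈ P := hVP (heq ▸ mem_wFun_of_central hWZ hS
    (fun x _ => Subgroup.mem_normalizer_iff.2 fun y => by simp) hzS hzc)
  rw [← hge z hzP, hgz]

omit [Fact p.Prime] in
/-- The image in the ambient group of a characteristic subgroup is normalized. -/
theorem mem_normalizer_of_map_characteristic {G : Type u} [Group G] {P : Subgroup G}
    {K : Subgroup P} [K.Characteristic] {x : G} (hx : x ∈ P) :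
    x ∈ Subgroup.normalizer ((K.map P.subtype : Subgroup G) : Set G) := by
  refine Subgroup.le_normalizer_map P.subtype ⟨⟨x, hx⟩, ?_, rfl⟩
  rw [Subgroup.normalizer_eq_top]
  exact Subgroup.mem_top _

omit [Fact p.Prime] in
/-- A central element of a normalizer system is central in `S`, when `W S` is normalized by `S`. -/
theorem central_of_mem_center {T : Subgroup Ω} [Finite T] {E : FusionSystem T} {z : Ω} (hz : z ∈ E.center) :
    z ∈ T ∧ ∀ y ∈ T, y * z = z * y := by
  have hzT : z ∈ T := (Cfsg.Agent.H89.isCentral_center E).1 hz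
  refine ⟨hzT, fun y hy => ?_⟩
  have hc := isMap_conj E (Subgroup.zpowers_le.2 hzT) hy
  obtain ⟨g, -, hge, hgz⟩ := (centralElt_iff hzT).2 hz _ _ hc
  have h := hge z (Subgroup.mem_zpowers z)
  rw [hgz, conjMap_apply] at h
  exact (eq_mul_inv_iff_mul_eq.1 h).symm

omit [Fact p.Prime] in
/-- A central element of `F` lying in `N_S(Q)` is central in the normalizer system of `Q`. -/
theorem mem_center_normalizerSystem {Q : Subgroup Ω} (hQ : Q ≤ S)
    {N : FusionSystem (normalizerIn S Q)} (hN : F.IsNormalizerSystem Q N) {z : Ω}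
    (hz : z ∈ F.center) (hzN : z ∈ normalizerIn S Q) : z ∈ N.center := by
  haveI := finite_of_le hQ
  haveI : Finite ↥(normalizerIn S Q) := finite_of_le (S := S) normalizerIn_le
  have hK := isKSys_normalizer_iff.1 hN
  refine (centralElt_iff hzN).1 fun P f hf => ?_
  obtain ⟨hP, hfN, g, hg, hge, hQg⟩ := (hK.map_iff P f).1 hf
  obtain ⟨g', hg', hge', hgz'⟩ := (centralElt_iff hzN.1).2 hz _ g hg
  have hQQ : Set.MapsTo g (Q : Set Ω) Q := by
    have h := (onQ_top_iff hg le_sup_right).1 hQg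
    intro x hx
    have : g x ∈ g '' (Q : Set Ω) := ⟨x, hx, rfl⟩
    rwa [h] at this
  have hsup : Q ≤ (P ⊔ Q) ⊔ Subgroup.zpowers z := le_sup_right.trans le_sup_left
  refine ⟨g', (hK.map_iff _ _).2 ⟨sup_le hP (Subgroup.zpowers_le.2 hzN), fun x hx => ?_, g',
    hg'.mono (sup_le (sup_le (le_sup_left.trans le_sup_left) le_sup_right) hsup), fun _ _ => rfl,
    (onQ_top_iff hg' hsup).2 ((hg'.mono hsup).image_eq_of_mapsTo fun x hx => ?_)⟩,
    fun x hx => (hge' x (Subgroup.mem_sup_left hx)).trans (hge x hx), hgz'⟩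
  · refine (hg'.mono (sup_le (le_sup_left.trans le_sup_left) le_sup_right)).mapsTo_sup
      (C := normalizerIn S Q) (fun a ha => ?_) (fun a ha => ?_) hx
    · rw [hge' a (Subgroup.mem_sup_left ha), hge a ha]
      exact hfN a ha
    · rw [fix_zpowers hg' (Subgroup.mem_sup_right (Subgroup.mem_zpowers z)) hgz' a ha]
      exact (Subgroup.zpowers_le.2 hzN) ha
  · rw [hge' x (Subgroup.mem_sup_right hx)]
    exact hQQ hx

end Cfsg.Agent.FusionSys
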