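import Cfsg.Agent.Thompson.ClosedApps
import Cfsg.Agent.Thompson.NormalPComplement

/-!
An axiomatic form of the `ZJ` theorem: a family of abelian subgroups of a Sylow subgroup with invariance and
replacement has an intersection detecting normal `p`-complements in groups of characteristic `p`, `p` odd.
-/

set_option autoImplicit false
set_option linter.style.haveILetI false

namespace Cfsg.Agent.FusionSys.Family

open Cfsg Subgroup Cfsg.Agent.Thompson
open scoped commutatorElement

universe u

variable {G : Type u} [Group G]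

/-- The intersection of the members of the family contained in `Q`. -/
def core (𝒜 : Set (Subgroup G)) (Q : Subgroup G) : Subgroup G := ⨅ A ∈ {A : Subgroup G | A ∈ 𝒜 ∧ A ≤ Q}, A

theorem mem_core {𝒜 : Set (Subgroup G)} {Q : Subgroup G} {x : G} :
    x ∈ core 𝒜 Q ↔ ∀ A ∈ 𝒜, A ≤ Q → x ∈ A := by
  simp [core, Subgroup.mem_iInf]

/-- The axioms on a family in a Sylow subgroup. -/
structure Axioms (S : Subgroup G) (𝒜 : Set (Subgroup G)) : Prop where
  le : ∀ A ∈ 𝒜, A ≤ S
  comm : ∀ A ∈ 𝒜, IsMulCommutative A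
  nonempty : 𝒜.Nonempty
  inv : ∀ Q ≤ S, (∃ A ∈ 𝒜, A ≤ Q) → ∀ g ∈ normalizer (Q : Set G), ∀ x ∈ core 𝒜 Q, g * x * g⁻¹ ∈ core 𝒜 Q
  rep : ∀ B ≤ S, S ≤ normalizer (B : Set G) → ⁅⁅B, B⁆, B⁆ = ⊥ → (∃ A ∈ 𝒜, ⁅B, B⁆ ≤ A ∧ ¬ B ≤ A) →
    ∃ A ∈ 𝒜, ⁅B, B⁆ ≤ A ∧ ¬ B ≤ A ∧ B ≤ normalizer (A : Set G)

variable {S : Subgroup G} {𝒜 : Set (Subgroup G)} (h : Axioms S 𝒜)

include h

theorem core_le : core 𝒜 S ≤ S := fun x hx => by
  obtain ⟨A, hA⟩ := h.nonempty
  exact h.le A hA (mem_core.1 hx A hA (h.le A hA))

theorem isMulCommutative_core : IsMulCommutative (core 𝒜 S) := by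
  obtain ⟨A, hA⟩ := h.nonempty
  exact isMulCommutative_iff_forall.mpr fun a ha b hb => isMulCommutative_iff_forall.mp (h.comm A hA)
    a (mem_core.1 ha A hA (h.le A hA)) b (mem_core.1 hb A hA (h.le A hA))

theorem normalizer_le [Finite G] : normalizer (S : Set G) ≤ normalizer (core 𝒜 S : Set G) := fun g hg =>
  H48.mem_normalizer_of_cj_eq (H48.cj_eq_self_of_le (H48.cj_le.mpr fun x hx =>
    h.inv S le_rfl (let ⟨A, hA⟩ := h.nonempty; ⟨A, hA, h.le A hA⟩) g hg x hx))

omit h in
/-- The key step. -/
theorem normal_of_generated [Finite G] {p : ℕ} [Fact p.Prime] (hst : StableOnNormal p G) (S : Sylow p G)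
    {𝒜 : Set (Subgroup G)} (h : Axioms (S : Subgroup G) 𝒜) (B : Subgroup G) [B.Normal] (hB : IsPGroup p B)
    (hgen : normalClosure ((core 𝒜 (S : Subgroup G) ⊓ B : Subgroup G) : Set G) = B)
    (hclass : ⁅⁅B, B⁆, B⁆ = ⊥) (hBA : ∀ A ∈ 𝒜, ⁅B, B⁆ ≤ A) :
    (core 𝒜 (S : Subgroup G) ⊓ B).Normal := by
  set W := core 𝒜 (S : Subgroup G) ⊓ B with hW
  by_cases hall : ∀ A ∈ 𝒜, B ≤ A
  · rw [show W = B from inf_eq_right.mpr fun x hx => mem_core.2 fun A hA _ => hall A hA hx]
    infer_instance
  exfalso
  push Not at hall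
  have hBS : B ≤ (S : Subgroup G) := IsPGroup.le_sylow_of_normal hB S
  have hSW : (S : Subgroup G) ≤ normalizer (W : Set G) := fun g hg => mem_normalizer_of_map_conj (by
    rw [hW, map_inf _ _ _ (MulAut.conj g).injective,
      map_conj_of_mem_normalizer (normalizer_le h (le_normalizer hg)),
      map_conj_of_mem_normalizer ((normalizer_eq_top (H := B)).ge (mem_top g))])
  set L := (normalizer (W : Set G)).normalCore with hL
  have hLW : L ≤ normalizer (W : Set G) := normalCore_le _
  have hCB : centralizer (B : Set G) ≤ L := by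
    rw [hL, normal_le_normalCore]
    exact le_trans (centralizer_le inf_le_right) (centralizer_le_normalizer _)
  set Q := (S : Subgroup G) ⊓ L with hQ
  have hin : ∀ A ∈ 𝒜, A ≤ L → B ≤ A := by
    intro A hA hAL
    have hAQ : A ≤ Q := le_inf (h.le A hA) hAL
    rw [← hgen]
    refine (closure_le _).mpr fun x hx => ?_
    obtain ⟨w, hw, hc⟩ := Group.mem_conjugatesOfSet_iff.mp hx
    obtain ⟨g, rfl⟩ := isConj_iff.mp hc
    have hgtop : g ∈ ((normalizer (Q : Set G) ⊔ L : Subgroup G) : Set G) := by
      rw [show normalizer (Q : Set G) ⊔ L = ⊤ from frattini_inf S L]; exact mem_top g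
    rw [Subgroup.mul_normal] at hgtop
    obtain ⟨n, hn, l, hl, rfl⟩ := hgtop
    have hwl : l * w * l⁻¹ ∈ W := (Subgroup.mem_normalizer_iff.mp (hLW hl) w).mp hw
    have hcQ := h.inv Q inf_le_left ⟨A, hA, hAQ⟩ n hn _
      (mem_core.2 fun A' hA' hA'Q => mem_core.1 hwl.1 A' hA' (h.le A' hA'))
    simpa [mul_assoc] using mem_core.1 hcQ A hA hAQ
  obtain ⟨A₀, hA₀, hBA₀⟩ := hall
  obtain ⟨A, hA, -, hBnA, hBN⟩ := h.rep B hBS (le_top.trans (normalizer_eq_top (H := B)).ge) hclass
    ⟨A₀, hA₀, hBA A₀ hA₀, hBA₀⟩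
  have hAL : ¬ A ≤ L := fun hle => hBnA (hin A hA hle)
  have hquad : ⁅⁅B, A⁆, A⁆ = ⊥ := by
    refine eq_bot_iff.mpr (le_trans (commutator_mono (K₁ := A) ?_ (le_refl A))
      (commutator_eq_bot_iff_le_centralizer.mpr ?_).le)
    · exact commutator_le.mpr fun x hx a ha => by
        rw [commutatorElement_def]
        exact mul_mem ((Subgroup.mem_normalizer_iff.mp (hBN hx) a).mp ha) (A.inv_mem ha)
    · have := h.comm A hA
      exact le_centralizer A
  have h3 : stabPre p B ≤ L := normal_le_normalCore.mpr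
    ((stabPre_le S B).trans (sup_le (hCB.trans hLW) hSW))
  exact hAL ((le_stabPre hst hB hquad).trans h3)

omit h in
/-- Induction on normal `p`-subgroups. -/
theorem inf_normal [Finite G] {p : ℕ} [Fact p.Prime] (hst : StableOnNormal p G) (S : Sylow p G)
    {𝒜 : Set (Subgroup G)} (h : Axioms (S : Subgroup G) 𝒜) (B : Subgroup G) [hBn : B.Normal]
    (hB : IsPGroup p B) : (core 𝒜 (S : Subgroup G) ⊓ B).Normal := by
  induction hc : Nat.card B using Nat.strong_induction_on generalizing B hBn with
  | _ m ih =>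
  subst hc
  set Z := core 𝒜 (S : Subgroup G) with hZ
  set W := Z ⊓ B with hW
  have hSZ : (S : Subgroup G) ≤ normalizer (Z : Set G) := le_normalizer.trans (normalizer_le h)
  by_cases hgen : normalClosure (W : Set G) = B
  swap
  · have hle : normalClosure (W : Set G) ≤ B := normalClosure_le_normal inf_le_right
    have hlt := lt_of_le_of_ne (Subgroup.card_le_of_le hle)
      fun hc => hgen (Subgroup.eq_of_le_of_card_ge hle hc.ge)
    have hn := ih _ hlt (normalClosure (W : Set G)) (hB.to_le hle) rfl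
    rwa [show Z ⊓ normalClosure (W : Set G) = W from
      le_antisymm (inf_le_inf_left _ hle) (le_inf inf_le_left le_normalClosure)] at hn
  have hBS : B ≤ (S : Subgroup G) := IsPGroup.le_sylow_of_normal hB S
  by_cases hB0 : B = ⊥
  · rw [hW, hB0, inf_bot_eq]; infer_instance
  have hlt : Nat.card ↥⁅B, B⁆ < Nat.card B := by
    have : Nontrivial B := B.nontrivial_iff_ne_bot.mpr hB0
    have : Group.IsNilpotent B := hB.isNilpotent
    have h := Subgroup.map_subtype_commutator B
    rw [← h, card_map_of_injective B.subtype_injective]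
    have hlt' := Group.IsSolvable.commutator_lt_top_of_nontrivial B
    rw [lt_top_iff_ne_top] at hlt'
    refine lt_of_le_of_ne (card_le_card_group _) fun hc => hlt' (eq_top_of_card_eq _ hc)
  have hM : (Z ⊓ ⁅B, B⁆).Normal := ih _ hlt ⁅B, B⁆ (hB.to_le (commutator_le_self B)) rfl
  have hBB : ⁅B, B⁆ ≤ Z ⊓ ⁅B, B⁆ := by
    set M := Z ⊓ ⁅B, B⁆
    set π := QuotientGroup.mk' M
    have : (B.map π).Normal := hBn.map π (QuotientGroup.mk'_surjective _)
    have hle : B ≤ (centralizer ((B.map π : Subgroup (G ⧸ M)) : Set (G ⧸ M))).comap π := by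
      conv_lhs => rw [← hgen]
      refine normalClosure_le_normal fun w hw => mem_centralizer_iff.mpr ?_
      rintro _ ⟨x, hx, rfl⟩
      refine (commutatorElement_eq_one_iff_mul_comm.mp ?_).symm
      rw [← map_commutatorElement]
      refine (QuotientGroup.eq_one_iff _).mpr ⟨?_, commutator_mem_commutator hw.2 hx⟩
      rw [commutatorElement_def, mul_assoc w, mul_assoc w]
      exact mul_mem hw.1 ((Subgroup.mem_normalizer_iff.mp (hSZ (hBS hx)) _).mp (Z.inv_mem hw.1))
    refine commutator_le.mpr fun x hx y hy => ?_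
    refine (QuotientGroup.eq_one_iff (N := M) _).mp ?_
    show π _ = 1
    rw [map_commutatorElement, commutatorElement_eq_one_iff_mul_comm]
    exact (mem_centralizer_iff.mp (hle hx) _ ⟨y, hy, rfl⟩).symm
  have hBZ : ⁅B, B⁆ ≤ Z := hBB.trans inf_le_left
  have hclass : ⁅⁅B, B⁆, B⁆ = ⊥ := by
    rw [commutator_eq_bot_iff_le_centralizer, le_centralizer_iff]
    conv_lhs => rw [← hgen]
    refine normalClosure_le_normal fun w hw => mem_centralizer_iff.mpr fun x hx => ?_
    exact (isMulCommutative_iff_forall.mp (isMulCommutative_core h) w hw.1 x (hBZ hx)).symm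
  exact normal_of_generated hst S h B hB hgen hclass fun A hA x hx =>
    mem_core.1 (hBZ hx) A hA (h.le A hA)

omit h in
/-- A group of characteristic `p` in which the normalizer of the intersection of the family is in the Sylow
subgroup is a `p`-group. -/
theorem sylow_eq_top {p : ℕ} [Fact p.Prime] (hp : p ≠ 2) :
    ∀ (n : ℕ) (G : Type u) [Group G] [Finite G], Nat.card G ≤ n →
      centralizer ((pCore p G : Subgroup G) : Set G) ≤ pCore p G →
      ∀ (S : Sylow p G) (𝒜 : Set (Subgroup G)), Axioms (S : Subgroup G) 𝒜 →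
        normalizer (core 𝒜 (S : Subgroup G) : Set G) ≤ S → (S : Subgroup G) = ⊤ := by
  intro n
  induction n with
  | zero => intro G _ _ hc; exact absurd hc (Nat.not_le.mpr Nat.card_pos)
  | succ n ih =>
    intro G _ _ hcard hc S 𝒜 h hN
    by_contra hSne
    have hsub : ∀ M : Subgroup G, (S : Subgroup G) ≤ M → M ≠ ⊤ → M = S := by
      intro M hSM hM
      have hlt : Nat.card M < Nat.card G :=
        lt_of_le_of_ne (card_le_card_group M) fun h => hM (eq_top_of_card_eq M h)
      have hOM : pCore p G ≤ M := (Cores.pCore_le_sylow S).trans hSM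
      have hO' : (pCore p G).subgroupOf M ≤ pCore p M :=
        Cores.le_pCore (hN := normal_subgroupOf) Cores.pCore_isPGroup.comap_subtype
      have hc' : centralizer ((pCore p M : Subgroup M) : Set M) ≤ pCore p M := by
        intro x hx
        exact hO' (show (x : G) ∈ pCore p G from hc (mem_centralizer_iff.mpr fun o ho =>
          congrArg Subtype.val (mem_centralizer_iff.mp hx ⟨o, hOM ho⟩ (hO' ho))))
      have hmap : ((S.subtype hSM : Sylow p M) : Subgroup M).map M.subtype = S :=
        map_subgroupOf_eq_of_le hSM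
      set 𝒜' : Set (Subgroup M) := {A | A.map M.subtype ∈ 𝒜} with h𝒜'
      have hmem : ∀ A ∈ 𝒜, A.subgroupOf M ∈ 𝒜' := fun A hA => by
        show (A.subgroupOf M).map M.subtype ∈ 𝒜
        rwa [map_subgroupOf_eq_of_le ((h.le A hA).trans hSM)]
      have hle' : ∀ {A Q : Subgroup M}, A.map M.subtype ≤ Q.map M.subtype → A ≤ Q := fun hle =>
        (map_le_map_iff_of_injective M.subtype_injective).mp hle
      have hcore : ∀ (Q : Subgroup M) (x : M), Q ≤ ((S.subtype hSM : Sylow p M) : Subgroup M) →
          (x ∈ core 𝒜' Q ↔ (x : G) ∈ core 𝒜 (Q.map M.subtype)) := by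
        intro Q x hQ
        rw [mem_core, mem_core]
        constructor
        · intro hx A hA hAQ
          refine hx (A.subgroupOf M) (hmem A hA) fun y hy => ?_
          obtain ⟨z, hz, hze⟩ := hAQ hy
          rwa [← Subtype.ext hze]
        · intro hx A hA hAQ
          obtain ⟨z, hz, hze⟩ := hx _ hA (map_mono hAQ)
          rwa [← Subtype.ext hze]
      have hax : Axioms ((S.subtype hSM : Sylow p M) : Subgroup M) 𝒜' := by
        refine ⟨fun A hA => hle' ((h.le _ hA).trans hmap.ge), fun A hA => ?_, ?_, ?_, ?_⟩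
        · have hA' := isMulCommutative_iff_forall.mp (h.comm _ hA)
          exact isMulCommutative_iff_forall.mpr fun a ha b hb =>
            Subtype.ext (hA' _ ⟨a, ha, rfl⟩ _ ⟨b, hb, rfl⟩)
        · obtain ⟨A, hA⟩ := h.nonempty
          exact ⟨_, hmem A hA⟩
        · rintro Q hQ ⟨A, hA, hAQ⟩ g hg x hx
          exact (hcore Q _ hQ).2 (h.inv _ ((map_mono hQ).trans hmap.le) ⟨_, hA, map_mono hAQ⟩ g
            (le_normalizer_map M.subtype ⟨g, hg, rfl⟩) x ((hcore Q x hQ).1 hx))
        · rintro B hB hSB hcl ⟨A, hA, hBA, hnBA⟩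
          obtain ⟨A', hA', h1, h2, h3⟩ := h.rep (B.map M.subtype) ((map_mono hB).trans hmap.le)
            (hmap.ge.trans ((map_mono hSB).trans (le_normalizer_map _)))
            (by rw [← map_commutator, ← map_commutator, hcl, Subgroup.map_bot])
            ⟨_, hA, by rw [← map_commutator]; exact map_mono hBA, fun hle => hnBA (hle' hle)⟩
          have hA'M := (h.le A' hA').trans hSM
          refine ⟨_, hmem A' hA', hle' ?_, fun hle => h2 ?_, fun b hb => ?_⟩
          · rwa [map_commutator, map_subgroupOf_eq_of_le hA'M]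
          · exact (map_mono hle).trans (map_subgroupOf_eq_of_le hA'M).le
          · exact Subgroup.mem_normalizer_iff.mpr fun x =>
              Subgroup.mem_normalizer_iff.mp (h3 ⟨b, hb, rfl⟩) x
      have := ih M (by omega) hc' (S.subtype hSM) 𝒜' hax fun x hx => by
        refine hN ?_
        have hx' := le_normalizer_map M.subtype ⟨x, hx, rfl⟩
        rwa [show (core 𝒜' ((S.subtype hSM : Sylow p M) : Subgroup M)).map M.subtype = core 𝒜 (S : Subgroup G)
          from by
            ext y
            constructor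
            · rintro ⟨z, hz, rfl⟩
              have := (hcore _ z le_rfl).1 hz
              rwa [hmap] at this
            · intro hy
              refine ⟨⟨y, hSM (core_le h hy)⟩, (hcore _ _ le_rfl).2 ?_, rfl⟩
              rw [hmap]
              exact hy] at hx'
      rw [← hmap, this, ← MonoidHom.range_eq_map, range_subtype]
    have hco : IsCoatom (S : Subgroup G) :=
      ⟨hSne, fun L hL => by_contra fun hLt => hL.ne (hsub L hL.le hLt).symm⟩
    set O := pCore p G
    set π := QuotientGroup.mk' O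
    let S' : Sylow p (G ⧸ O) := S.mapSurjective (QuotientGroup.mk'_surjective O)
    by_cases hS' : (S' : Subgroup (G ⧸ O)) = ⊥
    · refine hSne (top_le_iff.mp (le_trans ?_ ((normalizer_le h).trans hN)))
      rw [le_antisymm (fun s hs =>
        (QuotientGroup.eq_one_iff s).mp (mem_bot.mp (hS' ▸ ⟨s, hs, rfl⟩))) (Cores.pCore_le_sylow S)]
      exact (normalizer_eq_top (H := O)).ge
    have hQ : HasNormalPComplement p (G ⧸ O) := by
      refine (hasNormalPComplement_iff_zjay hp (.inl rfl) S').mpr ?_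
      set Z := zjay 0 (S' : Subgroup (G ⧸ O))
      set M := (normalizer (Z : Set (G ⧸ O))).comap π
      have hMtop : M ≠ ⊤ := by
        intro h
        have hn : Z.Normal := by
          refine normalizer_eq_top_iff.mp (top_le_iff.mp fun x _ => ?_)
          obtain ⟨y, rfl⟩ := QuotientGroup.mk'_surjective O x
          exact (h.ge (mem_top y) :)
        exact zjay_ne_bot S'.isPGroup' hS' (.inl rfl) (le_bot_iff.mp
          (Cores.pCore_quotient_pCore (p := p) (G := G) ▸ Cores.le_pCore (S'.isPGroup'.to_le zjay_le)))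
      have hMS := hsub M (fun s hs => le_normalizer_zjay 0 _ ⟨s, hs, rfl⟩) hMtop
      have hMp : IsPGroup p M := hMS ▸ S.isPGroup'
      refine Fusion.hasNormalPComplement_of_surjective
        (Fusion.hasNormalPComplement_of_quotient (N := ⊥)
          (by rw [Subgroup.card_bot]; exact (Fact.out : p.Prime).not_dvd_one) (hMp.to_quotient _))
        (π.subgroupComap _) fun ⟨y, hy⟩ => ?_
      obtain ⟨a, rfl⟩ := QuotientGroup.mk'_surjective O y
      exact ⟨⟨a, hy⟩, rfl⟩
    have hst := stableOnNormal_of_sl2_free hp (not_hasSection_SL2_of_abelian hp default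
      (isMulCommutative_of_isPAbelianP hp (H25.isPAbelianP_of_coatom hQ S hco) default))
    have hSZ : (S : Subgroup G) ≤ normalizer (core 𝒜 (S : Subgroup G) : Set G) :=
      le_normalizer.trans (normalizer_le h)
    have hn := inf_normal hst S h O Cores.pCore_isPGroup
    rw [inf_eq_left.mpr (le_pCore_of_stable hc hst S _ (isMulCommutative_core h) hSZ)] at hn
    exact hSne (top_le_iff.mp ((normalizer_eq_top (H := core 𝒜 (S : Subgroup G))).ge.trans hN))

end Cfsg.Agent.FusionSys.Family
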