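import Cfsg.Agent.FusionSys.InnerControl
import Cfsg.Agent.FusionSys.FamilyGroup

/-!
An axiomatic Glauberman–Thompson criterion for saturated systems, `p` odd: for a family of abelian subgroups of
`S` with invariance and replacement, the system is inner as soon as the maps stabilizing the intersection are.
-/

set_option autoImplicit false
set_option linter.style.haveILetI false

namespace Cfsg.Agent.FusionSys

open Cfsg Cfsg.FusionSystem Set
open scoped commutatorElement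

universe u

variable {Ω : Type u} [Group Ω] {S : Subgroup Ω}

/-- The axioms on the family. -/
structure FamilyAxioms (F : FusionSystem S) (𝒜 : Set (Subgroup Ω)) : Prop where
  le : ∀ A ∈ 𝒜, A ≤ S
  comm : ∀ A ∈ 𝒜, IsMulCommutative A
  nonempty : 𝒜.Nonempty
  inv : ∀ Q ≤ S, (∃ A ∈ 𝒜, A ≤ Q) → ∀ α ∈ F.autGroup Q, ∀ x ∈ Q, x ∈ Family.core 𝒜 Q →
    autMap α x ∈ Family.core 𝒜 Q
  rep : ∀ B ≤ S, S ≤ Subgroup.normalizer (B : Set Ω) → ⁅⁅B, B⁆, B⁆ = ⊥ →
    (∃ A ∈ 𝒜, ⁅B, B⁆ ≤ A ∧ ¬ B ≤ A) →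
    ∃ A ∈ 𝒜, ⁅B, B⁆ ≤ A ∧ ¬ B ≤ A ∧ B ≤ Subgroup.normalizer (A : Set Ω)

variable {p : ℕ} [Fact p.Prime] [Finite S] {F : FusionSystem S}

omit [Finite S] in
theorem family_le {𝒜 : Set (Subgroup Ω)}
    (h : FamilyAxioms F 𝒜) : Family.core 𝒜 S ≤ S := fun x hx => by
  obtain ⟨A, hA⟩ := h.nonempty
  exact h.le A hA (Family.mem_core.1 hx A hA (h.le A hA))

theorem family_inner_of_centric (hS : IsPGroup p S) (hp : p ≠ 2) {𝒜 : Set (Subgroup Ω)}
    (h : FamilyAxioms F 𝒜) {E : FusionSystem S} (hI : Inherits F p E) (hD : E.IsCentric E.core)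
    (hin : InnerOn E (Family.core 𝒜 S)) : ∀ P f, IsMap E P f → ∃ t ∈ S, ∀ x ∈ P, f x = t * x * t⁻¹ := by
  have hDn : E.IsNormal E.core := Cfsg.Agent.H89.isNormal_core E
  let D : Setup E p := ⟨E.core, hS, hI.sat, hDn, hD⟩
  haveI := D.finite_model
  obtain ⟨P₀, hP₀⟩ := D.exists_sylow_range
  set ι := D.iota
  have hιinj : Function.Injective ι := D.iota_injective
  set Z := Family.core 𝒜 S with hZ
  have hZS : Z ≤ S := family_le h
  have hconjD : ∀ (m : D.Model) (c : S) (hc : (c : Ω) ∈ E.core),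
      m * ι c * m⁻¹ = ι ⟨autMap (D.modelProj m : MulAut D.Q) c, hDn.1 (autMap_mem _ hc)⟩ := by
    intro m c hc
    refine (D.conj_toS m ⟨c, hc⟩).trans (congrArg ι (Subtype.ext ?_))
    exact (autMap_apply _ hc).symm
  -- the family in the model
  set push : Subgroup Ω → Subgroup D.Model := fun A => (A.subgroupOf S).map ι with hpush
  set pull : Subgroup D.Model → Subgroup Ω := fun X => (X.comap ι).map S.subtype with hpull
  have hmem : ∀ {A : Subgroup Ω} {x : S}, ι x ∈ push A ↔ (x : Ω) ∈ A := fun {A x} =>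
    ⟨fun ⟨y, hy, hye⟩ => hιinj hye ▸ hy, fun hx => ⟨x, hx, rfl⟩⟩
  have hmem' : ∀ {X : Subgroup D.Model} {x : S}, (x : Ω) ∈ pull X ↔ ι x ∈ X := fun {X x} =>
    ⟨fun ⟨y, hy, hye⟩ => Subtype.ext (hye : (y : Ω) = x) ▸ hy, fun hx => ⟨x, hx, rfl⟩⟩
  have hpullS : ∀ X, pull X ≤ S := fun X => Subgroup.map_subtype_le _
  have hadj : ∀ {A : Subgroup Ω} {X : Subgroup D.Model}, A ≤ S → (push A ≤ X ↔ A ≤ pull X) := by
    intro A X hA
    constructor
    · exact fun hle a ha => (hmem' (x := ⟨a, hA ha⟩)).2 (hle ⟨_, ha, rfl⟩)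
    · rintro hle _ ⟨y, hy, rfl⟩
      exact hmem'.1 (hle hy)
  set 𝒜' : Set (Subgroup D.Model) := push '' 𝒜 with h𝒜'
  have hcore : ∀ (X : Subgroup D.Model) (x : S),
      ι x ∈ Family.core 𝒜' X ↔ (x : Ω) ∈ Family.core 𝒜 (pull X) := by
    intro X x
    rw [Family.mem_core, Family.mem_core]
    constructor
    · exact fun hx A hA hAQ => hmem.1 (hx _ ⟨A, hA, rfl⟩ ((hadj (h.le A hA)).2 hAQ))
    · rintro hx _ ⟨A, hA, rfl⟩ hAX
      exact hmem.2 (hx A hA ((hadj (h.le A hA)).1 hAX))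
  have hpullP : pull P₀ = S := le_antisymm (hpullS _) fun x hx =>
    (hmem' (x := ⟨x, hx⟩)).2 (hP₀ ▸ ⟨_, rfl⟩)
  have hax : Family.Axioms (P₀ : Subgroup D.Model) 𝒜' := by
    refine ⟨?_, ?_, h.nonempty.image _, ?_, ?_⟩
    · rintro _ ⟨A, -, rfl⟩
      rw [hP₀]
      exact Subgroup.map_le_range _ _
    · rintro _ ⟨A, hA, rfl⟩
      have hc := Thompson.isMulCommutative_iff_forall.mp (h.comm A hA)
      refine Thompson.isMulCommutative_iff_forall.mpr ?_
      rintro _ ⟨a, ha, rfl⟩ _ ⟨b, hb, rfl⟩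
      rw [← _root_.map_mul, ← _root_.map_mul]
      exact congrArg ι (Subtype.ext (hc _ ha _ hb))
    · rintro X hX ⟨_, ⟨A, hA, rfl⟩, hAX⟩ g hg _ hx
      obtain ⟨x, rfl⟩ : ∃ x, ι x = _ :=
        (hP₀ ▸ hX : X ≤ ι.range) (Family.mem_core.1 hx _ ⟨A, hA, rfl⟩ hAX |> fun h => hAX h)
      let φ : Ω → Ω := fun w => bwdFun hιinj (g * homFun ι w * g⁻¹)
      have hφ : ∀ r r' : S, ι r' = g * ι r * g⁻¹ → φ r = r' := fun r r' e => by
        show bwdFun hιinj (g * homFun ι (r : Ω) * g⁻¹) = r'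
        rw [homFun_coe, ← e, bwdFun_apply]
      have hg' : ∀ r : S, ι r ∈ X → ∃ r' : S, ι r' ∈ X ∧ ι r' = g * ι r * g⁻¹ := fun r hr => by
        have h1 := (Subgroup.mem_normalizer_iff.1 hg _).1 hr
        obtain ⟨r', hr'⟩ := (hP₀ ▸ hX : X ≤ ι.range) h1
        exact ⟨r', hr' ▸ h1, hr'⟩
      have hmap : IsMap E (pull X) φ := D.isMap_of_conj (hpullS X) (m := g) fun w hw => by
        obtain ⟨r', -, he⟩ := hg' ⟨w, hpullS X hw⟩ (hmem'.1 hw)
        exact ⟨(hφ ⟨w, hpullS X hw⟩ r' he).symm ▸ r'.2,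
          he.symm.trans (congrArg ι (Subtype.ext (hφ ⟨w, hpullS X hw⟩ r' he).symm))⟩
      haveI := finite_of_le (hpullS X)
      obtain ⟨γ, hγ, hγe⟩ := (isIso_of_mapsTo (hI.sub _ _ hmap) (fun w hw => by
        obtain ⟨r', hr', he⟩ := hg' ⟨w, hpullS X hw⟩ (hmem'.1 hw)
        rw [hφ ⟨w, hpullS X hw⟩ r' he]
        exact hmem'.2 hr')).exists_aut
      have hxX : ι x ∈ X := hAX (Family.mem_core.1 hx _ ⟨A, hA, rfl⟩ hAX)
      have h1 := h.inv _ (hpullS X) ⟨A, hA, (hadj (h.le A hA)).1 hAX⟩ γ hγ x (hmem'.2 hxX)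
        ((hcore X x).1 hx)
      obtain ⟨r', -, he⟩ := hg' x hxX
      rw [show autMap γ (x : Ω) = φ x from hγe x (hmem'.2 hxX), hφ x r' he] at h1
      exact he ▸ (hcore X r').2 h1
    · rintro B hB hSB hcl ⟨_, ⟨A, hA, rfl⟩, hBA, hnBA⟩
      rw [hP₀] at hB hSB
      have hBB : push (pull B) = B := le_antisymm ((hadj (hpullS B)).2 le_rfl) fun b hb => by
        obtain ⟨y, rfl⟩ := hB hb
        exact hmem.2 (hmem'.2 hb)
      have hcomm : (⁅B, B⁆).comap ι = ⁅B.comap ι, B.comap ι⁆ := by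
        conv_lhs => rw [← Subgroup.map_comap_eq_self hB, ← Subgroup.map_commutator,
          Subgroup.comap_map_eq_self_of_injective hιinj]
      have hpc : ⁅pull B, pull B⁆ = pull ⁅B, B⁆ := by
        show ⁅(B.comap ι).map S.subtype, (B.comap ι).map S.subtype⁆ = (Subgroup.comap ι ⁅B, B⁆).map S.subtype
        rw [hcomm, Subgroup.map_commutator]
      haveI := finite_of_le (hpullS B)
      obtain ⟨A', hA', h1, h2, h3⟩ := h.rep (pull B) (hpullS B) (fun w hw => mem_normalizer_of_maps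
        (fun r hr => by
          refine (hmem' (x := ⟨w, hw⟩ * ⟨r, hpullS B hr⟩ * ⟨w, hw⟩⁻¹)).2 ?_
          rw [_root_.map_mul, _root_.map_mul, _root_.map_inv]
          exact (Subgroup.mem_normalizer_iff.1 (hSB ⟨_, rfl⟩) _).1 (hmem'.1 hr)))
        (by
          rw [hpc, show (pull ⁅B, B⁆ : Subgroup Ω) = (Subgroup.comap ι ⁅B, B⁆).map S.subtype from rfl,
            hcomm, ← Subgroup.map_commutator, eq_bot_iff]
          rintro _ ⟨c, hc, rfl⟩
          have hc' : ι c ∈ ⁅⁅B, B⁆, B⁆ := by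
            have := Subgroup.mem_map_of_mem ι hc
            rw [Subgroup.map_commutator, Subgroup.map_commutator, Subgroup.map_comap_eq_self hB] at this
            exact this
          rw [hcl, Subgroup.mem_bot, ← _root_.map_one ι] at hc'
          rw [hιinj hc']
          exact Subgroup.mem_bot.2 rfl)
        ⟨A, hA, by
          rw [hpc]
          intro w hw
          exact hmem.1 (hBA ((hmem' (x := ⟨w, hpullS _ hw⟩)).1 hw)),
          fun hle => hnBA (hBB ▸ fun y hy => by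
            obtain ⟨r, hr, rfl⟩ := hy
            exact hmem.2 (hle hr))⟩
      have hA'S := h.le A' hA'
      refine ⟨_, ⟨A', hA', rfl⟩, fun y hy => ?_, fun hle => h2 fun w hw => ?_, fun b hb => ?_⟩
      · obtain ⟨r, rfl⟩ := (Subgroup.commutator_le_self B).trans hB hy
        exact hmem.2 (h1 (hpc ▸ hmem'.2 hy))
      · exact hmem.1 (hle ((hmem' (x := ⟨w, hpullS B hw⟩)).1 hw))
      · obtain ⟨r, rfl⟩ := hB hb
        refine mem_normalizer_of_maps ?_
        rintro _ ⟨a, ha, rfl⟩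
        rw [← _root_.map_inv, ← _root_.map_mul, ← _root_.map_mul]
        exact hmem.2 ((Subgroup.mem_normalizer_iff.1 (h3 (hmem'.2 hb)) _).1 ha)
  -- the normalizer of the intersection is in the Sylow subgroup
  have hN : Subgroup.normalizer (Family.core 𝒜' (P₀ : Subgroup D.Model) : Set D.Model) ≤ P₀ := by
    intro m hm
    have hstab : ∀ r : S, (r : Ω) ∈ Z → ∃ r' : S, (r' : Ω) ∈ Z ∧ ι r' = m * ι r * m⁻¹ := by
      intro r hr
      have h1 := (Subgroup.mem_normalizer_iff.1 hm _).1 ((hcore P₀ r).2 (by rwa [hpullP]))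
      obtain ⟨r', hr'⟩ : m * ι r * m⁻¹ ∈ ι.range := hP₀ ▸ Family.core_le hax h1
      refine ⟨r', ?_, hr'⟩
      rw [← hr', hcore, hpullP] at h1
      exact h1
    let φ : Ω → Ω := fun w => bwdFun hιinj (m * homFun ι w * m⁻¹)
    have hφ : ∀ r r' : S, ι r' = m * ι r * m⁻¹ → φ r = r' := fun r r' e => by
      show bwdFun hιinj (m * homFun ι (r : Ω) * m⁻¹) = r'
      rw [homFun_coe, ← e, bwdFun_apply]
    have hle : E.core ⊔ Z ≤ ((ι.range.comap ((MulAut.conj m).toMonoidHom.comp ι))).map S.subtype := by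
      refine sup_le (fun w hw => ?_) fun w hw => ?_
      · exact ⟨⟨w, hDn.1 hw⟩, ⟨_, (hconjD m ⟨w, hDn.1 hw⟩ hw).symm⟩, rfl⟩
      · obtain ⟨r', -, he⟩ := hstab ⟨w, hZS hw⟩ hw
        exact ⟨⟨w, hZS hw⟩, ⟨r', he⟩, rfl⟩
    have hmap : IsMap E (E.core ⊔ Z) φ := by
      refine D.isMap_of_conj (sup_le hDn.1 hZS) (m := m) fun w hw => ?_
      obtain ⟨w', ⟨r', he⟩, hwe⟩ := hle hw
      obtain rfl : w' = w := Subtype.ext hwe
      exact ⟨(hφ w' r' he).symm ▸ r'.2, he.symm.trans (congrArg ι (Subtype.ext (hφ w' r' he).symm))⟩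
    obtain ⟨t, ht, hte⟩ := hin _ φ hmap le_sup_right fun w hw => by
      obtain ⟨r', hr', he⟩ := hstab ⟨w, hZS hw⟩ hw
      exact (hφ ⟨w, hZS hw⟩ r' he).symm ▸ hr'
    have hc : (ι ⟨t, ht⟩)⁻¹ * m ∈ Subgroup.centralizer (D.qSub : Set D.Model) := by
      refine Subgroup.mem_centralizer_iff.2 ?_
      rintro _ ⟨d, rfl⟩
      have h1 := hconjD m ⟨d, hDn.1 d.2⟩ d.2
      have h2 : φ d = autMap (D.modelProj m : MulAut D.Q) d := hφ ⟨d, hDn.1 d.2⟩ _ h1.symm
      have h3 : m * ι (D.toS d) * m⁻¹ = ι ⟨t, ht⟩ * ι (D.toS d) * (ι ⟨t, ht⟩)⁻¹ := by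
        refine h1.trans ?_
        rw [← _root_.map_inv, ← _root_.map_mul, ← _root_.map_mul]
        refine congrArg ι (Subtype.ext ?_)
        show autMap (D.modelProj m : MulAut D.Q) d = t * d * t⁻¹
        rw [← h2]
        exact hte d (Subgroup.mem_sup_left d.2)
      show ι (D.toS d) * ((ι ⟨t, ht⟩)⁻¹ * m) = (ι ⟨t, ht⟩)⁻¹ * m * ι (D.toS d)
      rw [mul_assoc (ι ⟨t, ht⟩)⁻¹ m, eq_inv_mul_iff_mul_eq, ← mul_assoc, ← mul_assoc,
        show ι ⟨t, ht⟩ * ι (D.toS d) * (ι ⟨t, ht⟩)⁻¹ * m = m * ι (D.toS d) * m⁻¹ * m by rw [h3],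
        inv_mul_cancel_right]
    obtain ⟨d, hd⟩ := D.centralizer_qSub_le hc
    exact hP₀ ▸ ⟨⟨t, ht⟩ * D.toS d, by
      rw [_root_.map_mul, show ι (D.toS d) = _ from hd, mul_inv_cancel_left]⟩
  have hcon : Subgroup.centralizer ((pCore p D.Model : Subgroup D.Model) : Set D.Model) ≤ pCore p D.Model :=
    ((Subgroup.centralizer_le D.qSub_le_pCore).trans D.centralizer_qSub_le).trans D.qSub_le_pCore
  have hall := Family.sylow_eq_top hp _ D.Model le_rfl hcon P₀ 𝒜' hax hN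
  intro P f hf
  obtain ⟨hP, g, hg⟩ := (isMap_realized_iff D.isRealizedBy).1 hf
  obtain ⟨t, rfl⟩ : g ∈ ι.range := hP₀ ▸ hall ▸ Subgroup.mem_top g
  refine ⟨t, t.2, fun x hx => ?_⟩
  obtain ⟨h, he⟩ := hg ⟨x, hP hx⟩ hx
  rw [← _root_.map_inv, ← _root_.map_mul, ← _root_.map_mul] at he
  exact congrArg Subtype.val (hιinj he)

/-- The criterion for a family. -/
theorem family_inner (hS : IsPGroup p S) (hp : p ≠ 2) (hF : F.IsSaturated p) {𝒜 : Set (Subgroup Ω)}
    (h : FamilyAxioms F 𝒜) (hin : InnerOn F (Family.core 𝒜 S)) :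
    ∀ P f, IsMap F P f → ∃ t ∈ S, ∀ x ∈ P, f x = t * x * t⁻¹ := by
  let W : ∀ (Q : Type u) [Group Q], Subgroup Q := fun Q _ => Thompson.zjay 0 (⊤ : Subgroup Q)
  have hW1 : ∀ (Q : Type u) [Group Q] [Finite Q], IsPGroup p Q → Nontrivial Q → W Q ≠ ⊥ :=
    fun Q _ _ hQ hne => Thompson.zjay_ne_bot (hQ.to_subgroup _) top_ne_bot (.inl rfl)
  have hW2 : ∀ (Q R : Type u) [Group Q] [Group R] [Finite Q], IsPGroup p Q →
      ∀ φ : Q ≃* R, (W Q).map φ.toMonoidHom = W R := fun Q R _ _ _ _ φ => by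
    show (Thompson.zjay 0 (⊤ : Subgroup Q)).map φ.toMonoidHom = _
    rw [← Thompson.zjay_map φ.toMonoidHom φ.injective, Subgroup.map_top_of_surjective _ φ.surjective]
  have hNC : ∀ (G : Type u) [Group G] [Finite G] (P : Sylow p G),
      HasNormalPComplement p (Subgroup.normalizer
        (((W ↥(P : Subgroup G)).map (P : Subgroup G).subtype : Subgroup G) : Set G)) →
      HasNormalPComplement p G := fun G _ _ P hG => by
    rw [show (W ↥(P : Subgroup G)).map (P : Subgroup G).subtype = Thompson.zjay 0 (P : Subgroup G) by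
      rw [← Thompson.zjay_map (P : Subgroup G).subtype (P : Subgroup G).subtype_injective,
        ← MonoidHom.range_eq_map, Subgroup.range_subtype]] at hG
    exact (Thompson.hasNormalPComplement_iff_zjay hp (.inl rfl) P).2 hG
  have hI : Inherits F p F := ⟨le_rfl, hF, fun _ _ h => h, fun _ _ h => h⟩
  have hb : F.IsNormal ⊥ := Cfsg.Agent.H89.isNormal_bot F
  have hp1 : IsPGroup p (F.autGroup ⊥) := fun a => ⟨0, by
    rw [pow_zero, pow_one]
    exact Subtype.ext (MulEquiv.ext fun x => Subsingleton.elim _ _)⟩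
  refine induction_on_core (F := F) hS (fun T E _ => T = S → InnerOn E (Family.core 𝒜 S) →
      ∀ P f, IsMap E P f → ∃ t ∈ T, ∀ x ∈ P, f x = t * x * t⁻¹)
    ?_ ?_ (fun T E _ C _ _ _ _ _ _ _ hb => hb) ?_ S F hI ⊥ hb hp1 rfl hin
  · intro T E hI C _ _ hD hT hin
    subst hT
    exact family_inner_of_centric hS hp h hI hD hin
  · intro T E E₁ E₂ _ _ _ hprod C _ _ _ _ h₁ h₂ hT hin P f hf
    obtain ⟨h, m, hh, hm, he⟩ := hprod.2.2 P f hf
    obtain ⟨a, ha, hae⟩ := h₁ hT (fun P' f' hf' => hin P' f' (hprod.1 P' f' hf')) P h hh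
    obtain ⟨b, hb, hbe⟩ := h₂ hT (fun P' f' hf' => hin P' f' (hprod.2.1 P' f' hf')) _ m hm
    refine ⟨b * a, mul_mem hb ha, fun x hx => ?_⟩
    rw [he x hx, hbe _ (hh.mem_imgSub.2 ⟨x, hx, rfl⟩), hae x hx]
    group
  · intro T E hI hDlt hDn hDp hrec hT hin
    haveI := finite_of_le hI.le
    refine innerControlled hW1 hW2 hNC hS T E hI E.core hDn hDp fun P f hf hVP hm => ?_
    set V := wFun W E.core T with hV
    have hVT : V ≤ T := wFun_le _ _
    have hDV : E.core < V := lt_wFun hW1 hS hDlt hI.le (le_normalizer_of_isNormal hDn)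
    haveI := finite_of_le hVT
    have hVn : T ≤ Subgroup.normalizer (V : Set Ω) := fun z hz =>
      normalizes_W (isWFun_wFun hW1 hW2 hS) hI hDn hDn.1 le_rfl hz (Subgroup.le_normalizer hz)
    have heq : normalizerIn T V = T := le_antisymm normalizerIn_le fun z hz => ⟨hz, hVn hz⟩
    have hVfn : E.IsFullyNormalized V := ⟨hVT, fun R _ => by
      rw [heq]; exact Subgroup.card_le_of_le normalizerIn_le⟩
    obtain ⟨E', hE'⟩ := exists_normalizerSystem E hVT
    have hK := isKSys_normalizer_iff.1 hE'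
    obtain ⟨t, ht, hte⟩ := (hrec V hDV hVfn E' hK).2 E.core hDn hDp (heq.trans hT)
      (fun P' f' hf' hP' hm' => by
        obtain ⟨t, ht, hte⟩ := hin P' f' (hK.isMap_le hf') hP' hm'
        exact ⟨t, heq.ge ht, hte⟩) P f
      ((hK.map_iff _ _).2 ⟨hf.le.trans heq.ge,
        fun z hz => heq.ge (hf.mem_S hz), f, hf.mono (sup_le le_rfl hVP), fun _ _ => rfl,
        (onQ_top_iff hf hVP).2 ((hf.mono hVP).image_eq_of_mapsTo hm)⟩)
    exact ⟨t, heq.le ht, hte⟩

/-- The criterion, in terms of the normalizer system. -/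
theorem family_inner_iff (hS : IsPGroup p S) (hp : p ≠ 2) (hF : F.IsSaturated p) {𝒜 : Set (Subgroup Ω)}
    (h : FamilyAxioms F 𝒜) {V : Subgroup Ω} (hV : Family.core 𝒜 S = V) :
    (∀ P : Subgroup Ω, F.Hom P = (innerFusionSystem S).Hom P) ↔
      ∀ N : FusionSystem (normalizerIn S V), F.IsNormalizerSystem V N →
        ∀ P : Subgroup Ω, N.Hom P = (innerFusionSystem (normalizerIn S V)).Hom P := by
  subst hV
  have hVS : Family.core 𝒜 S ≤ S := family_le h
  haveI := finite_of_le hVS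
  have hn : S ≤ Subgroup.normalizer (Family.core 𝒜 S : Set Ω) := fun x hx => mem_normalizer_of_maps fun r hr => by
    obtain ⟨A, hA⟩ := h.nonempty
    obtain ⟨γ, hγ, hγe⟩ := (isIso_of_mapsTo (isMap_conj F le_rfl hx)
      fun w hw => S.mul_mem (S.mul_mem hx hw) (S.inv_mem hx)).exists_aut
    have h1 := h.inv S le_rfl ⟨A, hA, h.le A hA⟩ γ hγ r (hVS hr) hr
    rwa [show autMap γ r = conjMap x r from hγe r (hVS hr)] at h1
  constructor
  · intro hh N hN
    refine hom_eq_inner_iff.2 fun P f hf => ?_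
    obtain ⟨t, ht, hte⟩ := hom_eq_inner_iff.1 hh P f ((isKSys_normalizer_iff.1 hN).isMap_le hf)
    exact ⟨t, ⟨ht, hn ht⟩, hte⟩
  · intro hh
    obtain ⟨N, hN⟩ := exists_normalizerSystem F hVS
    have hK := isKSys_normalizer_iff.1 hN
    refine hom_eq_inner_iff.2 (family_inner hS hp hF h fun P f hf hVP hm => ?_)
    obtain ⟨t, ht, hte⟩ := hom_eq_inner_iff.1 (hh N hN) P f ((hK.map_iff _ _).2
      ⟨fun z hz => ⟨hf.le hz, hn (hf.le hz)⟩, fun z hz => ⟨hf.mem_S hz, hn (hf.mem_S hz)⟩, f,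
        hf.mono (sup_le le_rfl hVP), fun _ _ => rfl,
        (onQ_top_iff hf hVP).2 ((hf.mono hVP).image_eq_of_mapsTo hm)⟩)
    exact ⟨t, ht.1, hte⟩

end Cfsg.Agent.FusionSys
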