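import Cfsg.Agent.FusionSys.Skeleton
import Cfsg.Agent.FusionSys.GlauFunctor
import Cfsg.Agent.FusionSys.ModelFacts
import Cfsg.Agent.S1970

/-!
Control of transfer in saturated systems by a characteristic functor satisfying the focal condition in groups
of characteristic `p`. Everything is relative to a normal subgroup `C` with `p`-group automizer and absolute in
the conclusion: the focal subgroup is that of the maps stabilizing `W C T`.
-/

set_option autoImplicit false
set_option linter.style.haveILetI false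

namespace Cfsg.Agent.FusionSys

open Cfsg Cfsg.FusionSystem Set
open scoped commutatorElement

universe u

section GroupLemmas

variable {G : Type u} [Group G] [Finite G] {p : ℕ} [Fact p.Prime]

/-- The focal subgroup theorem, as an upper bound. -/
theorem commutator_inf_le_of_fusion (P : Sylow p G) {M : Subgroup G}
    (h : ∀ x ∈ (P : Subgroup G), ∀ u : G, u * x * u⁻¹ ∈ (P : Subgroup G) → x⁻¹ * (u * x * u⁻¹) ∈ M) :
    commutator G ⊓ (P : Subgroup G) ≤ M := by
  rw [Subgroup.commutator_inf_eq_focalSubgroup, Subgroup.focalSubgroup_def, Subgroup.closure_le]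
  rintro g ⟨hg, x, hx, u, rfl⟩
  have h1 : u * x⁻¹ * u⁻¹ ∈ (P : Subgroup G) := by
    have := mul_mem (inv_mem hx) hg
    simpa [commutatorElement_def, mul_assoc] using this
  have h2 := h x⁻¹ (inv_mem hx) u h1
  rwa [inv_inv, ← mul_assoc, ← mul_assoc, ← commutatorElement_def] at h2

/-- Transfer: a normal subgroup inside `P` on which `G` induces only what `P` does meets `G'` in `P'`. -/
theorem mem_commutator_sylow (P : Sylow p G) {Z : Subgroup G} [hZ : Z.Normal] (hZP : Z ≤ (P : Subgroup G))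
    (hact : ∀ g : G, ∀ z ∈ Z, ∃ t ∈ (P : Subgroup G), g * z * g⁻¹ = t * z * t⁻¹) {z : G} (hz : z ∈ Z)
    (hz' : z ∈ commutator G) : z ∈ ⁅(P : Subgroup G), (P : Subgroup G)⁆ := by
  let φ : (P : Subgroup G) →* Abelianization (P : Subgroup G) := Abelianization.of
  haveI : (P : Subgroup G).FiniteIndex := inferInstance
  have hφ : φ ⟨z, hZP hz⟩ ^ (P : Subgroup G).index = 1 := by
    have h1 : MonoidHom.transfer φ z = 1 := Abelianization.commutator_subset_ker _ hz'
    letI := (P : Subgroup G).fintypeQuotientOfFiniteIndex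
    let T : (P : Subgroup G).LeftTransversal := default
    rw [MonoidHom.transfer_def φ T, Subgroup.leftTransversals.diff] at h1
    rw [Finset.prod_eq_pow_card (b := φ ⟨z, hZP hz⟩) ?_, Finset.card_univ] at h1
    · rwa [Subgroup.index_eq_card, Nat.card_eq_fintype_card]
    intro q _
    set a : G := (T.2.leftQuotientEquiv q : G)
    have hfix : z⁻¹ • q = q := by
      obtain ⟨b, rfl⟩ := QuotientGroup.mk_surjective q
      refine (QuotientGroup.eq (s := (P : Subgroup G))).2 ?_
      have := hZP (hZ.conj_mem _ hz b⁻¹)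
      simpa [mul_assoc] using this
    have hb : (((z • T).2.leftQuotientEquiv q : G)) = z * a := by
      rw [Subgroup.smul_apply_eq_smul_apply_inv_smul, hfix]
      rfl
    obtain ⟨t, ht, hte⟩ := hact a⁻¹ z hz
    rw [inv_inv] at hte
    have hval : (⟨a⁻¹ * ((z • T).2.leftQuotientEquiv q : G), by
        rw [hb, ← mul_assoc]; exact hZP (by simpa using hZ.conj_mem _ hz a⁻¹)⟩ : (P : Subgroup G)) =
        ⟨t, ht⟩ * ⟨z, hZP hz⟩ * ⟨t, ht⟩⁻¹ := Subtype.ext ((congrArg (a⁻¹ * ·) hb).trans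
      ((mul_assoc _ _ _).symm.trans hte))
    rw [hval, map_mul, map_mul, map_inv, mul_comm (φ ⟨t, ht⟩), mul_inv_cancel_right]
  have hp : ¬ p ∣ (P : Subgroup G).index := P.not_dvd_index
  obtain ⟨k, hk⟩ := P.isPGroup' ⟨z, hZP hz⟩
  have hord : φ ⟨z, hZP hz⟩ = 1 := by
    exact orderOf_eq_one_iff.1 (Nat.eq_one_of_dvd_coprimes
      (Nat.Coprime.pow_left k ((Fact.out : p.Prime).coprime_iff_not_dvd.2 hp))
      (orderOf_dvd_of_pow_eq_one (show φ ⟨z, hZP hz⟩ ^ p ^ k = 1 by rw [← map_pow, hk, map_one]))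
      (orderOf_dvd_of_pow_eq_one hφ))
  have hker : (⟨z, hZP hz⟩ : (P : Subgroup G)) ∈ commutator (P : Subgroup G) :=
    (QuotientGroup.eq_one_iff _).1 hord
  rw [← Subgroup.map_subtype_commutator]
  exact ⟨_, hker, rfl⟩

end GroupLemmas

variable {Ω : Type u} [Group Ω] {S : Subgroup Ω}

/-- The focal subgroup of the maps of `E` stabilizing `R`. -/
def focN {T : Subgroup Ω} (E : FusionSystem T) (R : Subgroup Ω) : Subgroup Ω :=
  Subgroup.closure {y | ∃ (P : Subgroup Ω) (f : Ω → Ω) (x : Ω), IsMap E P f ∧ R ≤ P ∧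
    (∀ r ∈ R, f r ∈ R) ∧ x ∈ P ∧ y = x⁻¹ * f x}

theorem mem_focN {T : Subgroup Ω} {E : FusionSystem T} {R P : Subgroup Ω} {f : Ω → Ω} {x : Ω}
    (hf : IsMap E P f) (hR : R ≤ P) (hm : ∀ r ∈ R, f r ∈ R) (hx : x ∈ P) :
    x⁻¹ * f x ∈ focN E R :=
  Subgroup.subset_closure ⟨P, f, x, hf, hR, hm, hx, rfl⟩

theorem focN_mono {T T' : Subgroup Ω} {E : FusionSystem T} {E' : FusionSystem T'} {R : Subgroup Ω}
    (h : ∀ P f, IsMap E' P f → IsMap E P f) : focN E' R ≤ focN E R :=
  Subgroup.closure_mono fun _ ⟨P, f, x, hf, r⟩ => ⟨P, f, x, h P f hf, r⟩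

theorem commutator_le_focN {T : Subgroup Ω} (E : FusionSystem T) {R : Subgroup Ω} (hR : R ≤ T)
    (hn : T ≤ Subgroup.normalizer (R : Set Ω)) : ⁅T, T⁆ ≤ focN E R := by
  rw [Subgroup.commutator_le]
  intro a ha b hb
  have h := mem_focN (isMap_conj E le_rfl hb) hR
    (fun r hr => (Subgroup.mem_normalizer_iff.1 (hn hb) r).1 hr) (inv_mem ha)
  rwa [conjMap_apply, inv_inv, ← mul_assoc, ← mul_assoc, ← commutatorElement_def] at h

/-- The maps congruent to the identity modulo `K` form a system. -/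
def goodSys {T : Subgroup Ω} (E : FusionSystem T) (K : Subgroup Ω) (hK : ⁅T, T⁆ ≤ K) :
    FusionSystem T where
  Hom P := {φ | φ ∈ E.Hom P ∧ ∀ x : P, (x : Ω)⁻¹ * φ x ∈ K}
  le_of_mem h := E.le_of_mem h.1
  injective_of_mem h := E.injective_of_mem h.1
  conj_mem {P g} hP hg := ⟨E.conj_mem hP hg, fun x => by
    have h := hK (Subgroup.commutator_mem_commutator (inv_mem (hP x.2)) hg)
    rw [commutatorElement_def, inv_inv] at h
    simpa [conjHom, mul_assoc] using h⟩
  comp_mem {P Q φ ψ} hφ hψ h := ⟨E.comp_mem hφ.1 hψ.1 h, fun x => by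
    have := mul_mem (hφ.2 x) (hψ.2 ⟨φ x, h x⟩)
    simpa [mul_assoc] using this⟩
  inv_mem {P φ} hφ := by
    obtain ⟨ψ, hψ, he⟩ := E.inv_mem hφ.1
    refine ⟨ψ, ⟨hψ, ?_⟩, he⟩
    rintro ⟨_, x, rfl⟩
    rw [he x]
    have := inv_mem (hφ.2 x)
    simpa using this

theorem isMap_goodSys {T : Subgroup Ω} {E : FusionSystem T} {K : Subgroup Ω} {hK : ⁅T, T⁆ ≤ K}
    {P : Subgroup Ω} {f : Ω → Ω} :
    IsMap (goodSys E K hK) P f ↔ IsMap E P f ∧ ∀ x ∈ P, x⁻¹ * f x ∈ K := by
  constructor
  · rintro ⟨φ, ⟨hφ, hg⟩, he⟩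
    exact ⟨⟨φ, hφ, he⟩, fun x hx => he ⟨x, hx⟩ ▸ hg ⟨x, hx⟩⟩
  · rintro ⟨⟨φ, hφ, he⟩, hg⟩
    exact ⟨φ, ⟨hφ, fun x => (he x).symm ▸ hg x x.2⟩, he⟩

variable {p : ℕ} [Fact p.Prime]

/-- The congruence proved by the induction. -/
def FocalControlled (W : ∀ (Q : Type u) [Group Q], Subgroup Q) (T : Subgroup Ω) (E : FusionSystem T)
    (C : Subgroup Ω) : Prop :=
  ∀ P f, IsMap E P f → ∀ x ∈ P, x⁻¹ * f x ∈ focN E (wFun W C T)

variable {W : ∀ (Q : Type u) [Group Q], Subgroup Q}
  (hW1 : ∀ (Q : Type u) [Group Q] [Finite Q], IsPGroup p Q → Nontrivial Q → W Q ≠ ⊥)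
  (hW2 : ∀ (Q R : Type u) [Group Q] [Group R] [Finite Q], IsPGroup p Q →
    ∀ φ : Q ≃* R, (W Q).map φ.toMonoidHom = W R)

variable [Finite S] {F : FusionSystem S} (hS : IsPGroup p S)

include hW2 hS in
theorem wFun_bot : wFun W ⊥ S = (W ↥S).map S.subtype := by
  haveI : ((⊥ : Subgroup Ω).subgroupOf S).Normal :=
    normal_subgroupOf_of_le fun x _ => Subgroup.mem_normalizer_iff.2 fun y => by simp
  let e : (↥S ⧸ (⊥ : Subgroup Ω).subgroupOf S) ≃* ↥S :=
    (QuotientGroup.quotientMulEquivOfEq (Subgroup.bot_subgroupOf S)).trans QuotientGroup.quotientBot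
  have he := hW2 _ _ (hS.to_quotient _) e
  ext x
  constructor
  · intro hx
    have hxS := wFun_le _ _ hx
    refine ⟨⟨x, hxS⟩, ?_, rfl⟩
    rw [← he]
    exact ⟨_, (mem_wFun (x := ⟨x, hxS⟩)).1 hx, rfl⟩
  · rintro ⟨y, hy, rfl⟩
    rw [← he] at hy
    obtain ⟨w, hw, rfl⟩ := hy
    obtain ⟨r, rfl⟩ := QuotientGroup.mk'_surjective _ w
    exact (mem_wFun (x := r)).2 hw

section InSubsystem

variable {T : Subgroup Ω} {E : FusionSystem T} (hI : Inherits F p E)

include hW1 hW2 hS hI in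
theorem normalizes_wFun {C R : Subgroup Ω} (hC : E.IsNormal C) (hCR : C ≤ R) (hRT : R ≤ T) {x : Ω}
    (hx : x ∈ T) (hn : x ∈ Subgroup.normalizer (R : Set Ω)) :
    x ∈ Subgroup.normalizer (wFun W C R : Set Ω) :=
  normalizes_W (isWFun_wFun hW1 hW2 hS) hI hC hCR hRT hx hn

include hW1 hW2 hS hI in
theorem le_normalizer_wFun {C : Subgroup Ω} (hC : E.IsNormal C) :
    T ≤ Subgroup.normalizer (wFun W C T : Set Ω) := fun _ hx =>
  normalizes_wFun hW1 hW2 hS hI hC hC.1 le_rfl hx (Subgroup.le_normalizer hx)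

variable (hT : ∀ (G : Type u) [Group G] [Finite G] (P : Sylow p G),
    Subgroup.centralizer ((pCore p G : Subgroup G) : Set G) ≤ pCore p G →
      pCore p G ⊓ commutator G = pCore p G ⊓
        (commutator ↥(Subgroup.normalizer (((W ↥(P : Subgroup G)).map (P : Subgroup G).subtype :
          Subgroup G) : Set G))).map
          (Subgroup.normalizer (((W ↥(P : Subgroup G)).map (P : Subgroup G).subtype :
            Subgroup G) : Set G)).subtype)

include hW1 hW2 hS hI hT in
theorem focalControlled_of_centric {C : Subgroup Ω} (hC : E.IsNormal C)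
    (hCp : IsPGroup p (E.autGroup C)) (hD : E.IsCentric E.core) : FocalControlled W T E C := by
  classical
  have hTS := hI.le
  haveI := finite_of_le hTS
  have hTp : IsPGroup p T := hS.to_le hTS
  have hDn : E.IsNormal E.core := Cfsg.Agent.H89.isNormal_core E
  have hCD : C ≤ E.core := Cfsg.Agent.H89.le_core E hC
  let D : Setup E p := ⟨E.core, hTp, hI.sat, hDn, hD⟩
  haveI := D.finite_model
  obtain ⟨P₀, hP₀⟩ := D.exists_sylow_range
  set R := wFun W C T with hR
  have hRT : R ≤ T := wFun_le C T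
  set K := focN E R with hKdef
  have hnR : T ≤ Subgroup.normalizer (R : Set Ω) := le_normalizer_wFun hW1 hW2 hS hI hC
  have hTK : ⁅T, T⁆ ≤ K := commutator_le_focN E hRT hnR
  set ι := D.iota
  have hιinj : Function.Injective ι := D.iota_injective
  have hCT : C ≤ T := hC.1
  haveI := finite_of_le hCT
  haveI hCTn : (C.subgroupOf T).Normal := normal_subgroupOf_of_le (le_normalizer_of_isNormal hC)
  set Ch : Subgroup D.Model := (C.subgroupOf T).map ι with hChdef
  have hsc := (stronglyClosed_iff.1 (stronglyClosed_of_isNormal hC)).2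
  have hconjC : ∀ (m : D.Model) (c : T) (hc : (c : Ω) ∈ C),
      m * ι c * m⁻¹ = ι ⟨autMap (D.modelProj m : MulAut D.Q) c, hDn.1 (autMap_mem _ (hCD hc))⟩ := by
    intro m c hc
    refine (D.conj_toS m ⟨c, hCD hc⟩).trans (congrArg ι (Subtype.ext ?_))
    exact (autMap_apply _ (hCD hc)).symm
  have hautC : ∀ (m : D.Model) (c : Ω), c ∈ C → autMap (D.modelProj m : MulAut D.Q) c ∈ C := fun m c hc =>
    hsc C _ le_rfl (((mem_autGroup_iff hDn.1).1 (D.modelProj m).2).mono hCD) c hc
  haveI hChn : Ch.Normal := ⟨by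
    rintro _ ⟨c, hc, rfl⟩ m
    exact ⟨⟨_, hDn.1 (autMap_mem _ (hCD hc))⟩, hautC m c hc, (hconjC m c hc).symm⟩⟩
  -- the action on `C` is that of `T`
  have hCeq : E.autGroup C ≤ autInducedBy T C := by
    have h := (isFullyAutomized_iff hTp).1 (isFullyAutomized_of_isFullyNormalized hTp hI.sat
      (⟨hCT, fun R' _ => by
        rw [show normalizerIn T C = T from le_antisymm normalizerIn_le
          fun x hx => ⟨hx, le_normalizer_of_isNormal hC hx⟩]
        exact Subgroup.card_le_of_le normalizerIn_le⟩ : E.IsFullyNormalized C))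
    haveI := finite_autGroup E hCT
    rw [← Subgroup.relIndex_eq_one]
    obtain ⟨k, hk⟩ := hCp.index ((autInducedBy T C).subgroupOf (E.autGroup C))
    rcases Nat.eq_zero_or_pos k with rfl | hk0
    · exact hk.trans (pow_zero p)
    · exact absurd (show p ∣ (autInducedBy T C).relIndex (E.autGroup C) by
        rw [Subgroup.relIndex, hk]; exact dvd_pow_self p hk0.ne') h.2
  have hact : ∀ g : D.Model, ∀ z ∈ Ch, ∃ t ∈ (P₀ : Subgroup D.Model),
      g * z * g⁻¹ = t * z * t⁻¹ := by
    rintro g _ ⟨c, hc, rfl⟩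
    obtain ⟨β, hβ, hβe⟩ := (isIso_of_mapsTo (((mem_autGroup_iff hDn.1).1 (D.modelProj g).2).mono hCD)
      fun x hx => hautC g x hx).exists_aut
    obtain ⟨t, ht, htn, rfl⟩ := mem_autInducedBy.1 (hCeq hβ)
    refine ⟨ι ⟨t, ht⟩, hP₀ ▸ ⟨_, rfl⟩, ?_⟩
    rw [hconjC g c hc, ← _root_.map_inv, ← _root_.map_mul, ← _root_.map_mul]
    refine congrArg ι (Subtype.ext ?_)
    show autMap _ (c : Ω) = t * c * t⁻¹
    exact (hβe c hc).symm.trans (autMap_conjAut htn hc)
  set q := QuotientGroup.mk' Ch with hq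
  have hqs : Function.Surjective q := QuotientGroup.mk'_surjective _
  let Pb : Sylow p (D.Model ⧸ Ch) := P₀.mapSurjective hqs
  set Wb : Subgroup (D.Model ⧸ Ch) := inducedFunctor W (Pb : Subgroup (D.Model ⧸ Ch)) with hWb
  -- control of transfer in the quotient, from the group theorem
  have hctl : ∀ z, z ∈ (Pb : Subgroup (D.Model ⧸ Ch)) → z ∈ commutator (D.Model ⧸ Ch) →
      z ∈ ⁅Subgroup.normalizer (Wb : Set (D.Model ⧸ Ch)), Subgroup.normalizer (Wb : Set (D.Model ⧸ Ch))⁆ := by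
    have hW : IsCharPFunctor.{u} p W := ⟨hW1, hW2⟩
    have hsec := Cfsg.Agent.S1970.result (G := D.Model ⧸ Ch) W hW (fun K R _ hc T' => by
      rw [← Subgroup.map_subtype_commutator]
      exact hT _ T' hc)
    have hctl : Fusion.Ctl {W} p (D.Model ⧸ Ch) := by
      have hWs : ∀ V ∈ ({W} : Set (∀ (Q : Type u) [Group Q], Subgroup Q)), IsCharPFunctor.{u} p V := by
        rintro _ rfl; exact hW
      have h := (Fusion.ctl_singleton_iff hW).1 (hsec ⊤ ⊥)
      exact h.congr ((QuotientGroup.quotientMulEquivOfEq (Subgroup.bot_subgroupOf ⊤)).trans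
        (QuotientGroup.quotientBot.trans Subgroup.topEquiv)) hWs
    intro z hz hz'
    exact (iSup₂_le fun V hV => by rw [Set.mem_singleton_iff.1 hV]; exact inf_le_right :
      Fusion.Tj {W} (Pb : Subgroup (D.Model ⧸ Ch)) ≤ _) (hctl Pb ⟨hz', hz⟩)
  intro P f hf x hx
  obtain ⟨hP, g, hg⟩ := (isMap_realized_iff D.isRealizedBy).1 hf
  obtain ⟨hfx, hfe⟩ := hg ⟨x, hP hx⟩ hx
  set y : T := ⟨x, hP hx⟩⁻¹ * ⟨f x, hfx⟩ with hy
  have hy' : ι y ∈ commutator D.Model := by
    rw [hy, _root_.map_mul, _root_.map_inv, hfe, commutator_def]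
    have := Subgroup.commutator_mem_commutator (Subgroup.mem_top (ι ⟨x, hP hx⟩)⁻¹)
      (Subgroup.mem_top g)
    rwa [commutatorElement_def, inv_inv, mul_assoc, mul_assoc, ← mul_assoc g] at this
  have hyb := hctl (q (ι y))
    (by rw [Sylow.coe_mapSurjective]; exact ⟨_, hP₀ ▸ ⟨y, rfl⟩, rfl⟩)
    (Abelianization.commutator_subset_ker (Abelianization.of.comp q) hy' |> fun h =>
      (QuotientGroup.eq_one_iff _).1 h)
  set Nb := Subgroup.normalizer (Wb : Set (D.Model ⧸ Ch))
  set N := Nb.comap q with hN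
  obtain ⟨n, hn, hne⟩ : q (ι y) ∈ (⁅N, N⁆).map q := by
    rwa [Subgroup.map_commutator, Subgroup.map_comap_eq_self_of_surjective hqs]
  obtain ⟨c, hc, hce⟩ : ∃ c : T, (c : Ω) ∈ C ∧ ι c = n⁻¹ * ι y := by
    obtain ⟨c, hc, hce⟩ := QuotientGroup.eq.1 hne
    exact ⟨c, hc, hce⟩
  have hcG : ι c ∈ commutator D.Model := by
    rw [hce]
    exact mul_mem (inv_mem (Subgroup.commutator_mono le_top le_top hn)) hy'
  have hcK : (c : Ω) ∈ K := by
    have h := mem_commutator_sylow P₀ (Z := Ch)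
      (by rintro _ ⟨d, -, rfl⟩; exact hP₀ ▸ ⟨d, rfl⟩) hact ⟨c, hc, rfl⟩ hcG
    rw [hP₀, MonoidHom.range_eq_map, ← Subgroup.map_commutator] at h
    obtain ⟨d, hd, hde⟩ := h
    obtain rfl : d = c := hιinj hde
    refine hTK ?_
    have : (d : Ω) ∈ (commutator T).map T.subtype := ⟨d, hd, rfl⟩
    rwa [Subgroup.map_subtype_commutator] at this
  -- `N` stabilizes the preimage of `W (T / C)`
  haveI := finite_of_le hRT
  let e : (↥T ⧸ C.subgroupOf T) →* (Pb : Subgroup (D.Model ⧸ Ch)) :=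
    QuotientGroup.lift _ ((q.comp ι).codRestrict _ fun t => by
      rw [Sylow.coe_mapSurjective]; exact ⟨_, hP₀ ▸ ⟨t, rfl⟩, rfl⟩) fun t ht =>
      Subtype.ext ((QuotientGroup.eq_one_iff _).2 ⟨t, ht, rfl⟩)
  have hes : Function.Surjective e := by
    rintro ⟨z, hz⟩
    rw [Sylow.coe_mapSurjective, hP₀] at hz
    obtain ⟨_, ⟨t, rfl⟩, rfl⟩ := hz
    exact ⟨QuotientGroup.mk t, rfl⟩
  have hei : Function.Injective e := by
    rw [injective_iff_map_eq_one]
    intro z hz
    obtain ⟨t, rfl⟩ := QuotientGroup.mk_surjective z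
    obtain ⟨d, hd, hde⟩ := (QuotientGroup.eq_one_iff _).1 (congrArg Subtype.val hz)
    exact (QuotientGroup.eq_one_iff _).2 (hιinj hde ▸ hd)
  have heW := hW2 _ _ (hTp.to_quotient _) (MulEquiv.ofBijective e ⟨hei, hes⟩)
  have hRmem : ∀ t : T, (t : Ω) ∈ R ↔ q (ι t) ∈ Wb := by
    intro t
    rw [hR, mem_wFun]
    constructor
    · intro h
      refine ⟨e (QuotientGroup.mk t), ?_, rfl⟩
      rw [← heW]
      exact ⟨_, h, rfl⟩
    · rintro ⟨w, hw, hwe⟩
      rw [← heW] at hw
      obtain ⟨z, hz, rfl⟩ := hw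
      rwa [show QuotientGroup.mk' _ t = z from hei (Subtype.ext hwe.symm)]
  have hTN : ∀ t : T, ι t ∈ N := by
    intro t
    refine mem_normalizer_of_maps fun w hw => ?_
    obtain ⟨w', hw', rfl⟩ := hw
    obtain ⟨z, hz⟩ := hes w'
    obtain ⟨s, rfl⟩ := QuotientGroup.mk_surjective z
    have hs : (s : Ω) ∈ R := (hRmem s).2 ⟨w', hw', by rw [← hz]; rfl⟩
    have h := (hRmem (t * s * t⁻¹)).1 ((Subgroup.mem_normalizer_iff.1 (hnR t.2) _).1 hs)
    rw [← hz]
    show q (ι t) * q (ι s) * (q (ι t))⁻¹ ∈ _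
    rwa [_root_.map_mul, _root_.map_mul, _root_.map_inv, _root_.map_mul, _root_.map_mul,
      _root_.map_inv] at h
  have hNstab : ∀ m ∈ N, ∀ r : T, (r : Ω) ∈ R → ∃ r' : T, (r' : Ω) ∈ R ∧ ι r' = m * ι r * m⁻¹ := by
    intro m hm r hr
    have h := (Subgroup.mem_normalizer_iff.1 hm _).1 ((hRmem r).1 hr)
    rw [← _root_.map_inv, ← _root_.map_mul, ← _root_.map_mul] at h
    have hmem : q (m * ι r * m⁻¹) ∈ (Pb : Subgroup (D.Model ⧸ Ch)) := Subgroup.map_subtype_le _ h
    obtain ⟨z, hz⟩ := hes ⟨_, hmem⟩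
    obtain ⟨s, rfl⟩ := QuotientGroup.mk_surjective z
    have hs : q (ι s) = q (m * ι r * m⁻¹) := congrArg Subtype.val hz
    obtain ⟨d, hd, hde⟩ := QuotientGroup.eq.1 hs
    refine ⟨s * d, R.mul_mem ((hRmem s).2 (hs ▸ h)) (le_wFun hCT hd), ?_⟩
    rw [_root_.map_mul, hde, mul_inv_cancel_left]
  -- the focal subgroup theorem in `N`
  have hnK : ∀ z : T, ι z ∈ ⁅N, N⁆ → (z : Ω) ∈ K := by
    intro z hz
    have hPN : (P₀ : Subgroup D.Model) ≤ N := by rw [hP₀]; rintro _ ⟨t, rfl⟩; exact hTN t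
    rw [← Subgroup.map_subtype_commutator] at hz
    obtain ⟨z', hz', hze⟩ := hz
    have hzP : z' ∈ ((P₀.subtype hPN : Sylow p N) : Subgroup N) := by
      rw [Sylow.coe_subtype]
      exact Subgroup.mem_subgroupOf.2 (hP₀ ▸ ⟨z, hze.symm⟩)
    have h := commutator_inf_le_of_fusion (P₀.subtype hPN)
      (M := ((K.subgroupOf T).map ι).subgroupOf N) (fun a ha m ham => ?_) ⟨hz', hzP⟩
    · obtain ⟨z₂, hz₂, hz₂e⟩ := Subgroup.mem_subgroupOf.1 h
      exact hιinj (hz₂e.trans hze) ▸ hz₂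
    rw [Sylow.coe_subtype] at ha ham
    obtain ⟨s, hs⟩ : (a : D.Model) ∈ ι.range := hP₀ ▸ Subgroup.mem_subgroupOf.1 ha
    obtain ⟨s', hs'⟩ : (m : D.Model) * a * (m : D.Model)⁻¹ ∈ ι.range :=
      hP₀ ▸ Subgroup.mem_subgroupOf.1 ham
    let φ : Ω → Ω := fun w => bwdFun hιinj ((m : D.Model) * homFun ι w * (m : D.Model)⁻¹)
    have hφ : ∀ r r' : T, ι r' = m * ι r * (m : D.Model)⁻¹ → φ r = r' := fun r r' e => by
      show bwdFun hιinj (m * homFun ι (r : Ω) * (m : D.Model)⁻¹) = r'
      rw [homFun_coe, ← e, bwdFun_apply]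
    have hle : Subgroup.zpowers (s : Ω) ⊔ R ≤
        ((ι.range.comap ((MulAut.conj (m : D.Model)).toMonoidHom.comp ι))).map T.subtype := by
      refine sup_le (Subgroup.zpowers_le.2 ⟨s, ⟨s', by rw [hs', ← hs]; rfl⟩, rfl⟩) fun w hw => ?_
      obtain ⟨r', -, he⟩ := hNstab m m.2 ⟨w, hRT hw⟩ hw
      exact ⟨⟨w, hRT hw⟩, ⟨r', he⟩, rfl⟩
    have hmap : IsMap E (Subgroup.zpowers (s : Ω) ⊔ R) φ := by
      refine D.isMap_of_conj (sup_le (Subgroup.zpowers_le.2 s.2) hRT) (m := (m : D.Model))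
        fun w hw => ?_
      obtain ⟨w', ⟨r', he⟩, hwe⟩ := hle hw
      obtain rfl : w' = w := Subtype.ext hwe
      exact ⟨(hφ w' r' he).symm ▸ r'.2, he.symm.trans (congrArg ι (Subtype.ext (hφ w' r' he).symm))⟩
    have hk : (s : Ω)⁻¹ * φ s ∈ K := mem_focN hmap le_sup_right (fun w hw => by
      obtain ⟨r', hr', he⟩ := hNstab m m.2 ⟨w, hRT hw⟩ hw
      exact (hφ ⟨w, hRT hw⟩ r' he).symm ▸ hr')
      (Subgroup.mem_sup_left (Subgroup.mem_zpowers _))
    rw [hφ s s' (by rw [hs', hs])] at hk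
    refine Subgroup.mem_subgroupOf.2 ⟨s⁻¹ * s', hk, ?_⟩
    rw [_root_.map_mul, _root_.map_inv, hs, hs']
    rfl
  have hn' : ι (y * c⁻¹) ∈ ⁅N, N⁆ := by
    rw [_root_.map_mul, _root_.map_inv, hce, mul_inv_rev, inv_inv, mul_inv_cancel_left]
    exact hn
  have := mul_mem (hnK _ hn') hcK
  simpa [hy] using this

end InSubsystem

include hW1 hW2 hS in
/-- Control of transfer, for all subsystems. -/
theorem focalControlled (hT : ∀ (G : Type u) [Group G] [Finite G] (P : Sylow p G),
    Subgroup.centralizer ((pCore p G : Subgroup G) : Set G) ≤ pCore p G →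
      pCore p G ⊓ commutator G = pCore p G ⊓
        (commutator ↥(Subgroup.normalizer (((W ↥(P : Subgroup G)).map (P : Subgroup G).subtype :
          Subgroup G) : Set G))).map
          (Subgroup.normalizer (((W ↥(P : Subgroup G)).map (P : Subgroup G).subtype :
            Subgroup G) : Set G)).subtype)
    (T : Subgroup Ω) (E : FusionSystem T) (hI : Inherits F p E) (C : Subgroup Ω) (hC : E.IsNormal C)
    (hCp : IsPGroup p (E.autGroup C)) : FocalControlled W T E C := by
  refine induction_on_core (F := F) hS (fun T E C => FocalControlled W T E C)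
    (fun T E hI C hC hCp hD => focalControlled_of_centric hW1 hW2 hS hI hT hC hCp hD) ?_ ?_ ?_
    T E hI C hC hCp
  · intro T E E₁ E₂ hI _ _ hprod C _ _ _ _ h₁ h₂ P f hf x hx
    obtain ⟨h, m, hh, hm, he⟩ := hprod.2.2 P f hf
    have a := focN_mono hprod.1 (h₁ P h hh x hx)
    have b := focN_mono hprod.2.1 (h₂ _ m hm (h x) (hh.mem_imgSub.2 ⟨x, hx, rfl⟩))
    rw [he x hx, show x⁻¹ * m (h x) = (x⁻¹ * h x) * ((h x)⁻¹ * m (h x)) by group]
    exact mul_mem a b
  · intro T E hI C hC hCp _ hDlt hDn hDp hrec hb P f hf x hx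
    haveI := finite_of_le hI.le
    set V := wFun W E.core T with hV
    have hVT : V ≤ T := wFun_le _ _
    have hDV : E.core < V := lt_wFun hW1 (hS) hDlt hI.le (le_normalizer_of_isNormal hDn)
    have hVn : T ≤ Subgroup.normalizer (V : Set Ω) := le_normalizer_wFun hW1 hW2 hS hI hDn
    have heq : normalizerIn T V = T := le_antisymm normalizerIn_le fun z hz => ⟨hz, hVn hz⟩
    have hVfn : E.IsFullyNormalized V := ⟨hVT, fun R _ => by
      rw [heq]; exact Subgroup.card_le_of_le normalizerIn_le⟩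
    obtain ⟨E', hE'⟩ := exists_normalizerSystem E hVT
    have hK := isKSys_normalizer_iff.1 hE'
    have hΦ := (hrec V hDV hVfn E' hK).2 C hC hCp
    refine (Subgroup.closure_le _).2 ?_ (hb P f hf x hx)
    rintro _ ⟨P', f', x', hf', hVP, hm, hx', rfl⟩
    haveI := finite_of_le hVT
    have hf'' : IsMap E' P' f' := (hK.map_iff _ _).2 ⟨hf'.le.trans heq.ge,
      fun z hz => heq.ge (hf'.mem_S hz), f', hf'.mono (sup_le le_rfl hVP), fun _ _ => rfl,
      (onQ_top_iff hf' hVP).2 ((hf'.mono hVP).image_eq_of_mapsTo hm)⟩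
    have hmem := hΦ P' f' hf'' x' hx'
    rw [show wFun W C (normalizerIn T V) = wFun W C T from congrArg _ heq] at hmem
    exact focN_mono (fun Q g => hK.isMap_le) hmem
  · intro T E hI hDlt hDn hDp hrec
    have hTS := hI.le
    haveI := finite_of_le hTS
    have hTp : IsPGroup p T := hS.to_le hTS
    set D := E.core
    set R := wFun W D T with hR
    set K := focN E R with hK
    have hRT : R ≤ T := wFun_le _ _
    have hnR : T ≤ Subgroup.normalizer (R : Set Ω) := le_normalizer_wFun hW1 hW2 hS hI hDn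
    haveI := finite_of_le hRT
    have hDN := le_normalizer_of_isNormal hDn
    haveI := finite_of_le hDn.1
    intro P f hf
    refine ((isMap_goodSys (E := E) (hK := commutator_le_focN E hRT hnR)).1
      ((le_iff_isMap.1 (le_of_autGroup_fullyNormalized hTp hI.sat (E := goodSys E K (commutator_le_focN E hRT hnR))
        fun Q hQn big α hα => ?_)) P f hf)).2
    have hQT := hQn.1
    haveI := finite_of_le hQT
    have hαm := (mem_autGroup_iff hQT).1 hα
    refine mem_autGroup_of_isMap (isMap_goodSys.2 ⟨hαm, ?_⟩)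
    -- a larger source
    have ext : ∀ (X : Subgroup Ω) (g : Ω → Ω), ¬ X ≤ Q → IsMap E (X ⊔ Q) g →
        (∀ x ∈ Q, g x = autMap α x) → ∀ x ∈ Q, x⁻¹ * autMap α x ∈ K := by
      intro X g hX hg hge x hx
      haveI := finite_of_le hg.le
      have hlt : Nat.card Q < Nat.card (X ⊔ Q : Subgroup Ω) := by
        by_contra hle
        exact hX (le_sup_left.trans
          (Subgroup.eq_of_le_of_card_ge (le_sup_right : Q ≤ X ⊔ Q) (not_lt.1 hle)).ge)
      rw [← hge x hx]
      exact (isMap_goodSys.1 (big _ g hlt hg)).2 x (Subgroup.mem_sup_right hx)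
    by_cases hDQ : D ≤ Q
    swap
    · obtain ⟨g, hg, hge, -⟩ := (isNormal_iff.1 hDn).2 Q _ hαm
      exact ext D g hDQ (hg.mono (sup_le le_sup_right le_sup_left)) hge
    rcases hQT.eq_or_lt with rfl | hQlt
    · intro x hx
      refine mem_focN hαm hRT (fun r hr => ?_) hx
      have h := (isWFun_wFun (F := F) hW1 hW2 hS).equivariant D Q (autMap α) hDQ hDN
        (hI.sub _ _ hαm) ((stronglyClosed_iff.1 (stronglyClosed_of_isNormal hDn)).2 D _ le_rfl
          (hαm.mono hDQ))
      rw [← (isIso_autMap le_rfl hα).eq_imgSub] at h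
      show autMap α r ∈ wFun W D Q
      rw [← SetLike.mem_coe, ← h, (hαm.mono hRT).coe_imgSub]
      exact ⟨r, hr, rfl⟩
    rcases hDQ.eq_or_lt with hDeq | hDlt'
    · -- on the core the automizer is that of `T`
      subst hDeq
      have heq : normalizerIn T D = T := le_antisymm normalizerIn_le fun z hz => ⟨hz, hDN hz⟩
      have hin : ∀ z ∈ T, InExt T D (autMap α) z := by
        intro z hz
        have hn : autInducedBy T D ≤ E.autGroup D := autInducedBy_le_autGroup E hQT
        haveI : Finite (E.autGroup D) := finite_autGroup E hQT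
        have hpi := ((isFullyAutomized_iff hTp).1 (isFullyAutomized_of_isFullyNormalized hTp hI.sat hQn)).2
        have hle : E.autGroup D ≤ autInducedBy T D := by
          rw [← Subgroup.relIndex_eq_one]
          obtain ⟨k, hk⟩ := hDp.index ((autInducedBy T D).subgroupOf (E.autGroup D))
          rcases Nat.eq_zero_or_pos k with rfl | hk0
          · exact hk.trans (pow_zero p)
          · exact absurd (show p ∣ (autInducedBy T D).relIndex (E.autGroup D) by
              rw [Subgroup.relIndex, hk]; exact dvd_pow_self p hk0.ne') hpi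
        obtain ⟨t, ht, htn, rfl⟩ := mem_autInducedBy.1 (hle hα)
        refine ⟨hz, hDN hz, t * z * t⁻¹, mul_mem (mul_mem ht hz) (inv_mem ht), fun y hy => ?_⟩
        have hzy : z * y * z⁻¹ ∈ D := (Subgroup.mem_normalizer_iff.1 (hDN hz) y).1 hy
        rw [autMap_conjAut htn hy, autMap_conjAut htn hzy, conjMap_apply, conjMap_apply]
        group
      obtain ⟨g, hg, hge⟩ := receptive_extend (receptive_of_isFullyNormalized hTp hI.sat hQn)
        (isIso_autMap hQT hα) (N := T) hin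
      exact ext T g hQlt.not_ge hg hge
    -- transport to normalizers of larger size
    have key : ∀ (j : ℕ) (T₁ : Subgroup Ω), Nat.card T - Nat.card (normalizerIn T T₁) = j → D < T₁ →
        E.IsFullyNormalized T₁ → Nat.card Q < Nat.card (normalizerIn T T₁) →
        ∀ P f, IsMap E P f → P ≤ normalizerIn T T₁ → T₁ ≤ P → (∀ r ∈ T₁, f r ∈ T₁) →
          ∀ x ∈ P, x⁻¹ * f x ∈ K := by
      intro j
      induction j using Nat.strong_induction_on with
      | _ j ihj =>
      intro T₁ hj hDT₁ hT₁n hbig P f hf hPN hT₁P hm x hx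
      set N₁ := normalizerIn T T₁ with hN₁
      haveI := finite_of_le hT₁n.1
      obtain ⟨E', hE'⟩ := exists_normalizerSystem E hT₁n.1
      have hKs := isKSys_normalizer_iff.1 hE'
      have hΦ := (hrec T₁ hDT₁ hT₁n E' hKs).2 D hDn hDp
      have hf' : IsMap E' P f := (hKs.map_iff _ _).2 ⟨hPN, fun z hz => by
          have h := hf.mem_normalizerIn hT₁P hz (hPN hz).2
          rwa [← (isIso_of_mapsTo (hf.mono hT₁P) hm).eq_imgSub] at h, f,
        hf.mono (sup_le le_rfl hT₁P), fun _ _ => rfl,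
        (onQ_top_iff hf hT₁P).2 ((hf.mono hT₁P).image_eq_of_mapsTo hm)⟩
      refine (Subgroup.closure_le _).2 ?_ (hΦ P f hf' x hx)
      rintro _ ⟨P', f', x', hf', hVP, hm', hx', rfl⟩
      set V := wFun W D N₁ with hV
      have hfE : IsMap E P' f' := hKs.isMap_le hf'
      have hP'N : P' ≤ N₁ := hf'.le
      rcases (normalizerIn_le : N₁ ≤ T).eq_or_lt with he | hlt
      · exact mem_focN hfE (hR ▸ he ▸ hVP) (hR ▸ he ▸ hm') hx'
      have hDN₁ : D < N₁ := hDT₁.trans_le (le_normalizerIn_self hT₁n.1)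
      have hVT : V ≤ T := (wFun_le _ _).trans normalizerIn_le
      have hDV : D < V := lt_wFun hW1 (hS) hDN₁ (normalizerIn_le.trans hTS)
        (normalizerIn_le.trans hDN)
      have hNN : normalizerIn T N₁ ≤ normalizerIn T V := fun z hz =>
        ⟨hz.1, normalizes_wFun hW1 hW2 hS hI hDn hDN₁.le normalizerIn_le hz.1 hz.2⟩
      have hcard : Nat.card N₁ < Nat.card (normalizerIn T V) := by
        haveI := finite_of_le (S := T) (P := normalizerIn T V) normalizerIn_le
        exact (card_lt_card_normalizerIn hTp hlt).trans_le (Subgroup.card_le_of_le hNN)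
      haveI := finite_of_le hVT
      obtain ⟨V₂, hVV₂, hV₂n⟩ := exists_isFullyNormalized E hVT
      obtain ⟨u, hu, hui, hum⟩ := exists_map_to_fullyNormalized hTp hI.sat hV₂n hVV₂
      have hP'V : P' ≤ normalizerIn T V := (hP'N.trans
        ((le_normalizerIn_self normalizerIn_le).trans hNN))
      have hfV : ∀ z ∈ P', f' z ∈ normalizerIn T V := fun z hz =>
        hNN (le_normalizerIn_self normalizerIn_le (hf'.mem_S hz))
      have ugood : ∀ z ∈ normalizerIn T V, z⁻¹ * u z ∈ K := fun z hz =>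
        (isMap_goodSys.1 (big _ u (hbig.trans hcard) hu)).2 z hz
      have huP := hu.mono hP'V
      obtain ⟨v, hv, hvu⟩ := huP.exists_inv
      have hvP : ∀ w ∈ imgSub u P', v w ∈ P' := fun w hw => by
        obtain ⟨z, hz, rfl⟩ := huP.mem_imgSub.1 hw
        rw [hvu z hz]; exact hz
      have hcomp : IsMap E (imgSub u P') (u ∘ f' ∘ v) :=
        (hv.comp hfE hvP).comp hu fun w hw => hfV _ (hvP w hw)
      have h2 : (u x')⁻¹ * u (f' x') ∈ K := by
        have hN₂ : Nat.card N₁ < Nat.card (normalizerIn T V₂) :=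
          hcard.trans_le (by
            haveI := finite_of_le (S := T) (P := normalizerIn T V₂) normalizerIn_le
            exact card_le_of_mapsTo hu le_rfl hum)
        have hDV₂ : D < V₂ := by
          refine lt_of_le_of_ne (fun w hw => ?_) fun he => ?_
          · obtain ⟨z, hz, rfl⟩ := (isIso_of_mapsTo (hui.isMap.mono hDV.le)
              ((stronglyClosed_iff.1 (stronglyClosed_of_isNormal hDn)).2 D u le_rfl
                (hui.isMap.mono hDV.le))).exists_preimage hw
            exact hui.mem (hDV.le hz)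
          · subst he
            exact hDV.ne (Subgroup.eq_of_le_of_card_ge hDV.le (le_of_eq hui.card_eq))
        have h := ihj _ (by
            have : Nat.card (normalizerIn T V₂) ≤ Nat.card T := Subgroup.card_le_of_le normalizerIn_le
            omega) V₂ rfl hDV₂ hV₂n (hbig.trans hN₂) (imgSub u P') (u ∘ f' ∘ v) hcomp
          (fun w hw => by
            obtain ⟨z, hz, rfl⟩ := huP.mem_imgSub.1 hw
            exact hum z (hP'V hz))
          (fun w hw => by
            obtain ⟨z, hz, rfl⟩ := hui.exists_preimage hw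
            exact huP.mem_imgSub.2 ⟨z, hVP hz, rfl⟩)
          (fun w hw => by
            obtain ⟨z, hz, rfl⟩ := hui.exists_preimage hw
            show u (f' (v (u z))) ∈ V₂
            rw [hvu z (hVP hz)]
            exact hui.mem (hm' z hz))
          (u x') (huP.mem_imgSub.2 ⟨x', hx', rfl⟩)
        rwa [Function.comp_apply, Function.comp_apply, hvu x' hx'] at h
      have h3 := mul_mem (mul_mem (ugood x' (hP'V hx')) h2) (inv_mem (ugood (f' x') (hfV x' hx')))
      show x'⁻¹ * f' x' ∈ K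
      convert h3 using 1
      group
    intro x hx
    exact key _ Q rfl hDlt' hQn (card_lt_card_normalizerIn hTp hQlt) Q _ hαm (le_normalizerIn_self hQT)
      le_rfl (fun r hr => autMap_mem _ hr) x hx

include hW1 hW2 hS in
/-- A functor satisfying the focal condition controls transfer in saturated systems. -/
theorem focalSubgroup_normalizerSystem (hT : ∀ (G : Type u) [Group G] [Finite G] (P : Sylow p G),
    Subgroup.centralizer ((pCore p G : Subgroup G) : Set G) ≤ pCore p G →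
      pCore p G ⊓ commutator G = pCore p G ⊓
        (commutator ↥(Subgroup.normalizer (((W ↥(P : Subgroup G)).map (P : Subgroup G).subtype :
          Subgroup G) : Set G))).map
          (Subgroup.normalizer (((W ↥(P : Subgroup G)).map (P : Subgroup G).subtype :
            Subgroup G) : Set G)).subtype)
    (hF : F.IsSaturated p) {N : FusionSystem (normalizerIn S ((W ↥S).map S.subtype))}
    (hN : F.IsNormalizerSystem ((W ↥S).map S.subtype) N) : N.focalSubgroup = F.focalSubgroup := by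
  have hI : Inherits F p F := ⟨le_rfl, hF, fun _ _ h => h, fun _ _ h => h⟩
  have hb : F.IsNormal ⊥ := Cfsg.Agent.H89.isNormal_bot F
  have hp1 : IsPGroup p (F.autGroup ⊥) := fun a => ⟨0, by
    rw [pow_zero, pow_one]
    exact Subtype.ext (MulEquiv.ext fun x => Subsingleton.elim _ _)⟩
  have h := focalControlled hW1 hW2 hS hT S F hI ⊥ hb hp1
  have hV := wFun_bot hW2 hS (p := p)
  have hn := le_normalizer_wFun hW1 hW2 hS hI hb
  rw [hV] at hn
  have hVS : (W ↥S).map S.subtype ≤ S := Subgroup.map_subtype_le _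
  haveI := finite_of_le hVS
  have hK := isKSys_normalizer_iff.1 hN
  refine le_antisymm (Subgroup.closure_mono ?_) ((Subgroup.closure_le _).2 ?_)
  · rintro _ ⟨P, φ, x, hφ, rfl⟩
    refine ⟨P, φ, x, mem_hom_iff_isMap.2 (hK.isMap_le (isMap_of_mem hφ)), rfl⟩
  · rintro _ ⟨P, φ, x, hφ, rfl⟩
    have hmem := h P (homFun φ) (isMap_of_mem hφ) x x.2
    rw [hV, homFun_coe] at hmem
    refine (Subgroup.closure_le _).2 ?_ hmem
    rintro _ ⟨P', f, y, hf, hVP, hm, hy, rfl⟩
    obtain ⟨ψ, hψ, hψf⟩ : IsMap N P' f := (hK.map_iff _ _).2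
      ⟨fun z hz => ⟨hf.le hz, hn (hf.le hz)⟩, fun z hz => ⟨hf.mem_S hz, hn (hf.mem_S hz)⟩, f,
        hf.mono (sup_le le_rfl hVP), fun _ _ => rfl,
        (onQ_top_iff hf hVP).2 ((hf.mono hVP).image_eq_of_mapsTo hm)⟩
    exact Subgroup.subset_closure ⟨P', ψ, ⟨y, hy⟩, hψ, by rw [hψf ⟨y, hy⟩]⟩

end Cfsg.Agent.FusionSys
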