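import Cfsg.Agent.FusionSys.ModelFacts
import Cfsg.Agent.FusionSys.KSub

/-!
The normalizer system of a fully normalized centric subgroup is constrained; if the subgroup is radical it is the
largest normal subgroup of that system.
-/

set_option autoImplicit false
set_option linter.style.haveILetI false

namespace Cfsg.Agent.FusionSys

open Cfsg Cfsg.FusionSystem Set

universe u

variable {Ω : Type u} [Group Ω] {S : Subgroup Ω} [Finite S] {p : ℕ} [Fact p.Prime] {F : FusionSystem S}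

omit [Fact p.Prime] in
theorem isCentric_normalizerSystem {R : Subgroup Ω} (hRc : F.IsCentric R)
    {E : FusionSystem (normalizerIn S R)} (hE : F.IsNormalizerSystem R E) : E.IsCentric R := by
  have hK := isKSys_normalizer_iff.1 hE
  refine ⟨le_normalizerIn_self hRc.1, fun Q hQ => ?_⟩
  obtain ⟨f, hf⟩ := isConj_iff.1 hQ
  refine fun c hc => hRc.2 Q (isConj_iff.2 ⟨f, hK.isMap_le hf.isMap, hf.image_eq⟩) ?_
  exact FusionSys.mem_centralizerIn.2
    ⟨(FusionSys.mem_centralizerIn.1 hc).1.1, (FusionSys.mem_centralizerIn.1 hc).2⟩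

theorem isConstrained_normalizerSystem (hS : IsPGroup p S) (hF : F.IsSaturated p) {R : Subgroup Ω}
    (hRn : F.IsFullyNormalized R) (hRc : F.IsCentric R) {E : FusionSystem (normalizerIn S R)}
    (hE : F.IsNormalizerSystem R E) : E.IsConstrained p :=
  ⟨isSaturated_normalizer hS hF hRn hE, R,
    (isKSys_normalizer_iff.1 hE).isNormal_self (le_normalizerIn_self hRc.1),
    isCentric_normalizerSystem hRc hE⟩

theorem core_normalizerSystem (hS : IsPGroup p S) (hF : F.IsSaturated p) {R : Subgroup Ω}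
    (hRn : F.IsFullyNormalized R) (hRc : F.IsCentric R) (hRr : F.IsRadical p R)
    {E : FusionSystem (normalizerIn S R)} (hE : F.IsNormalizerSystem R E) : E.core = R := by
  have hRS := hRc.1
  haveI := finite_of_le hRS
  haveI : Finite ↥(normalizerIn S R) := finite_of_le (S := S) normalizerIn_le
  have hK := isKSys_normalizer_iff.1 hE
  have hRE : R ≤ E.core :=
    Cfsg.Agent.H89.le_core E (hK.isNormal_self (le_normalizerIn_self hRS))
  refine le_antisymm ?_ hRE
  have hDn := Cfsg.Agent.H89.isNormal_core E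
  set D := E.core
  haveI := finite_of_le hDn.1
  let φ : D →* MulAut R := MonoidHom.mk' (fun d => conjAut (hDn.1 d.2).2) fun a b =>
    aut_ext fun x hx => by
      rw [autMap_mul _ _ hx, autMap_conjAut _ hx, autMap_conjAut _ hx,
        autMap_conjAut _ (by
          rw [conjMap_apply]; exact (Subgroup.mem_normalizer_iff.1 (hDn.1 b.2).2 x).1 hx)]
      simp only [conjMap_apply, Subgroup.coe_mul]
      group
  have hφA : φ.range ≤ F.autGroup R := by
    rintro _ ⟨d, rfl⟩
    exact conjAut_mem_autGroup F hRS (hDn.1 d.2)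
  have hDp : IsPGroup p φ.range :=
    (hS.to_le (hDn.1.trans normalizerIn_le)).of_surjective _ φ.rangeRestrict_surjective
  haveI : (φ.range.subgroupOf (F.autGroup R)).Normal := ⟨by
    rintro ⟨_, -⟩ ⟨d, rfl⟩ ⟨α, hα⟩
    have hαm : IsMap E R (autMap α) := (hK.map_iff _ _).2 ⟨le_normalizerIn_self hRS,
      fun x hx => le_normalizerIn_self hRS (autMap_mem α hx), autMap α,
      ((mem_autGroup_iff hRS).1 hα).mono (sup_le le_rfl le_rfl), fun _ _ => rfl,
      (onQ_top_iff ((mem_autGroup_iff hRS).1 hα) le_rfl).2 (image_autMap α)⟩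
    obtain ⟨g, hg, hge, hgD⟩ := (isNormal_iff.1 hDn).2 R _ hαm
    have hgd : g d ∈ D := by
      rw [← SetLike.mem_coe, ← hgD]; exact ⟨_, d.2, rfl⟩
    refine ⟨⟨g d, hgd⟩, ?_⟩
    show φ ⟨g d, hgd⟩ = α * φ d * α⁻¹
    rw [eq_mul_inv_iff_mul_eq]
    refine aut_ext fun x hx => ?_
    have hdx : (d : Ω) * x * (d : Ω)⁻¹ ∈ R := (Subgroup.mem_normalizer_iff.1 (hDn.1 d.2).2 x).1 hx
    have hx' : x ∈ R ⊔ D := Subgroup.mem_sup_left hx
    have hd' : (d : Ω) ∈ R ⊔ D := Subgroup.mem_sup_right d.2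
    rw [autMap_mul _ _ hx, autMap_mul _ _ hx]
    show autMap (conjAut (hDn.1 hgd).2) (autMap α x) = autMap α (autMap (conjAut (hDn.1 d.2).2) x)
    rw [autMap_conjAut _ hx, autMap_conjAut _ (autMap_mem α hx), conjMap_apply, conjMap_apply,
      ← hge _ hdx, ← hge x hx, hg.map_mul ((R ⊔ D).mul_mem hd' hx') ((R ⊔ D).inv_mem hd'),
      hg.map_mul hd' hx', hg.map_inv hd']⟩
  intro d hd
  have h1 : (⟨φ ⟨d, hd⟩, hφA ⟨_, rfl⟩⟩ : F.autGroup R) ∈ pCore p (F.autGroup R) :=
    Cores.le_pCore (N := φ.range.subgroupOf (F.autGroup R)) hDp.comap_subtype (show φ ⟨d, hd⟩ ∈ φ.range from ⟨_, rfl⟩)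
  have h2 : φ ⟨d, hd⟩ ∈ Inn R := hRr.2 ▸ ⟨_, h1, rfl⟩
  exact mem_of_conjAut_mem_inn (centralizerIn_le_of_isCentric hRc) hRS (hDn.1 hd).1 (hDn.1 hd).2 h2

end Cfsg.Agent.FusionSys
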