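import Cfsg.Agent.Fusion.SelfCentralFunctor
import Cfsg.Agent.H49.StrongFusionForms
import Cfsg.Agent.H49.SectionFreeFactor
import Cfsg.Agent.FusionSys.Transport
import Cfsg.Agent.Thompson.Forms
import Cfsg.Prelude.Def_LocalEven

/-!
Systems realized by `p`-stable groups have a nontrivial normal subgroup; factor systems of realized systems
are realized by normalizer quotients.
-/

set_option autoImplicit false
set_option linter.style.haveILetI false

namespace Cfsg.Agent.FusionSys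

open Cfsg Cfsg.FusionSystem Set

universe u v

variable {Ω : Type u} [Group Ω] {S : Subgroup Ω} {p : ℕ} [Fact p.Prime]

theorem isNormalizerPStable_of_not_involves {G : Type v} [Group G] [Finite G] (hp : p ≠ 2)
    (h : ¬ Involves ↥(Cfsg.qd p) G) : IsNormalizerPStable p G := fun P hP _ hg hq =>
  Thompson.isNormalizerPStable_of_qd_free hp (fun hs => h (Thompson.hasSection_iff.1 hs)) P hP hg hq

/-- The self-centralizing functor, read in `S` through the realization. -/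
noncomputable def kzSub {G : Type v} [Group G] (ι : S →* G) : Subgroup Ω :=
  ((inducedFunctor Fusion.Stable.kzFun ι.range).comap ι).map S.subtype

theorem isNormal_kzSub [Finite S] (hp : p ≠ 2) {F : FusionSystem S} {G : Type v} [Group G] [Finite G]
    {ι : S →* G} (hr : F.IsRealizedBy ι) (hT : ∃ T : Sylow p G, (T : Subgroup G) = ι.range)
    (hst : IsNormalizerPStable p G) : F.IsNormal (kzSub ι) := by
  obtain ⟨T, hTe⟩ := hT
  have hctl := Fusion.Stable.sfc_kz hp _ G rfl hst T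
  set K := inducedFunctor Fusion.Stable.kzFun ι.range with hK
  have hKle : K ≤ ι.range := Subgroup.map_subtype_le _
  have hVS : kzSub ι ≤ S := Subgroup.map_subtype_le _
  refine isNormal_iff.2 ⟨hVS, fun P f hf => ?_⟩
  obtain ⟨hP, g, hg⟩ := (isMap_realized_iff hr).1 hf
  obtain ⟨x, hx, hxe⟩ := hctl (((P.subgroupOf S).map ι : Subgroup G) : Set G) g
    (by rw [hTe]; rintro _ ⟨s, -, rfl⟩; exact ⟨s, rfl⟩)
    (by
      rintro _ ⟨_, ⟨s, hs, rfl⟩, rfl⟩
      obtain ⟨h, he⟩ := hg s hs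
      rw [hTe]
      exact ⟨⟨f s, h⟩, he⟩)
  rw [H49.stepSet_singleton, hTe] at hx
  have hxN : x ∈ Subgroup.normalizer (K : Set G) := H49.steps_mem_of_subgroup hx
  let ψ : Ω → Ω := fun w => bwdFun hr.1 (x * homFun ι w * x⁻¹)
  have hψ : ∀ s s' : S, ι s' = x * ι s * x⁻¹ → ψ s = s' := fun s s' e => by
    show bwdFun hr.1 (x * homFun ι (s : Ω) * x⁻¹) = s'
    rw [homFun_coe, ← e, bwdFun_apply]
  have hK' : ∀ s : S, (s : Ω) ∈ kzSub ι → ∃ s' : S, (s' : Ω) ∈ kzSub ι ∧ ι s' = x * ι s * x⁻¹ := by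
    rintro s ⟨s₀, hs₀, e⟩
    obtain rfl : s₀ = s := Subtype.ext e
    have h := (Subgroup.mem_normalizer_iff.1 hxN (ι s₀)).1 hs₀
    obtain ⟨s', hs'⟩ := hKle h
    exact ⟨s', ⟨s', show ι s' ∈ K from hs' ▸ h, rfl⟩, hs'⟩
  have hle : P ⊔ kzSub ι ≤ ((ι.range.comap ((MulAut.conj x).toMonoidHom.comp ι))).map S.subtype := by
    refine sup_le (fun w hw => ?_) fun w hw => ?_
    · obtain ⟨h, he⟩ := hg ⟨w, hP hw⟩ hw
      exact ⟨⟨w, hP hw⟩, ⟨⟨f w, h⟩, he.trans (hxe _ ⟨⟨w, hP hw⟩, hw, rfl⟩).symm⟩, rfl⟩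
    · obtain ⟨s', -, he⟩ := hK' ⟨w, hVS hw⟩ hw
      exact ⟨⟨w, hVS hw⟩, ⟨s', he⟩, rfl⟩
  have hmap : IsMap F (P ⊔ kzSub ι) ψ := by
    refine (isMap_realized_iff hr).2 ⟨sup_le hP hVS, x, fun w hw => ?_⟩
    obtain ⟨w', ⟨s', he⟩, hwe⟩ := hle hw
    obtain rfl : w' = w := Subtype.ext hwe
    exact ⟨(hψ w' s' he).symm ▸ s'.2, (congrArg ι (Subtype.ext (hψ w' s' he))).trans he⟩
  refine ⟨ψ, hmap, fun w hw => ?_, ?_⟩
  · obtain ⟨h, he⟩ := hg ⟨w, hP hw⟩ hw
    exact hψ ⟨w, hP hw⟩ ⟨f w, h⟩ (he.trans (hxe _ ⟨⟨w, hP hw⟩, hw, rfl⟩).symm)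
  · haveI := finite_of_le hVS
    refine (hmap.mono le_sup_right).image_eq_of_mapsTo fun w hw => ?_
    obtain ⟨s', hs', he⟩ := hK' ⟨w, hVS hw⟩ hw
    exact (hψ ⟨w, hVS hw⟩ s' he).symm ▸ hs'

theorem kzSub_ne_bot [Finite S] (hS : IsPGroup p S) {G : Type v} [Group G] [Finite G] {ι : S →* G}
    (hι : Function.Injective ι) (hne : S ≠ ⊥) : kzSub ι ≠ ⊥ := by
  intro h
  haveI : Nontrivial ι.range := by
    obtain ⟨w, hw, hw1⟩ := exists_ne_of_one_lt_card' hne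
    exact ⟨⟨ι ⟨w, hw⟩, _, rfl⟩, 1, fun e => hw1 (congrArg Subtype.val
      (hι ((congrArg Subtype.val e).trans (map_one ι).symm)))⟩
  refine (Fusion.Stable.isCharPFunctor_kzFun (p := p)).1 ι.range
    (hS.of_surjective _ ι.rangeRestrict_surjective) inferInstance ((Subgroup.eq_bot_iff_forall _).2 ?_)
  rintro ⟨z, s, rfl⟩ hz
  have hs : (s : Ω) ∈ kzSub ι := ⟨s, ⟨_, hz, rfl⟩, rfl⟩
  rw [h] at hs
  exact Subtype.ext (show ι s = 1 by
    rw [show s = 1 from Subtype.ext (Subgroup.mem_bot.1 hs), map_one])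
where
  exists_ne_of_one_lt_card' (h : S ≠ ⊥) : ∃ w ∈ S, w ≠ 1 := by
    by_contra hall
    push_neg at hall
    exact h ((Subgroup.eq_bot_iff_forall _).2 hall)

/-- A system realized by a `p`-stable group over a nontrivial subgroup has nontrivial core. -/
theorem core_ne_bot_of_realized [Finite S] (hp : p ≠ 2) (hS : IsPGroup p S) (hne : S ≠ ⊥)
    {F : FusionSystem S} {G : Type v} [Group G] [Finite G] {ι : S →* G} (hr : F.IsRealizedBy ι)
    (hT : ∃ T : Sylow p G, (T : Subgroup G) = ι.range) (hst : IsNormalizerPStable p G) :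
    F.core ≠ ⊥ := fun h =>
  kzSub_ne_bot hS hr.1 hne (le_bot_iff.1 (h ▸ le_sSup (isNormal_kzSub hp hr hT hst)))

/-- The factor system of a realized system is realized by `N_G(R)/R`. -/
theorem exists_realized_factor [Finite S] {F : FusionSystem S} {G : Type v} [Group G] [Finite G]
    {ι : S →* G} (hr : F.IsRealizedBy ι) (hT : ∃ T : Sylow p G, (T : Subgroup G) = ι.range)
    {R : Subgroup Ω} (hR : F.StronglyClosed R) {Ω' : Type*} [Group Ω'] {S' : Subgroup Ω'}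
    {θ : S →* Ω'} {E : FusionSystem S'} (hE : F.IsFactorSystem R θ E)
    [hRn : (R.subgroupOf S).Normal] :
    ∃ (N : Subgroup G) (hN : (((R.subgroupOf S).map ι).subgroupOf N).Normal)
      (ι' : S' →* (↥N ⧸ ((R.subgroupOf S).map ι).subgroupOf N)),
      E.IsRealizedBy ι' ∧
        ∃ T : Sylow p (↥N ⧸ ((R.subgroupOf S).map ι).subgroupOf N),
          (T : Subgroup (↥N ⧸ ((R.subgroupOf S).map ι).subgroupOf N)) = ι'.range := by
  obtain ⟨hRS, hker, hrange, -⟩ := id hE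
  subst hrange
  obtain ⟨T, hTe⟩ := hT
  set Rι := (R.subgroupOf S).map ι with hRι
  set N := Subgroup.normalizer (Rι : Set G) with hN
  have hιN : ∀ s, ι s ∈ N := fun s => by
    haveI : Finite Rι := inferInstance
    refine mem_normalizer_of_maps ?_
    rintro _ ⟨r, hr', rfl⟩
    exact ⟨s * r * s⁻¹, hRn.conj_mem r hr' s, by simp⟩
  haveI hNn : (Rι.subgroupOf N).Normal := ⟨fun c hc n => (Subgroup.mem_normalizer_iff.1 n.2 c).1 hc⟩
  let mk := QuotientGroup.mk' (Rι.subgroupOf N)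
  let j : S →* (↥N ⧸ Rι.subgroupOf N) := mk.comp (ι.codRestrict N hιN)
  have hj : ∀ s, j s = 1 ↔ θ s = 1 := by
    intro s
    refine ((QuotientGroup.eq_one_iff _).trans ?_).trans (hker s).symm
    exact ⟨fun ⟨r, hr', e⟩ => hr.1 e ▸ hr', fun h => ⟨s, h, rfl⟩⟩
  let ι' : θ.range →* (↥N ⧸ Rι.subgroupOf N) :=
    (QuotientGroup.lift θ.ker j fun s hs => (hj s).2 hs).comp
      (QuotientGroup.quotientKerEquivRange θ).symm.toMonoidHom
  have hι' : ∀ s : S, ι' ⟨θ s, s, rfl⟩ = j s := fun s => by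
    show QuotientGroup.lift θ.ker j (fun s hs => (hj s).2 hs) ((QuotientGroup.quotientKerEquivRange θ).symm ⟨θ s, s, rfl⟩) = _
    rw [show (⟨θ s, s, rfl⟩ : θ.range) = QuotientGroup.quotientKerEquivRange θ (QuotientGroup.mk s) from rfl,
      MulEquiv.symm_apply_apply]
    rfl
  have hinj : Function.Injective ι' := by
    rw [injective_iff_map_eq_one]
    rintro ⟨z, s, rfl⟩ hz
    rw [hι'] at hz
    exact Subtype.ext ((hj s).1 hz)
  refine ⟨N, hNn, ι', ⟨hinj, fun P' hP' φ' hφ' => ⟨fun hmem => ?_, fun ⟨h, hh⟩ => ?_⟩⟩, ?_⟩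
  · obtain ⟨hP'', g, hg, hge⟩ := H49.factor_map hE (isMap_of_mem hmem)
    obtain ⟨hP, a, ha⟩ := (isMap_realized_iff hr).1 hg
    have haN : a ∈ N := by
      haveI : Finite Rι := inferInstance
      refine mem_normalizer_of_maps ?_
      rintro _ ⟨r, hr', rfl⟩
      obtain ⟨h, he⟩ := ha r (H89.ker_le_preimageAlong hE.2.1 hRS P' hr')
      exact ⟨⟨g r, h⟩, H89.mem_of_stronglyClosed hR hg
        (H89.ker_le_preimageAlong hE.2.1 hRS P' hr') hr', he⟩
    refine ⟨mk ⟨a, haN⟩, ?_⟩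
    rintro ⟨y, hy⟩
    obtain ⟨s, rfl⟩ := hP'' hy
    obtain ⟨hgs, hgse⟩ := hge s hy
    obtain ⟨h2, he2⟩ := ha s (H89.mem_preimageAlong.2 ⟨s.2, hy⟩)
    rw [hι' s]
    have e1 : (⟨φ' ⟨θ s, hy⟩, hφ' ⟨θ s, hy⟩⟩ : θ.range) = ⟨θ ⟨g s, hgs⟩, _, rfl⟩ :=
      Subtype.ext ((homFun_mem φ' hy).symm.trans hgse.symm)
    rw [e1, hι']
    show mk _ = mk _ * mk _ * (mk _)⁻¹
    rw [← map_inv, ← map_mul, ← map_mul]
    exact congrArg mk (Subtype.ext he2)
  · obtain ⟨n, rfl⟩ := QuotientGroup.mk'_surjective _ h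
    let g : Ω → Ω := fun w => bwdFun hr.1 ((n : G) * homFun ι w * (n : G)⁻¹)
    have hgs : ∀ s s' : S, ι s' = n * ι s * (n : G)⁻¹ → g s = s' := fun s s' e => by
      show bwdFun hr.1 ((n : G) * homFun ι (s : Ω) * (n : G)⁻¹) = s'
      rw [homFun_coe, ← e, bwdFun_apply]
    have hval : ∀ s : S, ∀ hs : θ s ∈ P', ∃ s' : S,
        ι s' = n * ι s * (n : G)⁻¹ ∧ θ s' = φ' ⟨θ s, hs⟩ := by
      intro s hs
      obtain ⟨s₀, hs₀⟩ := hφ' ⟨θ s, hs⟩
      have e := hh ⟨θ s, hs⟩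
      rw [hι' s, show (⟨φ' ⟨θ s, hs⟩, hφ' ⟨θ s, hs⟩⟩ : θ.range) = ⟨θ s₀, _, rfl⟩ from
        Subtype.ext hs₀.symm, hι' s₀] at e
      have e' : mk (ι.codRestrict N hιN s₀) = mk (n * ι.codRestrict N hιN s * n⁻¹) := by
        simp only [map_mul, map_inv]; exact e
      obtain ⟨r, hr', hre⟩ := QuotientGroup.eq.1 e'
      refine ⟨s₀ * r, ?_, ?_⟩
      · rw [map_mul]
        have : ι r = (ι s₀)⁻¹ * (n * ι s * (n : G)⁻¹) := hre
        rw [this, mul_inv_cancel_left]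
      · rw [map_mul, (hker r).2 hr', mul_one, hs₀]
    have hP : preimageAlong θ P' ≤ S := H89.preimageAlong_le _ _
    have hg : IsMap F (preimageAlong θ P') g := by
      refine (isMap_realized_iff hr).2 ⟨hP, n, fun s hs => ?_⟩
      obtain ⟨hsS, hs'⟩ := H89.mem_preimageAlong.1 hs
      obtain ⟨s', he, -⟩ := hval s hs'
      exact ⟨(hgs s s' he).symm ▸ s'.2, (congrArg ι (Subtype.ext (hgs s s' he))).trans he⟩
    refine mem_hom_iff_isMap.2 (H49.factor_map_of hE hR hP' hg fun s hs hgS => ?_)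
    obtain ⟨s', he, he'⟩ := hval s hs
    rw [homFun_mem φ' hs, ← he']
    exact congrArg θ (Subtype.ext (hgs s s' he))
  · have hTN : (T : Subgroup G) ≤ N := by rw [hTe]; rintro _ ⟨s, rfl⟩; exact hιN s
    refine ⟨(T.subtype hTN).mapSurjective (QuotientGroup.mk'_surjective _), ?_⟩
    rw [Sylow.coe_mapSurjective, Sylow.coe_subtype]
    ext z
    constructor
    · rintro ⟨n, hn, rfl⟩
      obtain ⟨s, hs⟩ : (n : G) ∈ ι.range := hTe ▸ Subgroup.mem_subgroupOf.1 hn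
      exact ⟨⟨θ s, s, rfl⟩, (hι' s).trans (congrArg mk (Subtype.ext hs))⟩
    · rintro ⟨⟨_, s, rfl⟩, rfl⟩
      exact ⟨⟨ι s, hιN s⟩, Subgroup.mem_subgroupOf.2 (hTe ▸ ⟨s, rfl⟩), (hι' s).symm⟩

end Cfsg.Agent.FusionSys
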