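import Cfsg.Agent.Fusion.CharIter
import Cfsg.Agent.FusionSys.GlauFunctor
import Cfsg.Agent.FusionSys.StableControl
import Cfsg.Agent.FusionSys.Centric
import Cfsg.Agent.FusionSys.RadicalNormalizer
import Cfsg.Agent.FusionSys.Normal
import Cfsg.Agent.Thompson.StrongFusion
import Cfsg.Agent.Thompson.SfourFusion

/-!
Systems without a given section, given a functor that is normal in all constrained groups without that
section: they are constrained, realizable and solvable.
-/

set_option autoImplicit false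
set_option linter.style.haveILetI false
set_option linter.unusedSectionVars false

namespace Cfsg.Agent.FusionSys

open Cfsg Cfsg.FusionSystem Set

universe u v

variable (p : ℕ) (X : Type v) [Group X]

/-- A self-centralising functor which is normal in every constrained group not involving `X`. -/
structure IsFreeFun (K : ∀ (Q : Type u) [Group Q], Subgroup Q) : Prop where
  map : ∀ (P Q : Type u) [Group P] [Group Q] (e : P ≃* Q), (K P).map e.toMonoidHom = K Q
  ne_bot : ∀ (Q : Type u) [Group Q] [Finite Q], IsPGroup p Q → Nontrivial Q → K Q ≠ ⊥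
  cent : ∀ (Q : Type u) [Group Q] [Finite Q], IsPGroup p Q →
    Subgroup.centralizer ((K Q : Subgroup Q) : Set Q) ≤ K Q
  normal : ∀ (L : Type u) [Group L] [Finite L] (P : Sylow p L),
    Subgroup.centralizer ((pCore p L : Subgroup L) : Set L) ≤ pCore p L → ¬ Involves X L →
      (((K ↥(P : Subgroup L)).map (P : Subgroup L).subtype : Subgroup L)).Normal

variable {p} {X}

theorem not_involves_subgroup {G : Type u} [Group G] (M : Subgroup G) (h : ¬ Involves X G) :
    ¬ Involves X M := fun hs =>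
  h (Thompson.hasSection_iff.1 ((Thompson.hasSection_iff.2 hs).of_injective M.subtype_injective))

theorem not_involves_quotient {G : Type u} [Group G] (N : Subgroup G) [N.Normal]
    (h : ¬ Involves X G) : ¬ Involves X (G ⧸ N) := fun hs =>
  h (Thompson.hasSection_iff.1
    ((Thompson.hasSection_iff.2 hs).of_surjective (QuotientGroup.mk'_surjective N)))

theorem involves_congr {Y : Type v} [Group Y] {G : Type u} [Group G] (e : X ≃* Y)
    (h : Involves X G) : Involves Y G := by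
  obtain ⟨K, R, hR, ⟨f⟩⟩ := h
  exact ⟨K, R, hR, ⟨f.trans e⟩⟩

/-- From an abelian functor which is normal, a self-centralising one. -/
theorem exists_freeFun_of_base [Fact p.Prime] {W : ∀ (Q : Type u) [Group Q], Subgroup Q}
    (hW : Fusion.CharIter.IsBase p W)
    (hn : ∀ (L : Type u) [Group L] [Finite L], ¬ Involves X L →
      Subgroup.centralizer ((pCore p L : Subgroup L) : Set L) ≤ pCore p L →
      ∀ S : Sylow p L, (inducedFunctor W (S : Subgroup L)).Normal) :
    ∃ K : ∀ (Q : Type u) [Group Q], Subgroup Q, IsFreeFun p X K :=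
  ⟨fun Q _ => Fusion.CharIter.kwFun hW Q, Fusion.CharIter.map_kwFun hW,
    Fusion.CharIter.kwFun_ne_bot hW, Fusion.CharIter.centralizer_kwFun_le hW,
    fun L _ _ P hc hf => Fusion.CharIter.kw_normal hW (fun G _ => ¬ Involves X G)
      (fun G _ _ M h => not_involves_subgroup M h) (fun G _ _ N _ h => not_involves_quotient N h)
      hn _ L hf hc P le_rfl⟩

/-- For an odd prime the iterate of `Z(J)` serves for `Qd(p)`. -/
theorem exists_freeFun_odd [Fact p.Prime] (hp : p ≠ 2) :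
    ∃ K : ∀ (Q : Type u) [Group Q], Subgroup Q, IsFreeFun p ↥(Cfsg.qd p) K := by
  refine exists_freeFun_of_base (W := fun Q _ => Fusion.Stable.zjFun Q)
    ⟨fun P Q _ _ e => Fusion.Stable.map_zjFun e,
      fun Q _ _ hQ hn => (Fusion.Stable.isCharPFunctor_zjFun p).1 Q hQ hn,
      fun Q _ a b ha hb => Thompson.zjay_comm ha hb⟩ fun L _ _ hf hc S => ?_
  rw [Fusion.Stable.inducedFunctor_zjFun]
  exact Thompson.zjay_normal (by omega) (Or.inl rfl) hc
    (Fusion.Stable.stableOnNormal_of_isNormalizerPStable (isNormalizerPStable_of_not_involves hp hf)) S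

theorem normal_iSup_of {G : Type*} [Group G] {ι : Sort*} {f : ι → Subgroup G}
    (h : ∀ i, (f i).Normal) : (⨆ i, f i).Normal := by
  refine ⟨fun n hn g => ?_⟩
  induction hn using Subgroup.iSup_induction' with
  | hp i x hx => exact Subgroup.mem_iSup_of_mem i ((h i).conj_mem x hx g)
  | h1 => simp
  | hmul x y _ _ hx hy =>
    have e : g * (x * y) * g⁻¹ = (g * x * g⁻¹) * (g * y * g⁻¹) := by group
    rw [e]; exact mul_mem hx hy

/-- The statement of the existence of Stellmacher's subgroup, for two-groups in universe `u`. -/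
def HasTwoFunctor : Prop :=
  ∀ (S : Type u) [Group S] [Finite S] [Nontrivial S], IsPGroup 2 S →
    ∃ W : Subgroup S, W ≠ ⊥ ∧ W.Characteristic ∧ ∀ (G : Type u) [Group G] [Finite G] (τ : S →* G),
      Function.Injective τ → (∃ P : Sylow 2 G, (P : Subgroup G) = τ.range) →
      (¬ ∃ (K R : Subgroup G) (hR : (R.subgroupOf K).Normal),
        Nonempty ((K ⧸ R.subgroupOf K) ≃* Equiv.Perm (Fin 4))) →
      Subgroup.centralizer (Cfsg.pCore 2 G : Set G) ≤ Cfsg.pCore 2 G → (W.map τ).Normal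

/-- `V` is normal in every constrained four-free group with the given Sylow subgroup. -/
def IsTwoGood (S : Type u) [Group S] (V : Subgroup S) : Prop :=
  ∀ (G : Type u) [Group G] [Finite G] (τ : S →* G), Function.Injective τ →
    (∃ P : Sylow 2 G, (P : Subgroup G) = τ.range) → ¬ Involves (Equiv.Perm (Fin 4)) G →
    Subgroup.centralizer (Cfsg.pCore 2 G : Set G) ≤ Cfsg.pCore 2 G → (V.map τ).Normal

/-- The largest such subgroup. -/
def twoMax (S : Type u) [Group S] : Subgroup S := ⨆ V : {V : Subgroup S // IsTwoGood S V}, V.1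

/-- Its centre. -/
def twoFun (S : Type u) [Group S] : Subgroup S :=
  twoMax S ⊓ Subgroup.centralizer ((twoMax S : Subgroup S) : Set S)

theorem isTwoGood_twoMax (S : Type u) [Group S] : IsTwoGood S (twoMax S) := by
  intro G _ _ τ hτ hP hf hc
  rw [twoMax, Subgroup.map_iSup]
  exact normal_iSup_of fun V : {V : Subgroup S // IsTwoGood S V} => V.2 G τ hτ hP hf hc

theorem map_twoMax (P Q : Type u) [Group P] [Group Q] (e : P ≃* Q) :
    (twoMax P).map e.toMonoidHom = twoMax Q := by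
  have key : ∀ (A B : Type u) [Group A] [Group B] (f : A ≃* B) (V : Subgroup A),
      IsTwoGood A V → IsTwoGood B (V.map f.toMonoidHom) := by
    intro A B _ _ f V hV G _ _ τ hτ hP hf hc
    rw [Subgroup.map_map]
    refine hV G (τ.comp f.toMonoidHom) (hτ.comp f.injective) ?_ hf hc
    obtain ⟨T, hT⟩ := hP
    exact ⟨T, hT.trans ((MonoidHom.range_comp τ f.toMonoidHom).trans (by rw [MonoidHom.range_eq_top.2 (show Function.Surjective f.toMonoidHom from f.surjective), ← MonoidHom.range_eq_map])).symm⟩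
  refine le_antisymm ?_ ?_
  · rw [twoMax, Subgroup.map_iSup]
    exact iSup_le fun V => le_iSup (fun V : {V : Subgroup Q // IsTwoGood Q V} => V.1)
      ⟨_, key P Q e V.1 V.2⟩
  · refine iSup_le fun V x hx => ⟨e.symm x, ?_, e.apply_symm_apply x⟩
    exact Subgroup.mem_iSup_of_mem (⟨_, key Q P e.symm V.1 V.2⟩ : {V : Subgroup P // IsTwoGood P V})
      ⟨x, hx, rfl⟩

theorem exists_freeFun_two (h : HasTwoFunctor.{u}) :
    ∃ K : ∀ (Q : Type u) [Group Q], Subgroup Q, IsFreeFun 2 (Equiv.Perm (Fin 4)) K := by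
  haveI : Fact (Nat.Prime 2) := ⟨Nat.prime_two⟩
  refine exists_freeFun_of_base (W := fun Q _ => twoFun Q) ⟨fun P Q _ _ e => ?_, fun Q _ _ hQ hn => ?_,
    fun Q _ a b ha hb => Subgroup.mem_centralizer_iff.1 hb.2 a ha.1⟩ fun L _ _ hf hc S => ?_
  · show (twoFun P).map e.toMonoidHom = twoFun Q
    rw [twoFun, twoFun, Subgroup.map_inf _ _ _ e.injective, Fusion.Stable.map_centralizer_equiv,
      map_twoMax]
  · haveI := hn
    obtain ⟨W, hW1, -, hW3⟩ := h Q hQ
    have hle : W ≤ twoMax Q := le_iSup (fun V : {V : Subgroup Q // IsTwoGood Q V} => V.1)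
      ⟨W, fun G _ _ τ hτ hP hf hc => hW3 G τ hτ hP hf hc⟩
    intro h0
    haveI : Nontrivial ↥(twoMax Q) := (Subgroup.nontrivial_iff_ne_bot _).2 fun hb =>
      hW1 (le_bot_iff.1 (hb ▸ hle))
    refine (hQ.to_subgroup (twoMax Q)).bot_lt_center.ne' ((Subgroup.eq_bot_iff_forall _).2 fun x hx => ?_)
    have hm : (x : Q) ∈ twoFun Q := ⟨x.2, Subgroup.mem_centralizer_iff.2 fun y hy =>
      congrArg Subtype.val (Subgroup.mem_center_iff.1 hx ⟨y, hy⟩)⟩
    rw [h0] at hm
    exact Subtype.ext (Subgroup.mem_bot.1 hm)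
  · set P := (S : Subgroup L)
    have hM : ((twoMax ↥P).map P.subtype).Normal :=
      isTwoGood_twoMax ↥P L P.subtype P.subtype_injective ⟨S, P.range_subtype.symm⟩ hf hc
    show ((twoFun ↥P).map P.subtype).Normal
    refine ⟨fun x hx g => ?_⟩
    obtain ⟨y, ⟨hy1, hy2⟩, rfl⟩ := hx
    obtain ⟨z, hz, hzy⟩ := hM.conj_mem _ ⟨y, hy1, rfl⟩ g
    refine ⟨z, ⟨hz, Subgroup.mem_centralizer_iff.2 fun w hw => ?_⟩, hzy⟩
    obtain ⟨w', hw', hwe⟩ := hM.conj_mem _ ⟨w, hw, rfl⟩ g⁻¹
    have hc' := congrArg Subtype.val (Subgroup.mem_centralizer_iff.1 hy2 w' hw')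
    refine P.subtype_injective ?_
    have e1 : (w : L) = g * (w' : L) * g⁻¹ := by
      rw [show (w' : L) = g⁻¹ * w * g⁻¹⁻¹ from hwe]; group
    have e2 : (z : L) = g * (y : L) * g⁻¹ := hzy
    show (w : L) * z = z * w
    rw [e1, e2]
    calc g * (w' : L) * g⁻¹ * (g * y * g⁻¹) = g * ((w' : L) * y) * g⁻¹ := by group
      _ = g * ((y : L) * w') * g⁻¹ := by rw [show (w' : L) * y = y * w' from hc']
      _ = g * (y : L) * g⁻¹ * (g * w' * g⁻¹) := by group

variable {Ω : Type u} [Group Ω] {S : Subgroup Ω} [Finite S] [Fact p.Prime]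
  {F : FusionSystem S} {K : ∀ (Q : Type u) [Group Q], Subgroup Q}

theorem isNormal_freeFun (hK : IsFreeFun p X K) (hS : IsPGroup p S) (hF : F.IsSaturated p)
    (hfree : F.IsSectionFree p X) : F.IsNormal ((K ↥S).map S.subtype) :=
  isNormal_functor hK.ne_bot (fun Q R _ _ _ _ φ => hK.map Q R φ) hK.normal hfree hS hF

theorem isConstrained_freeFun (hK : IsFreeFun p X K) (hS : IsPGroup p S) (hF : F.IsSaturated p)
    (hfree : F.IsSectionFree p X) : F.IsConstrained p := by
  have hn := isNormal_freeFun hK hS hF hfree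
  refine ⟨hF, _, hn, hn.1, fun R hR x hx => ?_⟩
  obtain ⟨f, hf⟩ := isConj_iff.1 hR
  have hRe : R = (K ↥S).map S.subtype := by
    obtain ⟨g, -, he, hi⟩ := (isNormal_iff.1 hn).2 _ _ hf.isMap
    refine SetLike.coe_injective ?_
    rw [← hf.image_eq, ← Set.image_congr fun y hy => he y hy, hi]
  subst hRe
  obtain ⟨hxS, hxc⟩ := mem_centralizerIn.1 hx
  refine ⟨⟨x, hxS⟩, hK.cent _ hS (Subgroup.mem_centralizer_iff.2 fun z hz => ?_), rfl⟩
  exact Subtype.ext (Subgroup.mem_centralizer_iff.1 hxc _ ⟨z, hz, rfl⟩)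

/-- The induced functor on subgroups. -/
def subFun (K : ∀ (Q : Type u) [Group Q], Subgroup Q) (G : Type u) [Group G] (P : Subgroup G) :
    Subgroup G := (K ↥P).map P.subtype

theorem isPFunctor_subFun (hK : IsFreeFun p X K) : Thompson.IsPFunctor p (subFun K) := by
  refine ⟨fun G _ _ P _ => Subgroup.map_subtype_le _, fun G _ _ P hP hne h => ?_,
    fun G H _ _ _ f P _ hf => ?_⟩
  · exact hK.ne_bot ↥P hP ((Subgroup.nontrivial_iff_ne_bot _).2 hne)
      ((Subgroup.map_eq_bot_iff_of_injective _ P.subtype_injective).1 h)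
  · let φ : ↥P →* ↥(P.map f) := (f.comp P.subtype).codRestrict _ fun x => ⟨x, x.2, rfl⟩
    have hφ : Function.Bijective φ := ⟨fun a b h => hf (congrArg Subtype.val h), by
      rintro ⟨_, x, hx, rfl⟩; exact ⟨⟨x, hx⟩, rfl⟩⟩
    have h := hK.map ↥P ↥(P.map f) (MulEquiv.ofBijective φ hφ)
    show (K ↥(P.map f)).map (P.map f).subtype = ((K ↥P).map P.subtype).map f
    rw [← h, Subgroup.map_map, Subgroup.map_map]
    rfl

/-- In a realized system over a Sylow subgroup of a free group the functor gives a normal subgroup. -/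
theorem core_ne_bot_realized_free (hK : IsFreeFun p X K) {Ω' : Type u} [Group Ω'] {S' : Subgroup Ω'}
    [Finite S'] (hS : IsPGroup p S') (hne : S' ≠ ⊥) {E : FusionSystem S'} {G : Type u} [Group G]
    [Finite G] {ι : S' →* G} (hr : E.IsRealizedBy ι)
    (hT : ∃ T : Sylow p G, (T : Subgroup G) = ι.range) (hfree : ¬ Involves X G) : E.core ≠ ⊥ := by
  obtain ⟨T, hTe⟩ := hT
  have hctl := Thompson.strongFusion_of_constrained (isPFunctor_subFun hK)
    (fun H _ => ¬ Involves X H) (fun H _ _ M h => not_involves_subgroup M h)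
    (fun H _ _ N _ h => not_involves_quotient N h)
    (fun H _ _ h hc R => hK.normal H R hc h) _ G le_rfl hfree T
  set V := ((subFun K G ι.range).comap ι).map S'.subtype with hV
  have hVS : V ≤ S' := Subgroup.map_subtype_le _
  have hKle : subFun K G ι.range ≤ ι.range := Subgroup.map_subtype_le _
  have hVn : E.IsNormal V := by
    refine isNormal_iff.2 ⟨hVS, fun P f hf => ?_⟩
    obtain ⟨hP, g, hg⟩ := (isMap_realized_iff hr).1 hf
    obtain ⟨x, hx, hxe⟩ := hctl (((P.subgroupOf S').map ι : Subgroup G) : Set G) g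
      (by rw [hTe]; rintro _ ⟨s, -, rfl⟩; exact ⟨s, rfl⟩)
      (by
        rintro _ ⟨_, ⟨s, hs, rfl⟩, rfl⟩
        obtain ⟨h, he⟩ := hg s hs
        rw [hTe]
        exact ⟨⟨f s, h⟩, he⟩)
    rw [hTe] at hx
    let ψ : Ω' → Ω' := fun w => bwdFun hr.1 (x * homFun ι w * x⁻¹)
    have hψ : ∀ s s' : S', ι s' = x * ι s * x⁻¹ → ψ s = s' := fun s s' e => by
      show bwdFun hr.1 (x * homFun ι (s : Ω') * x⁻¹) = s'
      rw [homFun_coe, ← e, bwdFun_apply]
    have hK' : ∀ s : S', (s : Ω') ∈ V → ∃ s' : S', (s' : Ω') ∈ V ∧ ι s' = x * ι s * x⁻¹ := by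
      rintro s ⟨s₀, hs₀, e⟩
      obtain rfl : s₀ = s := Subtype.ext e
      have h := (Subgroup.mem_normalizer_iff.1 hx (ι s₀)).1 hs₀
      obtain ⟨s', hs'⟩ := hKle h
      exact ⟨s', ⟨s', show ι s' ∈ _ from hs' ▸ h, rfl⟩, hs'⟩
    have hle : P ⊔ V ≤ ((ι.range.comap ((MulAut.conj x).toMonoidHom.comp ι))).map S'.subtype := by
      refine sup_le (fun w hw => ?_) fun w hw => ?_
      · obtain ⟨h, he⟩ := hg ⟨w, hP hw⟩ hw
        exact ⟨⟨w, hP hw⟩, ⟨⟨f w, h⟩, he.trans (hxe _ ⟨⟨w, hP hw⟩, hw, rfl⟩).symm⟩, rfl⟩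
      · obtain ⟨s', -, he⟩ := hK' ⟨w, hVS hw⟩ hw
        exact ⟨⟨w, hVS hw⟩, ⟨s', he⟩, rfl⟩
    have hmap : IsMap E (P ⊔ V) ψ := by
      refine (isMap_realized_iff hr).2 ⟨sup_le hP hVS, x, fun w hw => ?_⟩
      obtain ⟨w', ⟨s', he⟩, hwe⟩ := hle hw
      obtain rfl : w' = w := Subtype.ext hwe
      exact ⟨(hψ w' s' he).symm ▸ s'.2, (congrArg ι (Subtype.ext (hψ w' s' he))).trans he⟩
    refine ⟨ψ, hmap, fun w hw => ?_, ?_⟩
    · obtain ⟨h, he⟩ := hg ⟨w, hP hw⟩ hw
      exact hψ ⟨w, hP hw⟩ ⟨f w, h⟩ (he.trans (hxe _ ⟨⟨w, hP hw⟩, hw, rfl⟩).symm)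
    · haveI := finite_of_le hVS
      refine (hmap.mono le_sup_right).image_eq_of_mapsTo fun w hw => ?_
      obtain ⟨s', hs', he⟩ := hK' ⟨w, hVS hw⟩ hw
      exact (hψ ⟨w, hVS hw⟩ s' he).symm ▸ hs'
  intro h
  have hV0 : V = ⊥ := le_bot_iff.1 (h ▸ le_sSup hVn)
  have hι : ι.range ≠ ⊥ := by
    intro hb
    refine hne ((Subgroup.eq_bot_iff_forall _).2 fun w hw => ?_)
    have h1 : ι ⟨w, hw⟩ = 1 := Subgroup.mem_bot.1 (hb ▸ ⟨_, rfl⟩)
    exact congrArg Subtype.val (hr.1 (h1.trans (map_one ι).symm))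
  refine (isPFunctor_subFun hK).ne_bot G ι.range (hS.of_surjective _ ι.rangeRestrict_surjective) hι
    ((Subgroup.eq_bot_iff_forall _).2 fun y hy => ?_)
  obtain ⟨s, rfl⟩ := hKle hy
  have hs : (s : Ω') ∈ V := ⟨s, hy, rfl⟩
  rw [hV0, Subgroup.mem_bot] at hs
  rw [show s = 1 from Subtype.ext hs, map_one]

theorem isRealizedBy_congr {T : Subgroup Ω} (hST : T = S) (E : FusionSystem T)
    (hE : ∀ P, E.Hom P = F.Hom P) {G : Type u} [Group G] {ι : T →* G} (hm : E.IsModel p G ι) :
    ∃ ι' : S →* G, F.IsModel p G ι' := by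
  subst hST
  refine ⟨ι, hm.1, ⟨hm.2.1.1, fun P hP φ hφ => ?_⟩, hm.2.2⟩
  rw [← hE P]
  exact hm.2.1.2 P hP φ hφ

/-- A constrained free system has a free model. -/
theorem exists_free_model (hS : IsPGroup p S) (hF : F.IsConstrained p)
    (hfree : F.IsSectionFree p X) :
    ∃ (G : Type u) (_ : Group G) (ι : S →* G), F.IsModel p G ι ∧ ¬ Involves X G := by
  have hQn := Cfsg.Agent.H89.isNormal_core F
  have hQS : F.core ≤ S := hQn.1
  have hQc := isCentric_core hF
  obtain ⟨hsn, hcl⟩ := stronglyClosed_iff.1 (stronglyClosed_of_isNormal hQn)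
  have hN : ∀ R : Subgroup Ω, F.IsConj F.core R → normalizerIn S R ≤ S := fun _ _ => normalizerIn_le
  have hSN : normalizerIn S F.core = S := le_antisymm normalizerIn_le
    (le_inf le_rfl (le_normalizer_of_isNormal hQn))
  have hfn : F.IsFullyNormalized F.core := ⟨hQS, fun R hR => by
    rw [hSN]
    exact Subgroup.card_le_of_le normalizerIn_le⟩
  obtain ⟨E, hE⟩ := exists_normalizerSystem F hQS
  have hEhom : ∀ P, E.Hom P = F.Hom P := by
    intro P
    rw [hE P]
    refine Set.eq_of_subset_of_subset (fun φ hφ => hφ.1) fun φ hφ => ?_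
    have hP : P ≤ S := (F.le_of_mem hφ).1
    refine ⟨hφ, hP.trans hSN.ge, fun x => ?_, hQn.2 P φ hφ⟩
    rw [hSN]
    exact (F.le_of_mem hφ).2 x
  haveI : Finite ↥(normalizerIn S F.core) := finite_of_le (S := S) normalizerIn_le
  let D : Setup E p := ⟨F.core, hS.to_le normalizerIn_le, isSaturated_normalizer hS hF.1 hfn hE,
    (isKSys_normalizer_iff.1 hE).isNormal_self (le_normalizerIn_self hQS),
    isCentric_normalizerSystem hQc hE⟩
  have hL : ¬ Involves X D.Model := hfree F.core hfn hQc E hE D.Model D.iota D.isModel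
  obtain ⟨ι, hι⟩ := isRealizedBy_congr hSN E hEhom D.isModel
  exact ⟨D.Model, inferInstance, ι, hι, hL⟩

theorem realizable_solvable_free (hK : IsFreeFun p X K) (hS : IsPGroup p S) (hF : F.IsSaturated p)
    (hfree : F.IsSectionFree p X) : F.IsRealizable p ∧ F.IsSolvableSystem := by
  have hc := isConstrained_freeFun hK hS hF hfree
  obtain ⟨G, _, ι, hG, hGf⟩ := exists_free_model hS hc hfree
  haveI := hG.1
  refine ⟨⟨G, inferInstance, hG.1, ι, hG.2.1, hG.2.2.1⟩, fun R hR hRS _ E hE => ?_⟩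
  obtain ⟨N, hN, ι', hr', hT'⟩ := exists_realized_factor hG.2.1 hG.2.2.1 hR hE
  haveI : Finite ↥(⊤ : Subgroup (↥S ⧸ R.subgroupOf S)) := inferInstance
  refine core_ne_bot_realized_free hK
    ((hS.to_quotient (R.subgroupOf S)).to_subgroup ⊤) ?_ hr' hT'
    (not_involves_quotient _ (not_involves_subgroup N hGf))
  intro htop
  refine hRS (le_antisymm hR.1 fun x hx => ?_)
  have h1 : QuotientGroup.mk' (R.subgroupOf S) ⟨x, hx⟩ = 1 :=
    Subgroup.mem_bot.1 (htop ▸ Subgroup.mem_top _)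
  exact ((QuotientGroup.eq_one_iff (⟨x, hx⟩ : S)).1 h1 :)

end Cfsg.Agent.FusionSys
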