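import Cfsg.Agent.FusionSys.KSub
import Cfsg.Agent.H89.Join

/-!
Control of a saturated system by a characteristic functor: if in every local automizer `W` of the Sylow subgroup
is invariant, then `W(S)` is normal. The functor is relative to a normal subgroup `C` on which the
automizers act as `p`-groups; this replaces the passage to factor systems.
-/

set_option autoImplicit false

namespace Cfsg.Agent.FusionSys

open Cfsg Cfsg.FusionSystem Set

universe u

variable {Ω : Type u} [Group Ω] {S : Subgroup Ω}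

/-- A functor `W C R` on subgroups `R` containing `C`, equivariant for the maps of `F` stabilizing `C`. -/
structure IsWFun (F : FusionSystem S) (W : Subgroup Ω → Subgroup Ω → Subgroup Ω) : Prop where
  le : ∀ C R, C ≤ R → R ≤ S → W C R ≤ R
  lt : ∀ (C R : Subgroup Ω), C < R → R ≤ S → R ≤ Subgroup.normalizer (C : Set Ω) → C < W C R
  bot_le : ∀ C R, C ≤ R → R ≤ S → C ≤ W C R
  equivariant : ∀ (C R : Subgroup Ω) (f : Ω → Ω), C ≤ R → R ≤ Subgroup.normalizer (C : Set Ω) → IsMap F R f →
    (∀ x ∈ C, f x ∈ C) → imgSub f (W C R) = W C (imgSub f R)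

/-- The local hypothesis on `W`: automizers which act on `C` as `p`-groups extend over `W C R`. -/
def LocalHyp (F : FusionSystem S) (p : ℕ) (W : Subgroup Ω → Subgroup Ω → Subgroup Ω) : Prop :=
  ∀ (C R Q : Subgroup Ω) (A : Subgroup (MulAut Q)), C ≤ Q → Q ≤ R → R ≤ S → F.IsCentric Q →
    R ≤ Subgroup.normalizer (Q : Set Ω) → R ≤ Subgroup.normalizer (C : Set Ω) →
    A ≤ F.autGroup Q → autInducedBy R Q ≤ A → ¬ p ∣ (autInducedBy R Q).relIndex A →
    (∀ α ∈ A, ∀ x ∈ C, autMap α x ∈ C) →
    (∀ α ∈ A, ∃ n : ℕ, ∀ x ∈ C, autMap (α ^ p ^ n) x = x) →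
    ∀ α ∈ A, ∃ g, IsMap F (W C R ⊔ Q) g ∧ (∀ x ∈ Q, g x = autMap α x) ∧
      ∀ x ∈ W C R, g x ∈ W C R

/-- The subsystems to which the induction applies. -/
structure Inherits {T : Subgroup Ω} (F : FusionSystem S) (p : ℕ) (E : FusionSystem T) : Prop where
  le : T ≤ S
  sat : E.IsSaturated p
  sub : ∀ P f, IsMap E P f → IsMap F P f
  centric : ∀ Q, E.core ≤ Q → E.IsCentric Q → F.IsCentric Q

variable [Finite S] {p : ℕ} [Fact p.Prime] {F : FusionSystem S}
  {W : Subgroup Ω → Subgroup Ω → Subgroup Ω}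

section InSubsystem

variable {T : Subgroup Ω} {E : FusionSystem T} (hS : IsPGroup p S) (hF : F.IsSaturated p)
  (hW : IsWFun F W) (hyp : LocalHyp F p W) (hI : Inherits F p E) {C : Subgroup Ω} (hC : E.IsNormal C)
  (hCp : IsPGroup p (E.autGroup C))

include hW hI hC in
theorem normalizes_W {R : Subgroup Ω} (hCR : C ≤ R) (hRT : R ≤ T) {x : Ω} (hx : x ∈ T)
    (hn : x ∈ Subgroup.normalizer (R : Set Ω)) :
    x ∈ Subgroup.normalizer (W C R : Set Ω) := by
  have hT := hI.le
  haveI := finite_of_le (hRT.trans hT)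
  haveI := finite_of_le ((hW.le C R hCR (hRT.trans hT)).trans (hRT.trans hT))
  refine mem_normalizer_of_maps fun y hy => ?_
  have hm := isMap_conj F (hRT.trans hT) (hT hx)
  have hCn := le_normalizer_of_isNormal hC
  have himg : imgSub (conjMap x) R = R :=
    (isIso_of_mapsTo hm fun z hz => (Subgroup.mem_normalizer_iff.1 hn z).1 hz).eq_imgSub.symm
  have h := hW.equivariant C R (conjMap x) hCR (hRT.trans hCn) hm
    fun z hz => (Subgroup.mem_normalizer_iff.1 (hCn hx) z).1 hz
  rw [himg] at h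
  rw [← h]
  exact (hm.mono (hW.le C R hCR (hRT.trans hT))).mem_imgSub.2 ⟨y, hy, rfl⟩

include hS hF hW hyp hI hC hCp in
/-- Automorphisms of a fully normalized centric `Q` extend in `E` over `W C (N_T(Q))`. -/
theorem exists_local_extension {Q : Subgroup Ω} (hCQ : C ≤ Q) (hQn : E.IsFullyNormalized Q)
    (hQc : F.IsCentric Q) {α : MulAut Q} (hα : α ∈ E.autGroup Q) :
    ∃ g, IsMap E (W C (normalizerIn T Q) ⊔ Q) g ∧ (∀ x ∈ Q, g x = autMap α x) ∧
      ∀ x ∈ W C (normalizerIn T Q), g x ∈ W C (normalizerIn T Q) := by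
  have hT := hI.le
  haveI := finite_of_le hT
  have hTp : IsPGroup p T := hS.to_le hT
  have hQT := hQn.1
  set R := normalizerIn T Q with hR
  have hRT : R ≤ T := normalizerIn_le
  have hCR : C ≤ R := hCQ.trans (le_normalizerIn_self hQT)
  have hWR := hW.le C R hCR (hRT.trans hT)
  have hCT := hC.1
  haveI := finite_of_le hCT
  have hsc := stronglyClosed_iff.1 (stronglyClosed_of_isNormal hC)
  have hA : (∀ a ∈ E.autGroup Q, ∀ x ∈ C, autMap a x ∈ C) := fun a ha =>
    hsc.2 C _ le_rfl (((mem_autGroup_iff hQT).1 ha).mono hCQ)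
  have hAp : ∀ a ∈ E.autGroup Q, ∃ n : ℕ, ∀ x ∈ C, autMap (a ^ p ^ n) x = x := by
    intro a ha
    obtain ⟨β, hβ, hβe⟩ := (isIso_of_mapsTo (((mem_autGroup_iff hQT).1 ha).mono hCQ) (hA a ha)).exists_aut
    have hpow : ∀ (m : ℕ), ∀ x ∈ C, autMap (a ^ m) x = autMap (β ^ m) x := by
      intro m
      induction m with
      | zero => intro x hx; rw [pow_zero, pow_zero, autMap_one (hCQ hx), autMap_one hx]
      | succ m ih =>
        intro x hx
        rw [pow_succ, pow_succ, autMap_mul _ _ (hCQ hx), autMap_mul _ _ hx, ← hβe x hx,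
          ih _ (autMap_mem β hx)]
    obtain ⟨n, hn⟩ := hCp ⟨β, hβ⟩
    refine ⟨n, fun x hx => ?_⟩
    rw [hpow _ x hx, show β ^ p ^ n = 1 from congrArg Subtype.val hn, autMap_one hx]
  have hRA : autInducedBy R Q ≤ E.autGroup Q := fun a ha => by
    obtain ⟨x, hx, hxn, rfl⟩ := mem_autInducedBy.1 ha
    exact conjAut_mem_autGroup E hQT hx
  have hsyl : ¬ p ∣ (autInducedBy R Q).relIndex (E.autGroup Q) := by
    have heq : autInducedBy R Q = autInducedBy T Q := by
      ext a
      rw [mem_autInducedBy, mem_autInducedBy]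
      exact ⟨fun ⟨x, hx, hxn, he⟩ => ⟨x, hx.1, hxn, he⟩, fun ⟨x, hx, hxn, he⟩ => ⟨x, ⟨hx, hxn⟩, hxn, he⟩⟩
    rw [heq]
    exact ((isFullyAutomized_iff hTp).1 (isFullyAutomized_of_isFullyNormalized hTp hI.sat hQn)).2
  obtain ⟨g, hg, hge, hgW⟩ := hyp C R Q (E.autGroup Q) hCQ (le_normalizerIn_self hQT) (hRT.trans hT) hQc
    inf_le_right (hRT.trans (le_normalizer_of_isNormal hC))
    (fun a ha => mem_autGroup_of_isMap (hI.sub _ _ ((mem_autGroup_iff hQT).1 ha)))
    hRA hsyl hA hAp α hα
  obtain ⟨g', hg', hge'⟩ := receptive_extend (receptive_of_isFullyNormalized hTp hI.sat hQn)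
    (isIso_autMap hQT hα) (N := W C R) fun x hx => by
      refine ⟨hRT (hWR hx), (hWR hx).2, g x, hRT (hWR (hgW x hx)), fun y hy => ?_⟩
      have hy' := (Subgroup.mem_normalizer_iff.1 (hWR hx).2 y).1 hy
      rw [← hge _ hy', ← hge y hy, hg.map_conj (Subgroup.mem_sup_left hx) (Subgroup.mem_sup_right hy)]
  obtain ⟨z, hz, -, hze⟩ := exists_center_twist hS hF (le_sup_right : Q ≤ W C R ⊔ Q) hQc hg
    (hI.sub _ _ hg') fun x hx => (hge x hx).trans (hge' x hx).symm
  refine ⟨g', hg', hge', fun x hx => ?_⟩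
  rw [hze x (Subgroup.mem_sup_left hx)]
  exact hgW _ ((Subgroup.mem_normalizer_iff.1
    (normalizes_W hW hI hC hCR hRT (hQT hz) (Subgroup.le_normalizer (le_normalizerIn_self hQT hz))) x).1 hx)

include hS hF hW hyp hI hC hCp in
/-- If `core E` is centric then `W C T` is normal in `E`. -/
theorem isNormal_of_centric_core (hCT : C ≤ T) (hD : E.IsCentric E.core) : E.IsNormal (W C T) := by
  have hT := hI.le
  haveI := finite_of_le hT
  have hTp : IsPGroup p T := hS.to_le hT
  set D := E.core with hDdef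
  have hDn : E.IsNormal D := Cfsg.Agent.H89.isNormal_core E
  have hCD : C ≤ D := Cfsg.Agent.H89.le_core E hC
  have hn := le_normalizer_of_isNormal hDn
  have hRD : normalizerIn T D = T := le_antisymm normalizerIn_le fun x hx => ⟨hx, hn hx⟩
  have hDfn : E.IsFullyNormalized D := ⟨hDn.1, fun R _ => by
    rw [hRD]; exact Subgroup.card_le_of_le normalizerIn_le⟩
  set V := W C T
  have hVT : V ≤ T := hW.le C T hCT hT
  haveI := finite_of_le hVT
  haveI := finite_of_le hDn.1
  refine isNormal_iff.2 ⟨hVT, fun P f hf => ?_⟩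
  obtain ⟨-, hDx⟩ := isNormal_iff.1 hDn
  obtain ⟨f', hf', hf'e, hf'D⟩ := hDx P f hf
  have hiso : IsIso E D D f' := ⟨hf'.mono le_sup_right, hf'D⟩
  obtain ⟨α, hα, hαe⟩ := hiso.exists_aut
  obtain ⟨g, hg, hge, hgV⟩ := exists_local_extension hS hF hW hyp hI hC hCp hCD hDfn
    (hI.centric D le_rfl hD) hα
  rw [hRD] at hg hgV
  obtain ⟨φ, -, hφf⟩ := hiso.isMap
  have hN : P ⊔ D ⊔ V ≤ extender T D φ := sup_le
    (fun x hx => (mem_extender_iff hφf).2
      (hf'.inExt_of_extends le_sup_right (fun _ _ => rfl) hx (hn (hf'.le hx))))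
    fun x hx => (mem_extender_iff hφf).2 (hg.inExt_of_extends le_sup_right
      (fun y hy => (hge y hy).trans (hαe y hy)) (Subgroup.mem_sup_left hx) (hn (hVT hx)))
  obtain ⟨h, hh, hhe⟩ := receptive_extend (receptive_of_isFullyNormalized hTp hI.sat hDfn) hiso
    (N := P ⊔ D ⊔ V) fun x hx => (mem_extender_iff hφf).1 (hN hx)
  have hh' : IsMap E (P ⊔ D ⊔ V) h := hh.mono le_sup_left
  have hVn : ∀ z ∈ D, ∀ x ∈ V, z * x * z⁻¹ ∈ V := fun z hz x hx =>
    (Subgroup.mem_normalizer_iff.1
      (normalizes_W hW hI hC hCT le_rfl (hDn.1 hz) (Subgroup.le_normalizer (hDn.1 hz))) x).1 hx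
  obtain ⟨z, hz, -, hze⟩ := exists_center_twist hTp hI.sat (le_sup_right : D ≤ V ⊔ D) hD
    hg (hh'.mono (sup_le le_sup_right (le_sup_right.trans le_sup_left)))
    fun x hx => ((hge x hx).trans (hαe x hx)).trans (hhe x hx).symm
  have hhV : ∀ x ∈ V, h x ∈ V := fun x hx => by
    rw [hze x (Subgroup.mem_sup_left hx)]
    exact hgV _ (hVn z hz x hx)
  obtain ⟨w, hw, -, hwe⟩ := exists_center_twist hTp hI.sat (le_sup_right : D ≤ P ⊔ D) hD
    (hh'.mono le_sup_left) hf' fun x hx => hhe x hx
  refine ⟨h ∘ conjMap w, ((isMap_conj E hh'.le (hDn.1 hw)).comp hh' fun x hx => ?_).mono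
    (sup_le (le_sup_left.trans le_sup_left) le_sup_right), fun x hx => ?_, ?_⟩
  · have hw' : w ∈ P ⊔ D ⊔ V := Subgroup.mem_sup_left (Subgroup.mem_sup_right hw)
    exact mul_mem (mul_mem hw' hx) (inv_mem hw')
  · rw [Function.comp_apply, conjMap_apply, ← hwe x (Subgroup.mem_sup_left hx), hf'e x hx]
  · refine (((isMap_conj E hh'.le (hDn.1 hw)).comp hh' fun x hx => ?_).mono
      le_sup_right).image_eq_of_mapsTo fun x hx => hhV _ (hVn w hw x hx)
    have hw' : w ∈ P ⊔ D ⊔ V := Subgroup.mem_sup_left (Subgroup.mem_sup_right hw)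
    exact mul_mem (mul_mem hw' hx) (inv_mem hw')

end InSubsystem

/-- The theorem for all subsystems satisfying the inheritance condition. -/
theorem isNormal_W_sub (hS : IsPGroup p S) (hF : F.IsSaturated p) (hW : IsWFun F W)
    (hyp : LocalHyp F p W) :
    ∀ (n : ℕ) (T : Subgroup Ω) (E : FusionSystem T), (mapSet E).ncard = n → Inherits F p E →
      ∀ C : Subgroup Ω, E.IsNormal C → IsPGroup p (E.autGroup C) → E.IsNormal (W C T) := by
  intro n
  induction n using Nat.strong_induction_on with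
  | _ n ih =>
  intro T E hn hI
  have hT := hI.le
  haveI := finite_of_le hT
  have hTp : IsPGroup p T := hS.to_le hT
  set D := E.core with hDdef
  have hDn : E.IsNormal D := Cfsg.Agent.H89.isNormal_core E
  haveI := finite_of_le hDn.1
  have hDN := le_normalizer_of_isNormal hDn
  have hRD : normalizerIn T D = T := le_antisymm normalizerIn_le fun x hx => ⟨hx, hDN hx⟩
  have hDfn : E.IsFullyNormalized D := ⟨hDn.1, fun R _ => by
    rw [hRD]; exact Subgroup.card_le_of_le normalizerIn_le⟩
  intro C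
  induction hk : Nat.card T - Nat.card C using Nat.strong_induction_on generalizing C with
  | _ k ihC =>
  intro hC hCp
  have hCT := hC.1
  haveI := finite_of_le hCT
  have hCD : C ≤ D := Cfsg.Agent.H89.le_core E hC
  have hWT : W C T ≤ T := hW.le C T hCT hT
  by_cases hDc : E.IsCentric D
  · exact isNormal_of_centric_core hS hF hW hyp hI hC hCp hCT hDc
  have hDlt : D < T := lt_of_le_of_ne hDn.1 fun he => hDc (he.symm ▸ isCentric_S E)
  -- a subsystem with the same maps fixing everything we need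
  have sub : ∀ (Q : Subgroup Ω) (K : Subgroup (MulAut Q)) (T' : Subgroup Ω) (E' : FusionSystem T'),
      IsKSys E K E' → E'.IsSaturated p → D ≤ Q → Q ≤ T' →
      (∃ P f, IsMap E P f ∧ ¬ IsMap E' P f) →
      (∀ R, Q ≤ R → E'.IsCentric R → E.IsCentric R) →
      ∀ C', E.IsNormal C' → IsPGroup p (E.autGroup C') → C' ≤ D → E'.IsNormal (W C' T') := by
    intro Q K T' E' hK hsat hDQ hQT' hne hcen C' hC' hC'p hC'D
    have hlt := hn ▸ ncard_mapSet_lt (fun P f => hK.isMap_le) hne
    have hC'n : E'.IsNormal C' := hK.isNormal hQT' (hC'D.trans hDQ) (stronglyClosed_of_isNormal hC')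
    refine ih _ hlt T' E' rfl ⟨hK.le.trans hT, hsat, fun P f hf => hI.sub P f (hK.isMap_le hf), ?_⟩
      C' hC'n (hC'p.to_le (hK.autGroup_le (hC'D.trans (hDQ.trans hQT'))))
    intro R hR hRc
    have hQR : Q ≤ R :=
      le_trans (Cfsg.Agent.H89.le_core E' (hK.isNormal_self hQT')) hR
    exact hI.centric R (hDQ.trans hQR) (hcen R hQR hRc)
  have hcenV : ∀ Q : Subgroup Ω, D ≤ Q → Q ≤ T → ∀ (T' : Subgroup Ω) (E' : FusionSystem T'),
      E.IsFullyNormalized Q → IsKSys E (⊤ : Subgroup (MulAut Q)) E' →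
      ∀ R, Q ≤ R → E'.IsCentric R → E.IsCentric R :=
    fun Q _ _ T' E' hQn hK R hQR hR => isCentric_of_kSys_top hTp hI.sat hQn hK hQR hR
  set V := W C T with hV
  set U := D ⊔ centralizerIn T D with hU
  have hUT : U ≤ T := sup_le hDn.1 centralizerIn_le
  haveI := finite_of_le hUT
  haveI := finite_of_le hWT
  have hUn : T ≤ Subgroup.normalizer (U : Set Ω) := fun x hx => mem_normalizer_of_maps fun y hy =>
    (isMap_conj E hUT hx).mapsTo_sup
      (fun a ha => Subgroup.mem_sup_left ((Subgroup.mem_normalizer_iff.1 (hDN hx) a).1 ha))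
      (fun a ha => Subgroup.mem_sup_right (mem_centralizerIn_image hDn.1
        (fun q hq => (Subgroup.mem_normalizer_iff.1 (hDN hx) q).1 hq)
        (isMap_conj E hUT hx) le_sup_left (Subgroup.mem_sup_right ha) ha)) hy
  have hUfn : E.IsFullyNormalized U := ⟨hUT, fun R _ => by
    rw [show normalizerIn T U = T from le_antisymm normalizerIn_le fun x hx => ⟨hx, hUn hx⟩]
    exact Subgroup.card_le_of_le normalizerIn_le⟩
  have hUnD : ¬ E.IsNormal U := by
    intro hUN
    have hle : centralizerIn T D ≤ D := le_sup_right.trans (Cfsg.Agent.H89.le_core E hUN)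
    exact hDc (isCentric_of_receptive (receptive_of_isFullyNormalized hTp hI.sat hDfn) hle)
  by_cases hAD : E.autGroup D ≤ autInducedBy T D
  · -- the automizer of the core is a `p`-group
    have hDp : IsPGroup p (E.autGroup D) := (isPGroup_autInducedBy hTp D).to_le hAD
    by_cases hCDeq : C = D
    · subst hCDeq
      have hVn : T ≤ Subgroup.normalizer (V : Set Ω) := fun x hx =>
        normalizes_W hW hI hC hCT le_rfl hx (Subgroup.le_normalizer hx)
      have htarget : ∀ (P : Subgroup Ω) (g : Ω → Ω), IsMap E (P ⊔ V) g → (∀ x ∈ V, g x ∈ V) →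
          IsMap (normSys E V hWT hVn) P g := fun P g hg hm =>
        (Cfsg.Agent.H91.isMap_normSys hWT hVn).2 ⟨g, hg, fun _ _ => rfl, hm⟩
      refine isNormal_of_le_normSys hWT hVn (le_of_autGroup_fullyNormalized hTp hI.sat
        fun Q hQn big α hα => mem_autGroup_of_isMap ?_)
      have hQT := hQn.1
      haveI := finite_of_le hQT
      have hαm := (mem_autGroup_iff hQT).1 hα
      -- a subgroup strictly between `Q` and the source of an extension gives a map of the target
      have ext : ∀ (X : Subgroup Ω) (g : Ω → Ω), ¬ X ≤ Q → IsMap E (X ⊔ Q) g →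
          (∀ x ∈ Q, g x = autMap α x) → IsMap (normSys E V hWT hVn) Q (autMap α) := by
        intro X g hX hg hge
        haveI := finite_of_le hg.le
        have hlt : Nat.card Q < Nat.card (X ⊔ Q : Subgroup Ω) := by
          by_contra hle
          exact hX (le_sup_left.trans
            (Subgroup.eq_of_le_of_card_ge (le_sup_right : Q ≤ X ⊔ Q) (not_lt.1 hle)).ge)
        exact ((big _ g hlt hg).mono le_sup_right).congr fun x hx => (hge x hx).symm
      by_cases hDQ : D ≤ Q
      swap
      · obtain ⟨g, hg, hge, -⟩ := (isNormal_iff.1 hDn).2 Q _ hαm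
        exact ext D g hDQ (hg.mono (sup_le le_sup_right le_sup_left)) hge
      by_cases hCQ : centralizerIn T Q ≤ Q
      swap
      · obtain ⟨g, hg, hge⟩ := receptive_extend (receptive_of_isFullyNormalized hTp hI.sat hQn)
          (isIso_autMap hQT hα) (N := centralizerIn T Q) fun x hx => hαm.inExt_of_centralizes hx
        exact ext _ g hCQ hg hge
      have hQc : E.IsCentric Q :=
        isCentric_of_receptive (receptive_of_isFullyNormalized hTp hI.sat hQn) hCQ
      -- the loop over growing normalizers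
      have loop : ∀ (j : ℕ) (Q' N : Subgroup Ω), Nat.card T - Nat.card N = j →
          Nat.card Q' = Nat.card Q → D ≤ Q' → Q' ≤ N → D < N → N ≤ T → W D N ≤ Q' →
          ∀ β ∈ E.autGroup Q', (∀ x ∈ W D N, autMap β x ∈ W D N) →
            IsMap (normSys E V hWT hVn) Q' (autMap β) := by
        intro j
        induction j using Nat.strong_induction_on with
        | _ j ihj =>
        intro Q' N hj hcard hDQ' hQ'N hDN' hNT hWN β hβ hβW
        have hQ'T : Q' ≤ T := hQ'N.trans hNT
        have hβm := (mem_autGroup_iff hQ'T).1 hβ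
        rcases hNT.eq_or_lt with rfl | hNlt
        · exact htarget Q' _ (hβm.mono (sup_le le_rfl hWN)) hβW
        set T₀ := W D N with hT₀
        have hT₀T : T₀ ≤ T := hWN.trans hQ'T
        haveI := finite_of_le hT₀T
        have hNN : normalizerIn T N ≤ normalizerIn T T₀ := fun x hx =>
          ⟨hx.1, normalizes_W hW hI hDn hDN'.le hNT hx.1 hx.2⟩
        have hcardN : Nat.card N < Nat.card (normalizerIn T T₀) := by
          haveI := finite_of_le (S := T) (P := normalizerIn T T₀) normalizerIn_le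
          exact (card_lt_card_normalizerIn hTp hNlt).trans_le (Subgroup.card_le_of_le hNN)
        have hQ'N₀ : Q' ≤ normalizerIn T T₀ :=
          hQ'N.trans ((le_normalizerIn_self hNT).trans hNN)
        have hbig : Nat.card Q < Nat.card (normalizerIn T T₀) := by
          haveI := finite_of_le hNT
          exact hcard ▸ (Subgroup.card_le_of_le hQ'N).trans_lt hcardN
        obtain ⟨T₁, hT₀T₁, hT₁n⟩ := exists_isFullyNormalized E hT₀T
        obtain ⟨u, hu, hui, hum⟩ := exists_map_to_fullyNormalized hTp hI.sat hT₁n hT₀T₁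
        have huQ := (hu.mono hQ'N₀).isIso
        have hutgt : IsMap (normSys E V hWT hVn) Q' u := (big _ u hbig hu).mono hQ'N₀
        set Q₁ := imgSub u Q' with hQ₁
        set β₁ := huQ.autEquiv β with hβ₁
        have hβ₁E : β₁ ∈ E.autGroup Q₁ := huQ.autEquiv_mem_autGroup hβ
        have hT₁Q₁ : T₁ ≤ Q₁ := fun y hy => by
          obtain ⟨x, hx, rfl⟩ := hui.exists_preimage hy
          exact huQ.mem (hWN hx)
        have hβ₁T₁ : ∀ y ∈ T₁, autMap β₁ y ∈ T₁ := fun y hy => by
          obtain ⟨x, hx, rfl⟩ := hui.exists_preimage hy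
          rw [hβ₁, huQ.autMap_autEquiv β (hWN hx)]
          exact hui.mem (hβW x hx)
        have hDT₀ : D < T₀ := hW.lt D N hDN' (hNT.trans hT) (hNT.trans hDN)
        have hDT₁ : D < T₁ := by
          refine lt_of_le_of_ne (fun y hy => ?_) fun he => ?_
          · obtain ⟨x, hx, rfl⟩ := (isIso_of_mapsTo ((hui.isMap).mono hDT₀.le)
              ((stronglyClosed_iff.1 (stronglyClosed_of_isNormal hDn)).2 D u le_rfl
                (hui.isMap.mono hDT₀.le))).exists_preimage hy
            exact hui.mem (hDT₀.le hx)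
          · subst he
            exact hDT₀.ne (Subgroup.eq_of_le_of_card_ge hDT₀.le (le_of_eq hui.card_eq))
        haveI := finite_of_le hT₁n.1
        set N₁ := normalizerIn T T₁ with hN₁
        obtain ⟨E', hE'⟩ := exists_isKSys (T := N₁) E hT₁n.1 (⊤ : Subgroup (MulAut T₁))
          fun x => mem_kNorm_top.symm
        have hQ₁N₁ : Q₁ ≤ N₁ := fun y hy => by
          obtain ⟨x, hx, rfl⟩ := huQ.exists_preimage hy
          exact hum x (hQ'N₀ hx)
        have hsat' : E'.IsSaturated p := by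
          refine isSaturated_of_isKSys hTp hI.sat (receptive_of_isFullyNormalized hTp hI.sat hT₁n) ?_ hE'
          rw [inf_top_eq, inf_top_eq]
          exact ((isFullyAutomized_iff hTp).1 (isFullyAutomized_of_isFullyNormalized hTp hI.sat hT₁n)).2
        have hV' : E'.IsNormal (W D N₁) := by
          refine sub T₁ _ N₁ E' hE' hsat' hDT₁.le (le_normalizerIn_self hT₁n.1) ?_
            (hcenV T₁ hDT₁.le hT₁n.1 N₁ E' hT₁n hE') D hDn hDp le_rfl
          by_contra hall
          push_neg at hall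
          exact hDT₁.not_ge (Cfsg.Agent.H89.le_core E (isNormal_of_kSys hE' hT₁n.1 hall))
        have hβ₁' : IsMap E' Q₁ (autMap β₁) := (hE'.map_iff _ _).2
          ⟨hQ₁N₁, fun x hx => hQ₁N₁ (autMap_mem β₁ hx), autMap β₁,
            ((mem_autGroup_iff huQ.target_le).1 hβ₁E).mono (sup_le le_rfl hT₁Q₁), fun _ _ => rfl,
            (onQ_top_iff ((mem_autGroup_iff huQ.target_le).1 hβ₁E) hT₁Q₁).2
              ((((mem_autGroup_iff huQ.target_le).1 hβ₁E).mono hT₁Q₁).image_eq_of_mapsTo hβ₁T₁)⟩
        obtain ⟨g, hg, hge, hgW⟩ := (isNormal_iff.1 hV').2 _ _ hβ₁'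
        have hgW' : ∀ x ∈ W D N₁, g x ∈ W D N₁ := fun x hx => by
          rw [← SetLike.mem_coe, ← hgW]; exact ⟨x, hx, rfl⟩
        have hD₁ : D ≤ Q₁ := hDT₁.le.trans hT₁Q₁
        have key : IsMap (normSys E V hWT hVn) Q₁ (autMap β₁) := by
          haveI := finite_of_le huQ.target_le
          haveI := finite_of_le (hE'.isMap_le hg).le
          by_cases hW₁ : W D N₁ ≤ Q₁
          · have hN₁gt : Nat.card N < Nat.card N₁ := hcardN.trans_le (by
              haveI := finite_of_le (S := T) (P := N₁) normalizerIn_le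
              exact card_le_of_mapsTo hu le_rfl hum)
            refine ihj _ ?_ Q₁ N₁ rfl (huQ.card_eq.symm.trans hcard) hD₁ hQ₁N₁
              (hDT₁.trans_le (le_normalizerIn_self hT₁n.1)) normalizerIn_le hW₁ β₁ hβ₁E
              fun x hx => ?_
            · have h2 : Nat.card N₁ ≤ Nat.card T := Subgroup.card_le_of_le normalizerIn_le
              omega
            · rw [← hge x (hW₁ hx)]
              exact hgW' x hx
          · have hlt : Nat.card Q < Nat.card (Q₁ ⊔ W D N₁ : Subgroup Ω) := by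
              rw [← hcard, huQ.card_eq]
              by_contra hle
              exact hW₁ (le_sup_right.trans
                (Subgroup.eq_of_le_of_card_ge (le_sup_left : Q₁ ≤ _) (not_lt.1 hle)).ge)
            exact ((big _ g hlt (hE'.isMap_le hg)).mono le_sup_left).congr fun x hx => (hge x hx).symm
        obtain ⟨v, hv, hvu, -⟩ := (IsIso.mk hutgt huQ.image_eq :
          IsIso (normSys E V hWT hVn) Q' Q₁ u).exists_symm
        refine ((hutgt.comp key fun x hx => huQ.mem hx).comp hv.isMap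
          fun x hx => autMap_mem _ (huQ.mem hx)).congr fun x hx => ?_
        show autMap β x = v (autMap β₁ (u x))
        rw [hβ₁, huQ.autMap_autEquiv β hx, hvu _ (autMap_mem β hx)]
      rcases hQT.eq_or_lt with rfl | hQlt
      · refine htarget Q _ (hαm.mono (sup_le le_rfl hWT)) fun x hx => ?_
        have h := hW.equivariant D Q (autMap α) hCT hDN (hI.sub _ _ hαm)
          ((stronglyClosed_iff.1 (stronglyClosed_of_isNormal hDn)).2 D _ le_rfl (hαm.mono hCT))
        rw [← (isIso_autMap le_rfl hα).eq_imgSub] at h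
        show autMap α x ∈ W D Q
        rw [← SetLike.mem_coe, ← h, (hαm.mono hWT).coe_imgSub]
        exact ⟨x, hx, rfl⟩
      obtain ⟨g, hg, hge, hgW⟩ := exists_local_extension hS hF hW hyp hI hDn hDp hDQ hQn
        (hI.centric Q hDQ hQc) hα
      set R := normalizerIn T Q
      by_cases hWQ : W D R ≤ Q
      · refine loop _ Q R rfl rfl hDQ (le_normalizerIn_self hQT)
          (hDQ.trans_lt (lt_normalizerIn hTp hQlt)) normalizerIn_le hWQ α hα fun x hx => ?_
        rw [← hge x (hWQ hx)]
        exact hgW x hx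
      · exact ext _ g hWQ hg hge
    · exfalso
      have hCDlt : C < D := lt_of_le_of_ne hCD hCDeq
      have hlt : Nat.card T - Nat.card D < k := by
        rw [← hk]
        have h1 := Subgroup.card_le_of_le hDn.1
        have h2 : Nat.card C < Nat.card D := by
          by_contra hle
          exact hCDlt.ne (Subgroup.eq_of_le_of_card_ge hCDlt.le (not_lt.1 hle))
        omega
      have hVD : E.IsNormal (W D T) := ihC _ hlt D rfl hDn hDp
      exact (hW.lt D T hDlt hT hDN).not_ge (Cfsg.Agent.H89.le_core E hVD)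
  · -- decompose along the core
    obtain ⟨E₁, hE₁⟩ := exists_isKSys (T := T) E hUT (⊤ : Subgroup (MulAut U)) fun x =>
      ⟨fun hx => mem_kNorm_top.2 ⟨hx, hUn hx⟩, fun hx => kNorm_le hx⟩
    have hV₁ : E₁.IsNormal V := by
      refine sub U _ T E₁ hE₁ ?_ le_sup_left hUT ?_ (hcenV U le_sup_left hUT T E₁ hUfn hE₁) C hC hCp hCD
      · refine isSaturated_of_isKSys hTp hI.sat (receptive_of_isFullyNormalized hTp hI.sat hUfn) ?_ hE₁
        rw [inf_top_eq, inf_top_eq]
        exact ((isFullyAutomized_iff hTp).1 (isFullyAutomized_of_isFullyNormalized hTp hI.sat hUfn)).2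
      · by_contra hall
        push_neg at hall
        exact hUnD (isNormal_of_kSys hE₁ hUT hall)
    obtain ⟨E₂, hE₂⟩ := exists_isKSys (T := T) E hDn.1 (autInducedBy T D) fun x =>
      ⟨fun hx => mem_kNorm.2 ⟨⟨hx, hDN hx⟩, mem_autInducedBy.2 ⟨x, hx, hDN hx, rfl⟩⟩,
        fun hx => kNorm_le hx⟩
    have hm₂ : ∀ (P : Subgroup Ω) (g : Ω → Ω), IsMap E P g → D ≤ P → (∀ q ∈ D, g q = q) →
        IsMap E₂ P g := fun P g hg hDP hfix => (hE₂.map_iff P g).2
      ⟨hg.le, fun x hx => hg.mem_S hx, g, hg.mono (sup_le le_rfl hDP), fun _ _ => rfl,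
        1, one_mem _, fun q hq => (hfix q hq).trans (autMap_one hq).symm⟩
    have hcen₂ : ∀ R, D ≤ R → E₂.IsCentric R → E.IsCentric R := by
      intro R hDR hR
      refine ⟨hR.1, fun R' hR' => ?_⟩
      obtain ⟨u, hu⟩ := isConj_iff.1 (isConj_symm hR')
      obtain ⟨h, m, hh, -, hm, hmD, hhD, he⟩ := exists_decomposition hTp hI.sat hDn hu.isMap
      have hDh : D ≤ imgSub h (R' ⊔ D) := fun q hq => by
        obtain ⟨q', hq', rfl⟩ :=
          (isIso_of_mapsTo (hh.mono (le_sup_left.trans le_sup_right)) hhD).exists_preimage hq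
        exact Subgroup.subset_closure ⟨q', Subgroup.mem_sup_right hq', rfl⟩
      have hDR' : D ≤ R' := fun q hq => by
        obtain ⟨g, hg⟩ := isConj_iff.1 hR'
        obtain ⟨q', hq', rfl⟩ := (isIso_of_mapsTo (hg.isMap.mono hDR)
          ((stronglyClosed_iff.1 (stronglyClosed_of_isNormal hDn)).2 D g le_rfl
            (hg.isMap.mono hDR))).exists_preimage hq
        exact hg.mem (hDR hq')
      rw [sup_of_le_left hDR'] at hDh hm
      have hh' : IsMap E R' h := hh.mono le_sup_left
      have hmR : IsIso E₂ (imgSub h R') R m := by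
        refine ⟨hm₂ _ m hm hDh hmD, ?_⟩
        rw [hh'.coe_imgSub, Set.image_image, ← hu.image_eq]
        exact Set.image_congr fun x hx => (he x hx).symm
      have hC' := hR.2 _ (isConj_symm hmR.isConj)
      intro c hc
      obtain ⟨hcT, hcc⟩ := FusionSys.mem_centralizerIn.1 hc
      have hcD : c ∈ centralizerIn T D :=
        FusionSys.mem_centralizerIn.2 ⟨hcT, fun y hy => hcc y (hDR' hy)⟩
      have hcm : c ∈ R' ⊔ (D ⊔ centralizerIn T D) := Subgroup.mem_sup_right (Subgroup.mem_sup_right hcD)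
      have hhc : h c ∈ imgSub h R' := by
        refine hC' (FusionSys.mem_centralizerIn.2 ⟨hh.mem_S hcm, fun y hy => ?_⟩)
        obtain ⟨x, hx, rfl⟩ := hh'.mem_imgSub.1 hy
        rw [← hh.map_mul (Subgroup.mem_sup_left hx) hcm, hcc x hx,
          hh.map_mul hcm (Subgroup.mem_sup_left hx)]
      obtain ⟨x, hx, hxe⟩ := hh'.mem_imgSub.1 hhc
      exact hh.injOn (Subgroup.mem_sup_left hx) hcm hxe ▸ hx
    have hV₂ : E₂.IsNormal V := by
      refine sub D _ T E₂ hE₂ ?_ le_rfl hDn.1 ?_ hcen₂ C hC hCp hCD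
      · refine isSaturated_of_isKSys hTp hI.sat (receptive_of_isFullyNormalized hTp hI.sat hDfn) ?_ hE₂
        rw [inf_idem, inf_of_le_right (autInducedBy_le_autGroup E hDn.1), Subgroup.relIndex_self]
        exact (Fact.out : p.Prime).not_dvd_one
      · by_contra hall
        push_neg at hall
        refine hAD fun α hα => ?_
        obtain ⟨-, -, g, -, hge, κ, hκ, hκe⟩ :=
          (hE₂.map_iff D _).1 (hall D _ ((mem_autGroup_iff hDn.1).1 hα))
        rwa [show α = κ from aut_ext fun q hq => (hge q hq).symm.trans (hκe q hq)]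
    refine isNormal_iff.2 ⟨hWT, fun P f hf => ?_⟩
    obtain ⟨h, m, hh, hhU, hm, hmD, hhD, he⟩ := exists_decomposition hTp hI.sat hDn hf
    have hhP : IsMap E₁ (P ⊔ D) h := by
      refine (hE₁.map_iff _ _).2 ⟨(sup_le hf.le hDn.1), fun x hx => hh.mem_S
        ((sup_le le_sup_left (le_sup_left.trans le_sup_right) : P ⊔ D ≤ P ⊔ U) hx), h,
        hh.mono (sup_le (sup_le le_sup_left (le_sup_left.trans le_sup_right)) le_sup_right),
        fun _ _ => rfl, ?_⟩
      exact (onQ_top_iff hh le_sup_right).2 ((hh.mono le_sup_right).image_eq_of_mapsTo hhU)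
    have hDh : D ≤ imgSub h (P ⊔ D) := fun q hq => by
      obtain ⟨q', hq', rfl⟩ :=
        (isIso_of_mapsTo (hh.mono (le_sup_left.trans le_sup_right)) hhD).exists_preimage hq
      exact Subgroup.subset_closure ⟨q', Subgroup.mem_sup_right hq', rfl⟩
    obtain ⟨g₁, hg₁, hg₁e, hg₁V⟩ := (isNormal_iff.1 hV₁).2 _ _ hhP
    obtain ⟨g₂, hg₂, hg₂e, hg₂V⟩ := (isNormal_iff.1 hV₂).2 _ _ (hm₂ _ m hm hDh hmD)
    refine ⟨g₂ ∘ g₁, ?_, fun x hx => ?_, by rw [Set.image_comp, hg₁V, hg₂V]⟩
    · refine ((hE₁.isMap_le hg₁).comp (hE₂.isMap_le hg₂) fun x hx => ?_).mono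
        (sup_le_sup_right le_sup_left V)
      refine (hE₁.isMap_le hg₁).mapsTo_sup (fun a ha => Subgroup.mem_sup_left
        (show g₁ a ∈ imgSub h (P ⊔ D) from Subgroup.subset_closure ⟨a, ha, (hg₁e a ha).symm⟩))
        (fun a ha => Subgroup.mem_sup_right (show g₁ a ∈ V by
          rw [← SetLike.mem_coe, ← hg₁V]; exact ⟨a, ha, rfl⟩)) hx
    · rw [Function.comp_apply, hg₁e x (Subgroup.mem_sup_left hx),
        hg₂e _ (Subgroup.subset_closure ⟨x, Subgroup.mem_sup_left hx, rfl⟩), he x hx]

/-- A functor invariant in the local automizers of `F` is normal in `F`. -/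
theorem isNormal_W (hS : IsPGroup p S) (hF : F.IsSaturated p) (hW : IsWFun F W)
    (hyp : LocalHyp F p W) (C : Subgroup Ω) (hC : F.IsNormal C) (hCp : IsPGroup p (F.autGroup C)) :
    F.IsNormal (W C S) :=
  isNormal_W_sub hS hF hW hyp _ S F rfl ⟨le_rfl, hF, fun _ _ h => h, fun _ _ h => h⟩ C hC hCp

end Cfsg.Agent.FusionSys
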