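import Cfsg.Agent.FusionSys.Skeleton
import Cfsg.Agent.FusionSys.GlauFunctor
import Cfsg.Agent.FusionSys.ModelFacts
import Cfsg.Agent.Fusion.PComplement

/-!
Inner systems: when normal `p`-complements in finite groups are detected in the normalizer of `W`, a saturated
system is inner as soon as the maps stabilizing `W` of the Sylow subgroup are inner.
-/

set_option autoImplicit false
set_option linter.style.haveILetI false

namespace Cfsg.Agent.FusionSys

open Cfsg Cfsg.FusionSystem Set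

universe u

variable {Ω : Type u} [Group Ω] {S : Subgroup Ω}

/-- Every map of `E` stabilizing `R` is a conjugation in `T`. -/
def InnerOn {T : Subgroup Ω} (E : FusionSystem T) (R : Subgroup Ω) : Prop :=
  ∀ P f, IsMap E P f → R ≤ P → (∀ r ∈ R, f r ∈ R) → ∃ t ∈ T, ∀ x ∈ P, f x = t * x * t⁻¹

theorem innerOn_bot_iff {T : Subgroup Ω} {E : FusionSystem T} :
    InnerOn E ⊥ ↔ ∀ P f, IsMap E P f → IsMap (innerFusionSystem T) P f := by
  constructor
  · intro h P f hf
    refine isMap_inner_iff.2 ⟨hf.le, ?_⟩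
    obtain ⟨t, ht, he⟩ := h P f hf bot_le (fun r hr => by
      rw [Subgroup.mem_bot] at hr ⊢; rw [hr]; exact hf.map_one)
    exact ⟨t, ht, he⟩
  · intro h P f hf _ _
    exact (isMap_inner_iff.1 (h P f hf)).2

variable {p : ℕ} [Fact p.Prime]

/-- The implication proved by the induction. -/
def InnerControlled (W : ∀ (Q : Type u) [Group Q], Subgroup Q) (T : Subgroup Ω) (E : FusionSystem T)
    (C : Subgroup Ω) : Prop :=
  InnerOn E (wFun W C T) → ∀ P f, IsMap E P f → ∃ t ∈ T, ∀ x ∈ P, f x = t * x * t⁻¹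

variable {W : ∀ (Q : Type u) [Group Q], Subgroup Q}
  (hW1 : ∀ (Q : Type u) [Group Q] [Finite Q], IsPGroup p Q → Nontrivial Q → W Q ≠ ⊥)
  (hW2 : ∀ (Q R : Type u) [Group Q] [Group R] [Finite Q], IsPGroup p Q →
    ∀ φ : Q ≃* R, (W Q).map φ.toMonoidHom = W R)
  (hNC : ∀ (G : Type u) [Group G] [Finite G] (P : Sylow p G),
    HasNormalPComplement p (Subgroup.normalizer
      (((W ↥(P : Subgroup G)).map (P : Subgroup G).subtype : Subgroup G) : Set G)) →
    HasNormalPComplement p G)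

variable [Finite S] {F : FusionSystem S} (hS : IsPGroup p S)

include hW2 hNC hS in
theorem innerControlled_of_centric {T : Subgroup Ω} {E : FusionSystem T} (hI : Inherits F p E)
    {C : Subgroup Ω} (hC : E.IsNormal C) (hCp : IsPGroup p (E.autGroup C))
    (hD : E.IsCentric E.core) : InnerControlled W T E C := by
  intro hin
  have hTS := hI.le
  haveI := finite_of_le hTS
  have hTp : IsPGroup p T := hS.to_le hTS
  have hDn : E.IsNormal E.core := Cfsg.Agent.H89.isNormal_core E
  have hCD : C ≤ E.core := Cfsg.Agent.H89.le_core E hC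
  let D : Setup E p := ⟨E.core, hTp, hI.sat, hDn, hD⟩
  haveI := D.finite_model
  obtain ⟨P₀, hP₀⟩ := D.exists_sylow_range
  set R := wFun W C T with hR
  have hRT : R ≤ T := wFun_le C T
  set ι := D.iota
  have hιinj : Function.Injective ι := D.iota_injective
  have hCT : C ≤ T := hC.1
  haveI := finite_of_le hCT
  haveI hCTn : (C.subgroupOf T).Normal := normal_subgroupOf_of_le (le_normalizer_of_isNormal hC)
  set Ch : Subgroup D.Model := (C.subgroupOf T).map ι with hChdef
  have hsc := (stronglyClosed_iff.1 (stronglyClosed_of_isNormal hC)).2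
  have hconjD : ∀ (m : D.Model) (c : T) (hc : (c : Ω) ∈ E.core),
      m * ι c * m⁻¹ = ι ⟨autMap (D.modelProj m : MulAut D.Q) c, hDn.1 (autMap_mem _ hc)⟩ := by
    intro m c hc
    refine (D.conj_toS m ⟨c, hc⟩).trans (congrArg ι (Subtype.ext ?_))
    exact (autMap_apply _ hc).symm
  have hautC : ∀ (m : D.Model) (c : Ω), c ∈ C → autMap (D.modelProj m : MulAut D.Q) c ∈ C := fun m c hc =>
    hsc C _ le_rfl (((mem_autGroup_iff hDn.1).1 (D.modelProj m).2).mono hCD) c hc
  haveI hChn : Ch.Normal := ⟨by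
    rintro _ ⟨c, hc, rfl⟩ m
    exact ⟨⟨_, hDn.1 (autMap_mem _ (hCD hc))⟩, hautC m c hc, (hconjD m c (hCD hc)).symm⟩⟩
  set q := QuotientGroup.mk' Ch with hq
  have hqs : Function.Surjective q := QuotientGroup.mk'_surjective _
  let Pb : Sylow p (D.Model ⧸ Ch) := P₀.mapSurjective hqs
  set Wb : Subgroup (D.Model ⧸ Ch) :=
    (W ↥(Pb : Subgroup (D.Model ⧸ Ch))).map (Pb : Subgroup (D.Model ⧸ Ch)).subtype with hWb
  let e : (↥T ⧸ C.subgroupOf T) →* (Pb : Subgroup (D.Model ⧸ Ch)) :=
    QuotientGroup.lift _ ((q.comp ι).codRestrict _ fun t => by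
      rw [Sylow.coe_mapSurjective]; exact ⟨_, hP₀ ▸ ⟨t, rfl⟩, rfl⟩) fun t ht =>
      Subtype.ext ((QuotientGroup.eq_one_iff _).2 ⟨t, ht, rfl⟩)
  have hes : Function.Surjective e := by
    rintro ⟨z, hz⟩
    rw [Sylow.coe_mapSurjective, hP₀] at hz
    obtain ⟨_, ⟨t, rfl⟩, rfl⟩ := hz
    exact ⟨QuotientGroup.mk t, rfl⟩
  have hei : Function.Injective e := by
    rw [injective_iff_map_eq_one]
    intro z hz
    obtain ⟨t, rfl⟩ := QuotientGroup.mk_surjective z
    obtain ⟨d, hd, hde⟩ := (QuotientGroup.eq_one_iff _).1 (congrArg Subtype.val hz)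
    exact (QuotientGroup.eq_one_iff _).2 (hιinj hde ▸ hd)
  have heW := hW2 _ _ (hTp.to_quotient _) (MulEquiv.ofBijective e ⟨hei, hes⟩)
  have hRmem : ∀ t : T, (t : Ω) ∈ R ↔ q (ι t) ∈ Wb := by
    intro t
    rw [hR, mem_wFun]
    constructor
    · intro h
      refine ⟨e (QuotientGroup.mk t), ?_, rfl⟩
      rw [← heW]
      exact ⟨_, h, rfl⟩
    · rintro ⟨w, hw, hwe⟩
      rw [← heW] at hw
      obtain ⟨z, hz, rfl⟩ := hw
      rwa [show QuotientGroup.mk' _ t = z from hei (Subtype.ext hwe.symm)]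
  -- the normalizer of `Wb` is covered by `T`
  have hNp : IsPGroup p (Subgroup.normalizer (Wb : Set (D.Model ⧸ Ch))) := by
    refine Pb.isPGroup'.to_le fun z hz => ?_
    obtain ⟨m, rfl⟩ := hqs z
    rw [Sylow.coe_mapSurjective]
    refine ⟨m, ?_, rfl⟩
    have hstab : ∀ r : T, (r : Ω) ∈ R → ∃ r' : T, (r' : Ω) ∈ R ∧ ι r' = m * ι r * m⁻¹ := by
      intro r hr
      have h := (Subgroup.mem_normalizer_iff.1 hz _).1 ((hRmem r).1 hr)
      rw [← _root_.map_inv, ← _root_.map_mul, ← _root_.map_mul] at h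
      obtain ⟨z', hz'⟩ := hes ⟨_, Subgroup.map_subtype_le _ h⟩
      obtain ⟨s, rfl⟩ := QuotientGroup.mk_surjective z'
      have hs : q (ι s) = q (m * ι r * m⁻¹) := congrArg Subtype.val hz'
      obtain ⟨d, hd, hde⟩ := QuotientGroup.eq.1 hs
      refine ⟨s * d, R.mul_mem ((hRmem s).2 (hs ▸ h)) (le_wFun hCT hd), ?_⟩
      rw [_root_.map_mul, hde, mul_inv_cancel_left]
    let φ : Ω → Ω := fun w => bwdFun hιinj (m * homFun ι w * m⁻¹)
    have hφ : ∀ r r' : T, ι r' = m * ι r * m⁻¹ → φ r = r' := fun r r' e => by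
      show bwdFun hιinj (m * homFun ι (r : Ω) * m⁻¹) = r'
      rw [homFun_coe, ← e, bwdFun_apply]
    have hle : E.core ⊔ R ≤ ((ι.range.comap ((MulAut.conj m).toMonoidHom.comp ι))).map T.subtype := by
      refine sup_le (fun w hw => ?_) fun w hw => ?_
      · exact ⟨⟨w, hDn.1 hw⟩, ⟨_, (hconjD m ⟨w, hDn.1 hw⟩ hw).symm⟩, rfl⟩
      · obtain ⟨r', -, he⟩ := hstab ⟨w, hRT hw⟩ hw
        exact ⟨⟨w, hRT hw⟩, ⟨r', he⟩, rfl⟩
    have hmap : IsMap E (E.core ⊔ R) φ := by
      refine D.isMap_of_conj (sup_le hDn.1 hRT) (m := m) fun w hw => ?_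
      obtain ⟨w', ⟨r', he⟩, hwe⟩ := hle hw
      obtain rfl : w' = w := Subtype.ext hwe
      exact ⟨(hφ w' r' he).symm ▸ r'.2, he.symm.trans (congrArg ι (Subtype.ext (hφ w' r' he).symm))⟩
    obtain ⟨t, ht, hte⟩ := hin _ φ hmap le_sup_right fun w hw => by
      obtain ⟨r', hr', he⟩ := hstab ⟨w, hRT hw⟩ hw
      exact (hφ ⟨w, hRT hw⟩ r' he).symm ▸ hr'
    have hc : (ι ⟨t, ht⟩)⁻¹ * m ∈ Subgroup.centralizer (D.qSub : Set D.Model) := by
      refine Subgroup.mem_centralizer_iff.2 ?_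
      rintro _ ⟨d, rfl⟩
      have h1 := hconjD m ⟨d, hDn.1 d.2⟩ d.2
      have h2 : φ d = autMap (D.modelProj m : MulAut D.Q) d := hφ ⟨d, hDn.1 d.2⟩ _ h1.symm
      have h3 : m * ι (D.toS d) * m⁻¹ = ι ⟨t, ht⟩ * ι (D.toS d) * (ι ⟨t, ht⟩)⁻¹ := by
        refine h1.trans ?_
        rw [← _root_.map_inv, ← _root_.map_mul, ← _root_.map_mul]
        refine congrArg ι (Subtype.ext ?_)
        show autMap (D.modelProj m : MulAut D.Q) d = t * d * t⁻¹
        rw [← h2]
        exact hte d (Subgroup.mem_sup_left d.2)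
      show ι (D.toS d) * ((ι ⟨t, ht⟩)⁻¹ * m) = (ι ⟨t, ht⟩)⁻¹ * m * ι (D.toS d)
      rw [mul_assoc (ι ⟨t, ht⟩)⁻¹ m, eq_inv_mul_iff_mul_eq, ← mul_assoc, ← mul_assoc,
        show ι ⟨t, ht⟩ * ι (D.toS d) * (ι ⟨t, ht⟩)⁻¹ * m = m * ι (D.toS d) * m⁻¹ * m by rw [h3],
        inv_mul_cancel_right]
    obtain ⟨d, hd⟩ := D.centralizer_qSub_le hc
    exact hP₀ ▸ ⟨⟨t, ht⟩ * D.toS d, by
      rw [_root_.map_mul, show ι (D.toS d) = _ from hd, mul_inv_cancel_left]⟩
  have hQ : HasNormalPComplement p (D.Model ⧸ Ch) := hNC _ Pb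
    (Fusion.hasNormalPComplement_of_quotient (N := ⊥)
      (by rw [Subgroup.card_bot]; exact (Fact.out : p.Prime).not_dvd_one) (hNp.to_quotient _))
  have hRc : ¬ p ∣ Nat.card (pResidual p (D.Model ⧸ Ch)) := Fusion.hasNormalPComplement_iff_pResidual.1 hQ
  -- an element of order prime to `p` is trivial
  have key : ∀ g : D.Model, (orderOf g).Coprime p → g = 1 := by
    intro g hg
    set β := (D.modelProj g : MulAut D.Q)
    have hβn : β ^ orderOf g = 1 := by
      rw [← SubgroupClass.coe_pow, ← _root_.map_pow, pow_orderOf_eq_one, _root_.map_one]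
      rfl
    have hβC : ∀ c ∈ C, autMap β c = c := by
      obtain ⟨γ, hγ, hγe⟩ := (isIso_of_mapsTo (((mem_autGroup_iff hDn.1).1 (D.modelProj g).2).mono hCD)
        (hautC g)).exists_aut
      have hpow : ∀ (k : ℕ), ∀ x ∈ C, autMap (β ^ k) x = autMap (γ ^ k) x := by
        intro k
        induction k with
        | zero => intro x hx; rw [pow_zero, pow_zero, autMap_one hx]; exact autMap_one (hCD hx)
        | succ k ih =>
          intro x hx
          rw [pow_succ, pow_succ, autMap_mul _ _ (hCD hx : x ∈ D.Q), autMap_mul _ _ hx,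
            show autMap γ x = autMap β x from hγe x hx, ih _ (hautC g x hx)]
      have hγn : γ ^ orderOf g = 1 := aut_ext fun x hx => by
        rw [← hpow _ x hx, hβn, autMap_one hx]
        exact autMap_one (hCD hx)
      obtain ⟨k, hk⟩ := hCp ⟨γ, hγ⟩
      have hγ1 : γ = 1 := orderOf_eq_one_iff.1 (Nat.eq_one_of_dvd_coprimes (Nat.Coprime.pow_left k hg.symm)
        (orderOf_dvd_of_pow_eq_one (show γ ^ p ^ k = 1 from congrArg Subtype.val hk))
        (orderOf_dvd_of_pow_eq_one hγn))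
      intro c hc
      rw [← show autMap γ c = autMap β c from hγe c hc, hγ1, autMap_one hc]
    have hβD : ∀ d ∈ E.core, ∃ c ∈ C, autMap β d = c * d := by
      intro d hd
      have hz : q (g * ι ⟨d, hDn.1 hd⟩ * g⁻¹ * (ι ⟨d, hDn.1 hd⟩)⁻¹) = 1 := by
        set z := q (g * ι ⟨d, hDn.1 hd⟩ * g⁻¹ * (ι ⟨d, hDn.1 hd⟩)⁻¹) with hz
        have h1 : z ∈ pResidual p (D.Model ⧸ Ch) := by
          have hgR : q g ∈ pResidual p (D.Model ⧸ Ch) :=
            Fusion.mem_pResidual (hg.coprime_dvd_left (orderOf_map_dvd q g))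
          rw [hz, mul_assoc, mul_assoc, _root_.map_mul]
          refine mul_mem hgR ?_
          rw [← mul_assoc, _root_.map_mul, _root_.map_mul, _root_.map_inv q g, _root_.map_inv]
          exact (inferInstance : (pResidual p (D.Model ⧸ Ch)).Normal).conj_mem _ (inv_mem hgR) _
        have h2 : z ∈ (Pb : Subgroup (D.Model ⧸ Ch)) := by
          rw [Sylow.coe_mapSurjective, hP₀]
          refine ⟨_, ?_, rfl⟩
          rw [hconjD g ⟨d, hDn.1 hd⟩ hd, ← _root_.map_inv, ← _root_.map_mul]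
          exact ⟨_, rfl⟩
        obtain ⟨k, hk⟩ := Pb.isPGroup' ⟨z, h2⟩
        exact orderOf_eq_one_iff.1 (Nat.eq_one_of_dvd_coprimes
          ((((Fact.out : p.Prime).coprime_iff_not_dvd).2 hRc).pow_left k)
          (orderOf_dvd_of_pow_eq_one (show z ^ p ^ k = 1 from congrArg Subtype.val hk))
          (Subgroup.orderOf_dvd_natCard _ h1))
      obtain ⟨c, hc, hce⟩ := (QuotientGroup.eq_one_iff _).1 hz
      rw [hconjD g ⟨d, hDn.1 hd⟩ hd, ← _root_.map_inv, ← _root_.map_mul] at hce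
      refine ⟨c, hc, ?_⟩
      rw [show (c : Ω) = _ from congrArg Subtype.val (hιinj hce)]
      simp [β]
    have hβk : ∀ k, ∀ d ∈ E.core, ∀ c ∈ C, autMap β d = c * d → autMap (β ^ k) d = c ^ k * d := by
      intro k
      induction k with
      | zero => intro d hd c _ _; rw [pow_zero, pow_zero, one_mul]; exact autMap_one hd
      | succ k ih =>
        intro d hd c hc he
        rw [pow_succ', autMap_mul _ _ (hd : d ∈ D.Q), ih d hd c hc he]
        rw [((mem_autGroup_iff hDn.1).1 (D.modelProj g).2).map_mul (hCD (C.pow_mem hc k)) hd,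
          hβC _ (C.pow_mem hc k), he, pow_succ, mul_assoc]
    have hβ1 : β = 1 := aut_ext fun d hd => by
      obtain ⟨c, hc, he⟩ := hβD d hd
      have h1 : c ^ orderOf g = 1 := by
        have := (hβk (orderOf g) d hd c hc he).symm
        rw [hβn, autMap_one hd] at this
        exact mul_eq_right.1 this
      obtain ⟨k, hk⟩ := IsPGroup.iff_card.1 (hTp.to_le hCT)
      have h2 : c ^ p ^ k = 1 := hk ▸ congrArg Subtype.val (pow_card_eq_one' (x := (⟨c, hc⟩ : C)))
      rw [he, orderOf_eq_one_iff.1 (Nat.eq_one_of_dvd_coprimes (Nat.Coprime.pow_left k hg.symm)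
        (orderOf_dvd_of_pow_eq_one h2) (orderOf_dvd_of_pow_eq_one h1)), one_mul, autMap_one hd]
    obtain ⟨z, hz⟩ := D.exists_eq_iota_of_modelProj_eq_one (g := g) (Subtype.ext hβ1)
    obtain ⟨k, hk⟩ := hTp (D.toS (z : D.Q))
    refine orderOf_eq_one_iff.1 (Nat.eq_one_of_dvd_coprimes (Nat.Coprime.pow_left k hg.symm)
      (orderOf_dvd_of_pow_eq_one ?_) dvd_rfl)
    rw [hz, ← _root_.map_pow, hk, _root_.map_one]
  have hall : (P₀ : Subgroup D.Model) = ⊤ := by
    have hp : IsPGroup p D.Model := by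
      intro g
      obtain ⟨k, hk⟩ := Fusion.exists_pow_coprime (p := p) g
      exact ⟨k, key _ hk⟩
    exact (P₀.is_maximal' (hp.to_subgroup ⊤) le_top).symm
  intro P f hf
  obtain ⟨hP, g, hg⟩ := (isMap_realized_iff D.isRealizedBy).1 hf
  obtain ⟨t, rfl⟩ : g ∈ ι.range := hP₀ ▸ hall ▸ Subgroup.mem_top g
  refine ⟨t, t.2, fun x hx => ?_⟩
  obtain ⟨h, he⟩ := hg ⟨x, hP hx⟩ hx
  rw [← _root_.map_inv, ← _root_.map_mul, ← _root_.map_mul] at he
  exact congrArg Subtype.val (hιinj he)

include hW1 hW2 hNC hS in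
theorem innerControlled (T : Subgroup Ω) (E : FusionSystem T) (hI : Inherits F p E) (C : Subgroup Ω)
    (hC : E.IsNormal C) (hCp : IsPGroup p (E.autGroup C)) : InnerControlled W T E C := by
  refine induction_on_core (F := F) hS (fun T E C => InnerControlled W T E C)
    (fun T E hI C hC hCp hD => innerControlled_of_centric hW2 hNC hS hI hC hCp hD) ?_ ?_ ?_
    T E hI C hC hCp
  · intro T E E₁ E₂ hI _ _ hprod C _ _ _ _ h₁ h₂ hin P f hf
    obtain ⟨h, m, hh, hm, he⟩ := hprod.2.2 P f hf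
    obtain ⟨a, ha, hae⟩ := h₁ (fun P' f' hf' => hin P' f' (hprod.1 P' f' hf')) P h hh
    obtain ⟨b, hb, hbe⟩ := h₂ (fun P' f' hf' => hin P' f' (hprod.2.1 P' f' hf')) _ m hm
    refine ⟨b * a, mul_mem hb ha, fun x hx => ?_⟩
    rw [he x hx, hbe _ (hh.mem_imgSub.2 ⟨x, hx, rfl⟩), hae x hx]
    group
  · intro T E hI C hC hCp _ hDlt hDn hDp hrec hb hin
    haveI := finite_of_le hI.le
    refine hb fun P f hf hVP hm => ?_
    set V := wFun W E.core T with hV
    have hVT : V ≤ T := wFun_le _ _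
    have hDV : E.core < V := lt_wFun hW1 hS hDlt hI.le (le_normalizer_of_isNormal hDn)
    haveI := finite_of_le hVT
    have hVn : T ≤ Subgroup.normalizer (V : Set Ω) := fun z hz =>
      normalizes_W (isWFun_wFun hW1 hW2 hS) hI hDn hDn.1 le_rfl hz (Subgroup.le_normalizer hz)
    have heq : normalizerIn T V = T := le_antisymm normalizerIn_le fun z hz => ⟨hz, hVn hz⟩
    have hVfn : E.IsFullyNormalized V := ⟨hVT, fun R _ => by
      rw [heq]; exact Subgroup.card_le_of_le normalizerIn_le⟩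
    obtain ⟨E', hE'⟩ := exists_normalizerSystem E hVT
    have hK := isKSys_normalizer_iff.1 hE'
    have hΦ := (hrec V hDV hVfn E' hK).2 C hC hCp
    obtain ⟨t, ht, hte⟩ := hΦ (fun P' f' hf' hP' hm' => by
        rw [show wFun W C (normalizerIn T V) = wFun W C T from congrArg _ heq] at hP' hm'
        obtain ⟨t, ht, hte⟩ := hin P' f' (hK.isMap_le hf') hP' hm'
        exact ⟨t, heq.ge ht, hte⟩) P f
      ((hK.map_iff _ _).2 ⟨hf.le.trans heq.ge,
        fun z hz => heq.ge (hf.mem_S hz), f, hf.mono (sup_le le_rfl hVP), fun _ _ => rfl,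
        (onQ_top_iff hf hVP).2 ((hf.mono hVP).image_eq_of_mapsTo hm)⟩)
    exact ⟨t, heq.le ht, hte⟩
  · intro T E hI hDlt hDn hDp hrec hin
    have hTS := hI.le
    haveI := finite_of_le hTS
    have hTp : IsPGroup p T := hS.to_le hTS
    set D := E.core
    haveI := finite_of_le hDn.1
    have hDN := le_normalizer_of_isNormal hDn
    intro P f hf
    refine (isMap_inner_iff.1 (le_iff_isMap.1 (le_of_autGroup_fullyNormalized hTp hI.sat
      (E := innerFusionSystem T) fun Q hQn big α hα => ?_) P f hf)).2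
    have hQT := hQn.1
    haveI := finite_of_le hQT
    have hαm := (mem_autGroup_iff hQT).1 hα
    refine mem_autGroup_of_isMap ?_
    have ext : ∀ (X : Subgroup Ω) (g : Ω → Ω), ¬ X ≤ Q → IsMap E (X ⊔ Q) g →
        (∀ x ∈ Q, g x = autMap α x) → IsMap (innerFusionSystem T) Q (autMap α) := by
      intro X g hX hg hge
      haveI := finite_of_le hg.le
      have hlt : Nat.card Q < Nat.card (X ⊔ Q : Subgroup Ω) := by
        by_contra hle
        exact hX (le_sup_left.trans
          (Subgroup.eq_of_le_of_card_ge (le_sup_right : Q ≤ X ⊔ Q) (not_lt.1 hle)).ge)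
      exact ((big _ g hlt hg).mono le_sup_right).congr fun x hx => (hge x hx).symm
    by_cases hDQ : D ≤ Q
    swap
    · obtain ⟨g, hg, hge, -⟩ := (isNormal_iff.1 hDn).2 Q _ hαm
      exact ext D g hDQ (hg.mono (sup_le le_sup_right le_sup_left)) hge
    rcases hQT.eq_or_lt with rfl | hQlt
    · refine isMap_inner_iff.2 ⟨le_rfl, ?_⟩
      refine hin _ _ hαm (wFun_le _ _) fun r hr => ?_
      have h := (isWFun_wFun (F := F) hW1 hW2 hS).equivariant D Q (autMap α) hDQ hDN
        (hI.sub _ _ hαm) ((stronglyClosed_iff.1 (stronglyClosed_of_isNormal hDn)).2 D _ le_rfl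
          (hαm.mono hDQ))
      rw [← (isIso_autMap le_rfl hα).eq_imgSub] at h
      show autMap α r ∈ wFun W D Q
      haveI := finite_of_le (S := S) ((wFun_le (W := W) D Q).trans hTS)
      rw [← SetLike.mem_coe, ← h, (hαm.mono (wFun_le _ _)).coe_imgSub]
      exact ⟨r, hr, rfl⟩
    rcases hDQ.eq_or_lt with hDeq | hDlt'
    · subst hDeq
      haveI : Finite (E.autGroup D) := finite_autGroup E hQT
      have hpi := ((isFullyAutomized_iff hTp).1 (isFullyAutomized_of_isFullyNormalized hTp hI.sat hQn)).2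
      have hle : E.autGroup D ≤ autInducedBy T D := by
        rw [← Subgroup.relIndex_eq_one]
        obtain ⟨k, hk⟩ := hDp.index ((autInducedBy T D).subgroupOf (E.autGroup D))
        rcases Nat.eq_zero_or_pos k with rfl | hk0
        · exact hk.trans (pow_zero p)
        · exact absurd (show p ∣ (autInducedBy T D).relIndex (E.autGroup D) by
            rw [Subgroup.relIndex, hk]; exact dvd_pow_self p hk0.ne') hpi
      obtain ⟨t, ht, htn, rfl⟩ := mem_autInducedBy.1 (hle hα)
      exact (isMap_conj (innerFusionSystem T) hQT ht).congr fun x hx => autMap_conjAut htn hx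
    have key : ∀ (j : ℕ) (T₁ : Subgroup Ω), Nat.card T - Nat.card (normalizerIn T T₁) = j → D < T₁ →
        E.IsFullyNormalized T₁ → Nat.card Q < Nat.card (normalizerIn T T₁) →
        ∀ P f, IsMap E P f → P ≤ normalizerIn T T₁ → T₁ ≤ P → (∀ r ∈ T₁, f r ∈ T₁) →
          ∃ t ∈ normalizerIn T T₁, ∀ x ∈ P, f x = t * x * t⁻¹ := by
      intro j
      induction j using Nat.strong_induction_on with
      | _ j ihj =>
      intro T₁ hj hDT₁ hT₁n hbig P f hf hPN hT₁P hm
      set N₁ := normalizerIn T T₁ with hN₁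
      haveI := finite_of_le hT₁n.1
      obtain ⟨E', hE'⟩ := exists_normalizerSystem E hT₁n.1
      have hKs := isKSys_normalizer_iff.1 hE'
      have hΦ := (hrec T₁ hDT₁ hT₁n E' hKs).2 D hDn hDp
      refine hΦ ?_ P f ((hKs.map_iff _ _).2 ⟨hPN, fun z hz => by
          have h := hf.mem_normalizerIn hT₁P hz (hPN hz).2
          rwa [← (isIso_of_mapsTo (hf.mono hT₁P) hm).eq_imgSub] at h, f,
        hf.mono (sup_le le_rfl hT₁P), fun _ _ => rfl,
        (onQ_top_iff hf hT₁P).2 ((hf.mono hT₁P).image_eq_of_mapsTo hm)⟩)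
      intro P' f' hf' hVP hm'
      set V := wFun W D N₁ with hV
      -- extend over `T₁`
      obtain ⟨hP'N, -, g, hg, hge, hgQ⟩ := (hKs.map_iff _ _).1 hf'
      have hgT₁ := (onQ_top_iff hg le_sup_right).1 hgQ
      have hgm : ∀ r ∈ T₁, g r ∈ T₁ := fun r hr => by
        rw [← SetLike.mem_coe, ← hgT₁]; exact ⟨r, hr, rfl⟩
      have hsupN : P' ⊔ T₁ ≤ N₁ := sup_le hP'N (le_normalizerIn_self hT₁n.1)
      have hgV : ∀ r ∈ V, g r ∈ V := fun r hr => (hge r (hVP hr)).symm ▸ hm' r hr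
      suffices h : ∃ t ∈ T, ∀ x ∈ P' ⊔ T₁, g x = t * x * t⁻¹ by
        obtain ⟨t, ht, hte⟩ := h
        refine ⟨t, ⟨ht, mem_normalizer_of_maps fun r hr => ?_⟩, fun x hx => ?_⟩
        · rw [← hte r (Subgroup.mem_sup_right hr)]; exact hgm r hr
        · rw [← hte x (Subgroup.mem_sup_left hx)]
          exact (hge x hx).symm
      rcases (normalizerIn_le : N₁ ≤ T).eq_or_lt with he | hlt
      · have he' : V = wFun W D T := congrArg (wFun W D) he
        rw [he'] at hVP hgV
        exact hin _ g hg (hVP.trans le_sup_left) hgV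
      have hDN₁ : D < N₁ := hDT₁.trans_le (le_normalizerIn_self hT₁n.1)
      have hVT : V ≤ T := (wFun_le _ _).trans normalizerIn_le
      have hDV : D < V := lt_wFun hW1 hS hDN₁ (normalizerIn_le.trans hTS) (normalizerIn_le.trans hDN)
      have hNN : normalizerIn T N₁ ≤ normalizerIn T V := fun z hz =>
        ⟨hz.1, normalizes_W (isWFun_wFun hW1 hW2 hS) hI hDn hDN₁.le normalizerIn_le hz.1 hz.2⟩
      have hcard : Nat.card N₁ < Nat.card (normalizerIn T V) := by
        haveI := finite_of_le (S := T) (P := normalizerIn T V) normalizerIn_le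
        exact (card_lt_card_normalizerIn hTp hlt).trans_le (Subgroup.card_le_of_le hNN)
      haveI := finite_of_le hVT
      have hVn : E.IsFullyNormalized V := by
        obtain ⟨V₂, hVV₂, hV₂n⟩ := exists_isFullyNormalized E hVT
        obtain ⟨u, hu, hui, hum⟩ := exists_map_to_fullyNormalized hTp hI.sat hV₂n hVV₂
        obtain ⟨t, ht, hte⟩ := (isMap_inner_iff.1 (big _ u (hbig.trans hcard) hu)).2
        refine ⟨hVT, fun R hR => (hV₂n.2 R (isConj_trans (isConj_symm hVV₂) hR)).trans ?_⟩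
        haveI := finite_of_le (S := T) (P := normalizerIn T V) normalizerIn_le
        refine card_le_of_mapsTo (isMap_conj E normalizerIn_le (T.inv_mem ht)) le_rfl fun z hz => ?_
        refine ⟨T.mul_mem (T.mul_mem (T.inv_mem ht) hz.1) (T.inv_mem (T.inv_mem ht)),
          mem_normalizer_of_maps fun y hy => ?_⟩
        have huy : t * y * t⁻¹ ∈ V₂ :=
          hte y (le_normalizerIn_self hVT hy) ▸ hui.mem hy
        have h2 := (Subgroup.mem_normalizer_iff.1 hz.2 _).1 huy
        obtain ⟨y', hy', hye⟩ := hui.exists_preimage h2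
        rw [hte y' (le_normalizerIn_self hVT hy')] at hye
        have : conjMap t⁻¹ z * y * (conjMap t⁻¹ z)⁻¹ = y' := by
          rw [conjMap_apply, ← mul_left_cancel_iff (a := t), ← mul_right_cancel_iff (a := t⁻¹)]
          refine Eq.trans ?_ hye.symm
          group
        rw [this]; exact hy'
      obtain ⟨t, ht, hte⟩ := ihj _ (by
          have : Nat.card (normalizerIn T V) ≤ Nat.card T := Subgroup.card_le_of_le normalizerIn_le
          omega) V rfl hDV hVn (hbig.trans hcard) _ g hg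
        ((hsupN.trans (le_normalizerIn_self normalizerIn_le)).trans hNN)
        (hVP.trans le_sup_left) hgV
      exact ⟨t, ht.1, hte⟩
    obtain ⟨t, ht, hte⟩ := key _ Q rfl hDlt' hQn (card_lt_card_normalizerIn hTp hQlt) Q _ hαm
      (le_normalizerIn_self hQT) le_rfl fun r hr => autMap_mem _ hr
    exact isMap_inner_iff.2 ⟨hQT, t, ht.1, hte⟩

end Cfsg.Agent.FusionSys

namespace Cfsg.Agent.FusionSys

open Cfsg Cfsg.FusionSystem Set

universe v

variable {Ω : Type v} [Group Ω] {S : Subgroup Ω}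

theorem hom_eq_inner_iff {T : Subgroup Ω} {E : FusionSystem T} :
    (∀ P : Subgroup Ω, E.Hom P = (innerFusionSystem T).Hom P) ↔
      ∀ P f, IsMap E P f → ∃ t ∈ T, ∀ x ∈ P, f x = t * x * t⁻¹ := by
  constructor
  · intro h P f hf
    rw [show E = innerFusionSystem T from ext_hom h] at hf
    exact (isMap_inner_iff.1 hf).2
  · intro h P
    exact congrArg (fun F : FusionSystem T => F.Hom P) (le_antisymm'
      (le_iff_isMap.2 fun P f hf => isMap_inner_iff.2 ⟨hf.le, h P f hf⟩) (innerFusionSystem_le E))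

variable {p : ℕ} [Fact p.Prime] [Finite S]

/-- The criterion: a saturated system is inner iff the normalizer system of `W(S)` is inner. -/
theorem inner_iff_normalizerSystem_inner {W : ∀ (Q : Type v) [Group Q], Subgroup Q}
    (hW1 : ∀ (Q : Type v) [Group Q] [Finite Q], IsPGroup p Q → Nontrivial Q → W Q ≠ ⊥)
    (hW2 : ∀ (Q R : Type v) [Group Q] [Group R] [Finite Q], IsPGroup p Q →
      ∀ φ : Q ≃* R, (W Q).map φ.toMonoidHom = W R)
    (hNC : ∀ (G : Type v) [Group G] [Finite G] (P : Sylow p G),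
      HasNormalPComplement p (Subgroup.normalizer
        (((W ↥(P : Subgroup G)).map (P : Subgroup G).subtype : Subgroup G) : Set G)) →
      HasNormalPComplement p G)
    (hS : IsPGroup p S) {F : FusionSystem S} (hF : F.IsSaturated p) {V : Subgroup Ω}
    (hV : (W ↥S).map S.subtype = V) :
    (∀ P : Subgroup Ω, F.Hom P = (innerFusionSystem S).Hom P) ↔
      ∀ N : FusionSystem (normalizerIn S V), F.IsNormalizerSystem V N →
        ∀ P : Subgroup Ω, N.Hom P = (innerFusionSystem (normalizerIn S V)).Hom P := by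
  subst hV
  have hI : Inherits F p F := ⟨le_rfl, hF, fun _ _ h => h, fun _ _ h => h⟩
  have hb : F.IsNormal ⊥ := Cfsg.Agent.H89.isNormal_bot F
  have hp1 : IsPGroup p (F.autGroup ⊥) := fun a => ⟨0, by
    rw [pow_zero, pow_one]
    exact Subtype.ext (MulEquiv.ext fun x => Subsingleton.elim _ _)⟩
  haveI : ((⊥ : Subgroup Ω).subgroupOf S).Normal :=
    normal_subgroupOf_of_le fun x _ => Subgroup.mem_normalizer_iff.2 fun y => by simp
  have heq : wFun W ⊥ S = (W ↥S).map S.subtype := by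
    let e : (↥S ⧸ (⊥ : Subgroup Ω).subgroupOf S) ≃* ↥S :=
      (QuotientGroup.quotientMulEquivOfEq (Subgroup.bot_subgroupOf S)).trans QuotientGroup.quotientBot
    have he := hW2 _ _ (hS.to_quotient _) e
    ext x
    constructor
    · intro hx
      have hxS := wFun_le _ _ hx
      refine ⟨⟨x, hxS⟩, ?_, rfl⟩
      rw [← he]
      exact ⟨_, (mem_wFun (x := ⟨x, hxS⟩)).1 hx, rfl⟩
    · rintro ⟨y, hy, rfl⟩
      rw [← he] at hy
      obtain ⟨w, hw, rfl⟩ := hy
      obtain ⟨r, rfl⟩ := QuotientGroup.mk'_surjective _ w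
      exact (mem_wFun (x := r)).2 hw
  have hn : S ≤ Subgroup.normalizer (((W ↥S).map S.subtype : Subgroup Ω) : Set Ω) := fun x hx =>
    heq ▸ normalizes_W (isWFun_wFun hW1 hW2 hS) hI hb bot_le le_rfl hx (Subgroup.le_normalizer hx)
  have hVS : (W ↥S).map S.subtype ≤ S := Subgroup.map_subtype_le _
  haveI := finite_of_le hVS
  constructor
  · intro h N hN
    refine hom_eq_inner_iff.2 fun P f hf => ?_
    obtain ⟨t, ht, hte⟩ := hom_eq_inner_iff.1 h P f ((isKSys_normalizer_iff.1 hN).isMap_le hf)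
    exact ⟨t, ⟨ht, hn ht⟩, hte⟩
  · intro h
    obtain ⟨N, hN⟩ := exists_normalizerSystem F hVS
    have hK := isKSys_normalizer_iff.1 hN
    refine hom_eq_inner_iff.2 (innerControlled hW1 hW2 hNC hS S F hI ⊥ hb hp1 fun P f hf hVP hm => ?_)
    rw [heq] at hVP hm
    obtain ⟨t, ht, hte⟩ := hom_eq_inner_iff.1 (h N hN) P f ((hK.map_iff _ _).2
      ⟨fun z hz => ⟨hf.le hz, hn (hf.le hz)⟩, fun z hz => ⟨hf.mem_S hz, hn (hf.mem_S hz)⟩, f,
        hf.mono (sup_le le_rfl hVP), fun _ _ => rfl,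
        (onQ_top_iff hf hVP).2 ((hf.mono hVP).image_eq_of_mapsTo hm)⟩)
    exact ⟨t, ht.1, hte⟩

end Cfsg.Agent.FusionSys
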