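import Cfsg.Agent.H91.NormSat
import Cfsg.Agent.FusionSys.Group

/-!
The systems `N^K_F(Q)` for a group `K` of automorphisms of `Q`, and their saturation.
-/

set_option autoImplicit false

namespace Cfsg.Agent.FusionSys

open Cfsg Cfsg.FusionSystem Set Cfsg.Agent.H91

universe u

variable {Ω : Type u} [Group Ω] {S : Subgroup Ω} {F : FusionSystem S} {Q P : Subgroup Ω}
  {K : Subgroup (MulAut Q)}

/-- `g` induces an element of `K` on `Q`. -/
def OnQ (K : Subgroup (MulAut Q)) (g : Ω → Ω) : Prop :=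
  ∃ κ ∈ K, ∀ q ∈ Q, g q = autMap κ q

theorem OnQ.mem {g : Ω → Ω} (h : OnQ K g) {q : Ω} (hq : q ∈ Q) : g q ∈ Q := by
  obtain ⟨κ, -, hκ⟩ := h
  exact hκ q hq ▸ autMap_mem κ hq

theorem autMap_one {P : Subgroup Ω} {x : Ω} (hx : x ∈ P) : autMap (1 : MulAut P) x = x := by
  rw [autMap_apply _ hx]
  rfl

theorem OnQ.comp {g g' : Ω → Ω} (hg : OnQ K g) (hg' : OnQ K g') : OnQ K (g' ∘ g) := by
  obtain ⟨κ, hκ, he⟩ := hg
  obtain ⟨κ', hκ', he'⟩ := hg'
  refine ⟨κ' * κ, K.mul_mem hκ' hκ, fun q hq => ?_⟩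
  rw [Function.comp_apply, he q hq, he' _ (autMap_mem κ hq), autMap_mul _ _ hq]

theorem OnQ.of_inverse {g g' : Ω → Ω} (hg : OnQ K g) (h : ∀ q ∈ Q, g' (g q) = q) : OnQ K g' := by
  obtain ⟨κ, hκ, he⟩ := hg
  refine ⟨κ⁻¹, K.inv_mem hκ, fun q hq => ?_⟩
  have h1 := h _ (autMap_mem κ⁻¹ hq)
  rw [he _ (autMap_mem κ⁻¹ hq), ← autMap_mul _ _ hq, mul_inv_cancel, autMap_one hq] at h1
  exact h1

/-- `N^K_S(Q)`. -/
def kNorm (S : Subgroup Ω) (K : Subgroup (MulAut Q)) : Subgroup Ω :=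
  (K.comap (conjAutIn S Q)).map (normalizerIn S Q).subtype

theorem mem_kNorm {x : Ω} :
    x ∈ kNorm S K ↔ ∃ hx : x ∈ normalizerIn S Q, conjAut hx.2 ∈ K := by
  constructor
  · rintro ⟨⟨y, hy⟩, hK, rfl⟩
    exact ⟨hy, hK⟩
  · rintro ⟨hx, hK⟩
    exact ⟨⟨x, hx⟩, hK, rfl⟩

theorem kNorm_le : kNorm S K ≤ S := (Subgroup.map_subtype_le _).trans normalizerIn_le

theorem kNorm_le_normalizerIn : kNorm S K ≤ normalizerIn S Q := Subgroup.map_subtype_le _

theorem centralizerIn_le_kNorm : centralizerIn S Q ≤ kNorm S K := fun x hx => by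
  refine mem_kNorm.2 ⟨centralizerIn_le_normalizerIn hx, ?_⟩
  rw [show conjAut (centralizerIn_le_normalizerIn hx).2 = 1 from
    conjAutIn_eq_one_iff (x := ⟨x, centralizerIn_le_normalizerIn hx⟩) |>.2 hx]
  exact K.one_mem

theorem onQ_conjMap {x : Ω} (hx : x ∈ kNorm S K) : OnQ K (conjMap x) := by
  obtain ⟨hn, hK⟩ := mem_kNorm.1 hx
  exact ⟨_, hK, fun q hq => (autMap_conjAut hn.2 hq).symm⟩

/-- `E` over `T` is the system `N^K_F(Q)`. -/
structure IsKSys {T : Subgroup Ω} (F : FusionSystem S) (K : Subgroup (MulAut Q))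
    (E : FusionSystem T) : Prop where
  mem_iff : ∀ x, x ∈ T ↔ x ∈ kNorm S K
  map_iff : ∀ P f, IsMap E P f ↔ P ≤ T ∧ (∀ x ∈ P, f x ∈ T) ∧
    ∃ g, IsMap F (P ⊔ Q) g ∧ (∀ x ∈ P, g x = f x) ∧ OnQ K g

/-- The system `N^K_F(Q)`. -/
def kSys (F : FusionSystem S) (hQ : Q ≤ S) (K : Subgroup (MulAut Q)) :
    FusionSystem (kNorm S K) where
  Hom P := {φ | P ≤ kNorm S K ∧ (∀ x : P, φ x ∈ kNorm S K) ∧
    ∃ g, IsMap F (P ⊔ Q) g ∧ (∀ x : P, g x = φ x) ∧ OnQ K g}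
  le_of_mem h := ⟨h.1, h.2.1⟩
  injective_of_mem := by
    rintro P φ ⟨-, -, g, hg, he, -⟩ a b hab
    exact Subtype.ext (hg.injOn (Subgroup.mem_sup_left a.2) (Subgroup.mem_sup_left b.2)
      (by rw [he, he, hab]))
  conj_mem := by
    intro P a hP ha
    exact ⟨hP, fun x => mul_mem (mul_mem ha (hP x.2)) (inv_mem ha), conjMap a,
      isMap_conj F (sup_le (hP.trans kNorm_le) hQ) (kNorm_le ha), fun _ => rfl, onQ_conjMap ha⟩
  comp_mem := by
    rintro P R φ ψ ⟨hP, hφT, g, hg, hge, hgQ⟩ ⟨-, hψT, k, hk, hke, hkQ⟩ h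
    refine ⟨hP, fun x => hψT _, k ∘ g, hg.comp hk fun x hx => hg.mapsTo_sup
      (fun y hy => Subgroup.mem_sup_left (hge ⟨y, hy⟩ ▸ h ⟨y, hy⟩))
      (fun y hy => Subgroup.mem_sup_right (hgQ.mem hy)) hx, fun x => ?_, hgQ.comp hkQ⟩
    show k (g x) = ψ ⟨φ x, h x⟩
    rw [hge x]
    exact hke ⟨φ x, h x⟩
  inv_mem := by
    rintro P φ ⟨hP, hφT, g, hg, hge, hgQ⟩
    obtain ⟨k, hk, hkg⟩ := hg.exists_inv
    obtain ⟨ψ, hψ, hψe⟩ := F.inv_mem (mem_hom_of_isMap (hg.mono le_sup_left) fun x => (hge x).symm)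
    have hle : φ.range ⊔ Q ≤ imgSub g (P ⊔ Q) := by
      refine sup_le ?_ fun y hy => ?_
      · rintro _ ⟨x, rfl⟩
        exact hg.mem_imgSub.2 ⟨x, Subgroup.mem_sup_left x.2, hge x⟩
      · obtain ⟨κ, -, hκ⟩ := hgQ
        refine hg.mem_imgSub.2 ⟨_, Subgroup.mem_sup_right (autMap_mem κ⁻¹ hy), ?_⟩
        rw [hκ _ (autMap_mem κ⁻¹ hy), ← autMap_mul _ _ hy, mul_inv_cancel, autMap_one hy]
    refine ⟨ψ, ⟨?_, fun y => ?_, k, hk.mono hle, fun y => ?_,
      hgQ.of_inverse fun q hq => hkg q (Subgroup.mem_sup_right hq)⟩, hψe⟩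
    · rintro _ ⟨x, rfl⟩
      exact hφT x
    · obtain ⟨_, x, rfl⟩ := y
      rw [hψe x]
      exact hP x.2
    · obtain ⟨_, x, rfl⟩ := y
      show k (φ x) = _
      rw [hψe x, ← hge x, hkg x (Subgroup.mem_sup_left x.2)]

theorem isKSys_kSys (F : FusionSystem S) (hQ : Q ≤ S) (K : Subgroup (MulAut Q)) :
    IsKSys F K (kSys F hQ K) := by
  refine ⟨fun x => Iff.rfl, fun P f => ⟨?_, ?_⟩⟩
  · rintro ⟨φ, ⟨hP, hT, g, hg, he, hgQ⟩, hf⟩
    exact ⟨hP, fun x hx => hf ⟨x, hx⟩ ▸ hT ⟨x, hx⟩, g, hg,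
      fun x hx => (he ⟨x, hx⟩).trans (hf ⟨x, hx⟩), hgQ⟩
  · rintro ⟨hP, hT, g, hg, he, hgQ⟩
    obtain ⟨φ, -, hf⟩ := (hg.mono le_sup_left).congr fun x hx => (he x hx).symm
    exact ⟨φ, ⟨hP, fun x => (hf x).symm ▸ hT x x.2, g, hg,
      fun x => (he x x.2).trans (hf x).symm, hgQ⟩, hf⟩

theorem card_eq_ker_mul_range {G H : Type*} [Group G] [Group H] (f : G →* H) :
    Nat.card G = Nat.card f.ker * Nat.card f.range := by
  rw [Subgroup.card_eq_card_quotient_mul_card_subgroup f.ker,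
    Nat.card_congr (QuotientGroup.quotientKerEquivRange f).toEquiv, mul_comm]

section Saturation

variable [Finite S] {p : ℕ} [Fact p.Prime] {T : Subgroup Ω} {E : FusionSystem T}

/-- The automorphisms of `U` in `F` stabilizing the trace of `P` and acting on `Q` through `K`. -/
noncomputable def kStab (F : FusionSystem S) (K : Subgroup (MulAut Q)) (U P : Subgroup Ω) (hQU : Q ≤ U) :
    Subgroup (MulAut U) :=
  F.autGroup U ⊓ (traceStab U P ⊓ (K.comap (traceRes hQU)).map (traceStab U Q).subtype)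

theorem mem_kStab {U : Subgroup Ω} (hQU : Q ≤ U) {γ : MulAut U} :
    γ ∈ kStab F K U P hQU ↔ γ ∈ F.autGroup U ∧ γ ∈ traceStab U P ∧
      ∃ h : γ ∈ traceStab U Q, traceRes hQU ⟨γ, h⟩ ∈ K := by
  refine ⟨fun ⟨h1, h2, h3⟩ => ⟨h1, h2, ?_⟩, fun ⟨h1, h2, h, h3⟩ => ⟨h1, h2, ⟨γ, h⟩, h3, rfl⟩⟩
  obtain ⟨⟨γ', h⟩, h4, rfl⟩ := h3
  exact ⟨h, h4⟩

theorem mem_kStab_of_onQ [Finite Q] [Finite P] {U : Subgroup Ω} (hQU : Q ≤ U) (hPU : P ≤ U)
    {γ : MulAut U} (h1 : γ ∈ F.autGroup U) (h2 : ∀ x ∈ P, autMap γ x ∈ P)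
    (h3 : OnQ K (autMap γ)) : γ ∈ kStab F K U P hQU := by
  have h := mem_traceStab hQU fun x hx => h3.mem hx
  obtain ⟨κ, hκ, he⟩ := h3
  refine (mem_kStab hQU).2 ⟨h1, mem_traceStab hPU h2, h, ?_⟩
  rwa [show traceRes hQU ⟨γ, h⟩ = κ from aut_ext fun q hq => by
    rw [autMap_traceRes hQU _ hq]; exact he q hq]

theorem onQ_of_mem_kStab {U : Subgroup Ω} (hQU : Q ≤ U) {γ : MulAut U}
    (h : γ ∈ kStab F K U P hQU) : OnQ K (autMap γ) := by
  obtain ⟨-, -, h1, h2⟩ := (mem_kStab hQU).1 h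
  exact ⟨_, h2, fun q hq => (autMap_traceRes hQU ⟨γ, h1⟩ hq).symm⟩

theorem maps_of_mem_kStab {U : Subgroup Ω} (hQU : Q ≤ U) (hPU : P ≤ U) {γ : MulAut U}
    (h : γ ∈ kStab F K U P hQU) {x : Ω} (hx : x ∈ P) : autMap γ x ∈ P :=
  autMap_mem_of_stab ((mem_kStab hQU).1 h).2.1 hPU hx

/-- `N^K_F(Q)` is saturated when `Q` is receptive and `Aut^K_S(Q)` is Sylow in `Aut^K_F(Q)`. -/
theorem isSaturated_of_isKSys (hS : IsPGroup p S) (hF : F.IsSaturated p) (hQr : F.IsReceptive Q)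
    (hK : ¬ p ∣ (autInducedBy S Q ⊓ K).relIndex (F.autGroup Q ⊓ K)) (hE : IsKSys F K E) :
    E.IsSaturated p := by
  classical
  have hQS := hQr.1
  obtain rfl : T = kNorm S K := SetLike.ext hE.mem_iff
  have hTS : kNorm S K ≤ S := kNorm_le
  haveI := finite_of_le hTS
  have hTp : IsPGroup p (kNorm S K) := hS.to_le hTS
  intro P₀ hP₀
  obtain ⟨P, hP₀P, hPn⟩ := exists_isFullyNormalized E hP₀
  have hPT := hPn.1
  have hPS := hPT.trans hTS
  set U := P ⊔ Q with hUdef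
  have hPU : P ≤ U := le_sup_left
  have hQU : Q ≤ U := le_sup_right
  have hU : U ≤ S := sup_le hPS hQS
  haveI := finite_of_le hQS
  haveI := finite_of_le hPS
  haveI := finite_of_le hU
  haveI := finite_mulAut_of_le hU
  haveI := finite_mulAut_of_le hQS
  set G := kStab F K U P hQU with hGdef
  -- `N_T(P) → Aut(U)`
  set NP := normalizerIn (kNorm S K) P with hNP
  have hNPU : NP ≤ normalizerIn S U := fun x hx => ⟨hTS hx.1,
    normalizer_sup (F := F) hPS hQS (hTS hx.1) hx.2 (kNorm_le_normalizerIn hx.1).2⟩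
  let d : NP →* MulAut U := (conjAutIn S U).comp (Subgroup.inclusion hNPU)
  have hd : ∀ (x : NP) {y : Ω}, y ∈ U → autMap (d x) y = (x : Ω) * y * (x : Ω)⁻¹ := fun x y hy =>
    autMap_conjAut (hNPU x.2).2 hy
  have hdG : ∀ x : NP, d x ∈ G := fun x =>
    mem_kStab_of_onQ hQU hPU (conjAut_mem_autGroup F hU (hNPU x.2))
      (fun y hy => by rw [hd x (hPU hy)]; exact conj_mem_of_mem_normalizerIn x.2 hy)
      (by
        obtain ⟨κ, hκ, he⟩ := onQ_conjMap (K := K) x.2.1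
        exact ⟨κ, hκ, fun q hq => (hd x (hQU hq)).trans (he q hq)⟩)
  have hdker : Nat.card d.ker = Nat.card (centralizerIn S U) := by
    refine Nat.card_congr ⟨fun x => ⟨((x : NP) : Ω), conjAutIn_eq_one_iff.1 x.2⟩,
      fun c => ⟨⟨c, centralizerIn_le_kNorm ?_, ?_⟩,
        conjAutIn_eq_one_iff (x := ⟨(c : Ω), centralizerIn_le_normalizerIn c.2⟩) |>.2 c.2⟩,
      fun x => Subtype.ext (Subtype.ext rfl), fun c => Subtype.ext rfl⟩
    · obtain ⟨h1, h2⟩ := FusionSys.mem_centralizerIn.1 c.2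
      exact FusionSys.mem_centralizerIn.2 ⟨h1, fun y hy => h2 y (hQU hy)⟩
    · refine mem_normalizer_of_maps fun y hy => ?_
      rw [← (FusionSys.mem_centralizerIn.1 c.2).2 y (hPU hy), mul_inv_cancel_right]
      exact hy
  have hcardNP : Nat.card NP = Nat.card (centralizerIn S U) * Nat.card d.range := by
    rw [← hdker]
    exact card_eq_ker_mul_range d
  have hdrp : IsPGroup p d.range :=
    (hTp.to_le inf_le_left).of_surjective d.rangeRestrict d.rangeRestrict_surjective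
  obtain ⟨R, hR⟩ := (hdrp.comap_of_injective G.subtype G.subtype_injective).exists_le_sylow
  set Rm : Subgroup (MulAut U) := (R : Subgroup G).map G.subtype with hRm
  have hdRm : d.range ≤ Rm := by
    rintro _ ⟨x, rfl⟩
    exact ⟨⟨d x, hdG x⟩, hR (show (⟨d x, hdG x⟩ : G) ∈ d.range.comap G.subtype from ⟨x, rfl⟩), rfl⟩
  have hRmG : Rm ≤ G := Subgroup.map_subtype_le _
  have hRmp : IsPGroup p Rm := R.2.map _
  -- move `U` to a fully normalized conjugate, with `Rm` going into `Aut_S`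
  obtain ⟨U', hUU', hU'n⟩ := exists_isFullyNormalized F hU
  obtain ⟨u, hu⟩ := isConj_iff.1 hUU'
  haveI := finite_of_le hU'n.1
  haveI := finite_autGroup F hU'n.1
  obtain ⟨-, SU, hSU⟩ := isFullyAutomized_of_isFullyNormalized hS hF hU'n
  have hRmu : IsPGroup p ((Rm.map hu.autEquiv.toMonoidHom).subgroupOf (F.autGroup U')) :=
    (hRmp.map _).of_equiv (Subgroup.subgroupOfEquivOfLe (by
      rintro _ ⟨r, hr, rfl⟩
      exact hu.autEquiv_mem_autGroup (hRmG hr).1)).symm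
  obtain ⟨SU', hSU'⟩ := hRmu.exists_le_sylow
  obtain ⟨χ, hχ⟩ := MulAction.exists_smul_eq (F.autGroup U') SU' SU
  set v := autMap (χ : MulAut U') ∘ u with hv
  have hvi : IsIso F U U' v := hu.comp (isIso_autMap hU'n.1 χ.2)
  have hvr : ∀ r ∈ Rm, hvi.autEquiv r ∈ autInducedBy S U' := by
    intro r hr
    have he : hvi.autEquiv r = (χ : MulAut U') * hu.autEquiv r * (χ : MulAut U')⁻¹ := by
      refine aut_ext fun z hz => ?_
      obtain ⟨y, hy, rfl⟩ := hvi.exists_preimage hz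
      rw [hvi.autMap_autEquiv _ hy, autMap_mul _ _ (hvi.mem hy),
        autMap_mul _ _ (autMap_mem _ (hvi.mem hy))]
      show autMap _ (u (autMap r y)) =
        autMap _ (autMap (hu.autEquiv r) (autMap (χ : MulAut U')⁻¹ (autMap (χ : MulAut U') (u y))))
      rw [← autMap_mul _ _ (hu.mem hy), inv_mul_cancel, autMap_one (hu.mem hy),
        hu.autMap_autEquiv _ hy]
    rw [he]
    have h1 : χ * ⟨hu.autEquiv r, hu.autEquiv_mem_autGroup (hRmG hr).1⟩ * χ⁻¹ ∈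
        ((χ • SU' : Sylow p (F.autGroup U')) : Subgroup (F.autGroup U')) := by
      rw [Sylow.coe_subgroup_smul]
      exact ⟨_, hSU' (show (⟨hu.autEquiv r, hu.autEquiv_mem_autGroup (hRmG hr).1⟩ : F.autGroup U') ∈
        (Rm.map hu.autEquiv.toMonoidHom).subgroupOf _ from ⟨r, hr, rfl⟩), rfl⟩
    rw [hχ, hSU] at h1
    exact h1
  set T'' : Subgroup (normalizerIn S U') :=
    (Rm.map hvi.autEquiv.toMonoidHom).comap (conjAutIn S U') with hT''
  let τ : T'' →* MulAut U := hvi.autEquiv.symm.toMonoidHom.comp ((conjAutIn S U').comp T''.subtype)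
  have hτ : ∀ s : T'', τ s ∈ Rm := by
    rintro ⟨s, r, hr, he⟩
    show hvi.autEquiv.symm (conjAutIn S U' s) ∈ Rm
    rw [← he]
    show hvi.autEquiv.symm (hvi.autEquiv r) ∈ Rm
    rwa [MulEquiv.symm_apply_apply]
  have hτv : ∀ (s : T'') (y : Ω), y ∈ U →
      v (autMap (τ s) y) = ((s : normalizerIn S U') : Ω) * v y * ((s : normalizerIn S U') : Ω)⁻¹ := by
    intro s y hy
    rw [← hvi.autMap_autEquiv _ hy,
      show hvi.autEquiv (τ s) = conjAut (s : normalizerIn S U').2.2 from MulEquiv.apply_symm_apply _ _,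
      autMap_conjAut _ (hvi.mem hy)]
    rfl
  have hτrange : τ.range = Rm := by
    refine le_antisymm (fun r ⟨s, hs⟩ => hs ▸ hτ s) fun r hr => ?_
    obtain ⟨s, hs⟩ := (range_conjAutIn S U').symm.le (hvr r hr)
    refine ⟨⟨s, r, hr, hs.symm⟩, ?_⟩
    show hvi.autEquiv.symm (conjAutIn S U' s) = r
    rw [hs, MulEquiv.symm_apply_apply]
  have hτker : Nat.card τ.ker = Nat.card (centralizerIn S U') := by
    refine Nat.card_congr ⟨fun x => ⟨(((x : T'') : normalizerIn S U') : Ω), conjAutIn_eq_one_iff.1 ?_⟩,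
      fun c => ⟨⟨⟨c, centralizerIn_le_normalizerIn c.2⟩, ?_⟩, ?_⟩,
      fun x => Subtype.ext (Subtype.ext (Subtype.ext rfl)), fun c => Subtype.ext rfl⟩
    · exact hvi.autEquiv.symm.injective (x.2.trans (map_one hvi.autEquiv.symm).symm)
    · show conjAutIn S U' ⟨(c : Ω), centralizerIn_le_normalizerIn c.2⟩ ∈
        Rm.map hvi.autEquiv.toMonoidHom
      rw [conjAutIn_eq_one_iff.2 c.2]
      exact one_mem _
    · show hvi.autEquiv.symm (conjAutIn S U' ⟨(c : Ω), centralizerIn_le_normalizerIn c.2⟩) = 1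
      rw [conjAutIn_eq_one_iff.2 c.2, map_one]
  have hcardT'' : Nat.card T'' = Nat.card (centralizerIn S U') * Nat.card Rm := by
    rw [← hτker, ← hτrange]
    exact card_eq_ker_mul_range τ
  -- bring `v(Q)` back to `Q`
  have hvQ : IsIso F Q (imgSub v Q) v := (hvi.isMap.mono hQU).isIso
  obtain ⟨w, hw, hwv, -⟩ := hvQ.exists_symm
  let ρ : T'' →* MulAut Q := (traceRes hQU).comp ((τ.codRestrict (traceStab U Q)
    fun s => ((mem_kStab hQU).1 (hRmG (hτ s))).2.2.1))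
  have hρ : ∀ (s : T'') (q : Ω), q ∈ Q → autMap (ρ s) q = autMap (τ s) q := fun s q hq =>
    autMap_traceRes hQU _ hq
  have hρK : ∀ s : T'', ρ s ∈ F.autGroup Q ⊓ K := fun s =>
    ⟨mem_autGroup_of_isMap ((((mem_autGroup_iff hU).1 (hRmG (hτ s)).1).mono hQU).congr
      fun q hq => hρ s q hq), ((mem_kStab hQU).1 (hRmG (hτ s))).2.2.2⟩
  obtain ⟨κ₀, hκ₀, hκ₀c⟩ : ∃ κ₀ ∈ F.autGroup Q ⊓ K, ∀ s : T'',
      κ₀ * ρ s * κ₀⁻¹ ∈ autInducedBy S Q ⊓ K := by
    set AK := F.autGroup Q ⊓ K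
    have hleK : autInducedBy S Q ⊓ K ≤ AK := inf_le_inf_right K (autInducedBy_le_autGroup F hQS)
    have hp1 : IsPGroup p ((autInducedBy S Q ⊓ K).subgroupOf AK) :=
      ((isPGroup_autInducedBy hS Q).to_le inf_le_left).of_equiv (Subgroup.subgroupOfEquivOfLe hleK).symm
    have hp2 : IsPGroup p (ρ.codRestrict AK hρK).range :=
      ((isPGroup_normalizerIn hS U').to_subgroup T'').of_surjective _
        (ρ.codRestrict AK hρK).rangeRestrict_surjective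
    obtain ⟨S₁, hS₁⟩ := hp2.exists_le_sylow
    obtain ⟨κ, hκ⟩ := MulAction.exists_smul_eq AK S₁ (hp1.toSylow hK)
    refine ⟨κ, κ.2, fun s => ?_⟩
    have h1 : κ * ⟨ρ s, hρK s⟩ * κ⁻¹ ∈ ((κ • S₁ : Sylow p AK) : Subgroup AK) := by
      rw [Sylow.coe_subgroup_smul]
      exact ⟨_, hS₁ ⟨s, rfl⟩, rfl⟩
    rw [hκ] at h1
    exact h1
  set f₀ := autMap κ₀ ∘ w with hf₀
  have hf₀i : IsIso F (imgSub v Q) Q f₀ := hw.comp (isIso_autMap hQS hκ₀.1)
  have hf₀v : ∀ q ∈ Q, f₀ (v q) = autMap κ₀ q := fun q hq => by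
    rw [hf₀, Function.comp_apply, hwv q hq]
  set T''' : Subgroup Ω := T''.map (normalizerIn S U').subtype with hT'''
  haveI := finite_of_le hvQ.target_le
  have hvQn : ∀ s : T'', ((s : normalizerIn S U') : Ω) ∈ Subgroup.normalizer (imgSub v Q : Set Ω) :=
    fun s => mem_normalizer_of_maps fun z hz => by
      obtain ⟨q, hq, rfl⟩ := hvQ.exists_preimage hz
      rw [← hτv s q (hQU hq)]
      exact hvQ.mem ((onQ_of_mem_kStab hQU (hRmG (hτ s))).mem hq)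
  have hρw : ∀ (s : T'') (q : Ω), q ∈ Q → f₀ (((s : normalizerIn S U') : Ω) * v q *
      ((s : normalizerIn S U') : Ω)⁻¹) = autMap (κ₀ * ρ s * κ₀⁻¹) (f₀ (v q)) := by
    intro s q hq
    rw [← hτv s q (hQU hq), hf₀v _ ((onQ_of_mem_kStab hQU (hRmG (hτ s))).mem hq), hf₀v q hq,
      autMap_mul _ _ (autMap_mem _ hq), ← autMap_mul κ₀⁻¹ _ hq, inv_mul_cancel, autMap_one hq,
      autMap_mul _ _ hq, hρ s q hq]
  obtain ⟨h, hh, hhe⟩ := receptive_extend hQr hf₀i (N := T''') (by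
    rintro _ ⟨s, hs, rfl⟩
    obtain ⟨a, haS, han, hae⟩ := mem_autInducedBy.1 (hκ₀c ⟨s, hs⟩).1
    refine ⟨s.2.1, hvQn ⟨s, hs⟩, a, haS, fun z hz => ?_⟩
    obtain ⟨q, hq, rfl⟩ := hvQ.exists_preimage hz
    refine (hρw ⟨s, hs⟩ q hq).trans ?_
    rw [show κ₀ * ρ ⟨s, hs⟩ * κ₀⁻¹ = conjAut han from hae, autMap_conjAut han (hf₀i.mem (hvQ.mem hq))]
    rfl)
  have hvQle : imgSub v Q ≤ T''' ⊔ imgSub v Q := le_sup_right
  have hhq : ∀ q ∈ Q, h (v q) = autMap κ₀ q := fun q hq => (hhe _ (hvQ.mem hq)).trans (hf₀v q hq)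
  have hkey : ∀ s : T'', h ((s : normalizerIn S U') : Ω) ∈ kNorm S K := by
    intro s
    have hsm : ((s : normalizerIn S U') : Ω) ∈ T''' ⊔ imgSub v Q :=
      Subgroup.mem_sup_left ⟨_, s.2, rfl⟩
    have hq' : ∀ q ∈ Q, h ((s : normalizerIn S U') : Ω) * q * (h ((s : normalizerIn S U') : Ω))⁻¹ =
        autMap (κ₀ * ρ s * κ₀⁻¹) q := by
      intro q hq
      obtain ⟨z, hz, rfl⟩ := hf₀i.exists_preimage hq
      obtain ⟨q', hq', rfl⟩ := hvQ.exists_preimage hz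
      rw [← hhe _ hz, ← hh.map_conj hsm (hvQle hz),
        hhe _ ((Subgroup.mem_normalizer_iff.1 (hvQn s) _).1 hz), hhe _ hz, hρw s q' hq']
    have hn : h ((s : normalizerIn S U') : Ω) ∈ normalizerIn S Q :=
      ⟨hh.mem_S hsm, mem_normalizer_of_maps fun q hq => hq' q hq ▸ autMap_mem _ hq⟩
    refine mem_kNorm.2 ⟨hn, ?_⟩
    rw [show conjAut hn.2 = κ₀ * ρ s * κ₀⁻¹ from aut_ext fun q hq =>
      (autMap_conjAut hn.2 hq).trans (hq' q hq)]
    exact (hκ₀c s).2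
  have hPT'' : ∀ x ∈ P, v x ∈ T''' := by
    intro x hx
    have hxn : x ∈ NP := le_normalizerIn_self hPT hx
    have hvx : v x ∈ normalizerIn S U' := le_normalizerIn_self hU'n.1 (hvi.mem (hPU hx))
    refine ⟨⟨v x, hvx⟩, ⟨d ⟨x, hxn⟩, hdRm ⟨_, rfl⟩, aut_ext fun z hz => ?_⟩, rfl⟩
    obtain ⟨y, hy, rfl⟩ := hvi.exists_preimage hz
    show autMap (hvi.autEquiv (d ⟨x, hxn⟩)) (v y) = autMap (conjAut hvx.2) (v y)
    rw [hvi.autMap_autEquiv _ hy, hd ⟨x, hxn⟩ hy, autMap_conjAut _ (hvi.mem hy), conjMap_apply,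
      hvi.isMap.map_conj (hPU hx) hy]
  have hU'le : ∀ z ∈ U, v z ∈ T''' ⊔ imgSub v Q := fun z hz => hvi.isMap.mapsTo_sup
    (fun x hx => Subgroup.mem_sup_left (hPT'' x hx))
    (fun x hx => Subgroup.mem_sup_right (hvQ.mem hx)) hz
  have hhv : IsMap F U (h ∘ v) := hvi.isMap.comp hh hU'le
  have hhvQ : OnQ K (h ∘ v) := ⟨κ₀, hκ₀.2, fun q hq => hhq q hq⟩
  have hhvT : ∀ x ∈ P, (h ∘ v) x ∈ kNorm S K := fun x hx => by
    obtain ⟨s, hs, he⟩ := hPT'' x hx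
    show h (v x) ∈ _
    rw [← he]
    exact hkey ⟨s, hs⟩
  have hE' : IsMap E P (h ∘ v) := (hE.map_iff _ _).2 ⟨hPT, hhvT, h ∘ v, hhv, fun _ _ => rfl, hhvQ⟩
  have hP'T := hE'.imgSub_le
  haveI := finite_of_le hP'T
  have hle : Nat.card T'' ≤ Nat.card (normalizerIn (kNorm S K) (imgSub (h ∘ v) P)) := by
    have hc : Nat.card T'' = Nat.card T''' :=
      (Subgroup.card_map_of_injective (Subgroup.subtype_injective _)).symm
    rw [hc]
    haveI := finite_of_le (S := S) (P := normalizerIn (kNorm S K) (imgSub (h ∘ v) P))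
      (normalizerIn_le.trans hTS)
    refine card_le_of_mapsTo hh le_sup_left ?_
    rintro _ ⟨s, hs, rfl⟩
    refine ⟨hkey ⟨s, hs⟩, mem_normalizer_of_maps fun z hz => ?_⟩
    obtain ⟨x, hx, rfl⟩ := hE'.mem_imgSub.1 hz
    have hsx := hτv ⟨s, hs⟩ x (hPU hx)
    have h2 := maps_of_mem_kStab hQU hPU (hRmG (hτ ⟨s, hs⟩)) hx
    refine hE'.mem_imgSub.2 ⟨_, h2, ?_⟩
    show h (v (autMap (τ ⟨s, hs⟩) x)) = _
    rw [hsx]
    exact hh.map_conj (Subgroup.mem_sup_left ⟨s, hs, rfl⟩) (hU'le x (hPU hx))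
  -- maximality gives equality everywhere
  have hUc := isFullyCentralized_of_isFullyNormalized hS hF hU'n
  have hcU : Nat.card (centralizerIn S U) ≤ Nat.card (centralizerIn S U') :=
    hUc.2 U (isConj_symm hUU')
  have hmax := hle.trans (hPn.2 _ hE'.isIso.isConj)
  rw [hcardT'', show normalizerIn (kNorm S K) P = NP from rfl, hcardNP] at hmax
  haveI : Finite Rm := Subtype.finite
  haveI := finite_of_le (S := S) (P := centralizerIn S U) centralizerIn_le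
  have hr : Nat.card d.range ≤ Nat.card Rm := Subgroup.card_le_of_le hdRm
  have heq : d.range = Rm := by
    refine Subgroup.eq_of_le_of_card_ge hdRm ?_
    by_contra hlt
    exact absurd hmax (not_le.2 (lt_of_lt_of_le (Nat.mul_lt_mul_of_pos_left (not_le.1 hlt) Nat.card_pos)
      (Nat.mul_le_mul_right _ hcU)))
  have hUr : F.IsReceptive U := by
    refine receptive_of_isFullyCentralized hS hF ((isFullyCentralized_iff_of_isConj hUc
      (isConj_symm hUU')).2 (le_antisymm hcU ?_))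
    rw [heq] at hmax
    exact Nat.le_of_mul_le_mul_right hmax Nat.card_pos
  -- fully automized
  let rP : G →* MulAut P := (traceRes hPU).comp
    ((G.subtype).codRestrict (traceStab U P) fun γ => ((mem_kStab hQU).1 γ.2).2.1)
  have hrP : ∀ (γ : G) (x : Ω), x ∈ P → autMap (rP γ) x = autMap (γ : MulAut U) x := fun γ x hx =>
    autMap_traceRes hPU _ hx
  have hdnorm : ∀ (x : NP), rP ⟨d x, hdG x⟩ ∈ autInducedBy (kNorm S K) P := fun x => by
    refine mem_autInducedBy.2 ⟨x, x.2.1, x.2.2, aut_ext fun y hy => ?_⟩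
    rw [hrP _ y hy, hd x (hPU hy), autMap_conjAut _ hy]
    rfl
  have hRr : ∀ γ ∈ (R : Subgroup G), ∃ x : NP, d x = (γ : MulAut U) := fun γ hγ =>
    heq.symm.le ⟨γ, hγ, rfl⟩
  refine ⟨P, hP₀P, ?_, ?_⟩
  · have hmemE : ∀ γ : G, rP γ ∈ E.autGroup P := fun γ => mem_autGroup_of_isMap
      ((hE.map_iff _ _).2 ⟨hPT, fun x hx => hPT (autMap_mem _ hx), _, (mem_autGroup_iff hU).1 γ.2.1,
        fun x hx => (hrP γ x hx).symm, onQ_of_mem_kStab hQU γ.2⟩)
    have hsurj : Function.Surjective (rP.codRestrict _ hmemE) := by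
      rintro ⟨α, hα⟩
      obtain ⟨-, -, g, hg, hge, hgQ⟩ := (hE.map_iff _ _).1 ((mem_autGroup_iff hPT).1 hα)
      obtain ⟨γ, hγ, hγe⟩ := (isIso_of_mapsTo hg fun x hx => hg.mapsTo_sup
        (fun a ha => Subgroup.mem_sup_left (hge a ha ▸ autMap_mem α ha))
        (fun a ha => Subgroup.mem_sup_right (hgQ.mem ha)) hx).exists_aut
      have hγG : γ ∈ G := mem_kStab_of_onQ hQU hPU hγ
        (fun y hy => by rw [hγe y (hPU hy), hge y hy]; exact autMap_mem α hy)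
        (by
          obtain ⟨κ, hκ, he⟩ := hgQ
          exact ⟨κ, hκ, fun q hq => (hγe q (hQU hq)).trans (he q hq)⟩)
      refine ⟨⟨γ, hγG⟩, Subtype.ext (aut_ext fun y hy => ?_)⟩
      show autMap (rP ⟨γ, hγG⟩) y = autMap α y
      rw [hrP _ y hy, hγe y (hPU hy), hge y hy]
    rw [isFullyAutomized_iff hTp]
    refine ⟨hPT, fun hdvd => R.not_dvd_index ?_⟩
    refine (hdvd.trans (Subgroup.index_dvd_of_le ?_)).trans
      (Subgroup.index_map_dvd (R : Subgroup G) hsurj)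
    rintro _ ⟨γ, hγ, rfl⟩
    obtain ⟨x, hx⟩ := hRr γ hγ
    show rP γ ∈ autInducedBy (kNorm S K) P
    rw [show γ = ⟨d x, hdG x⟩ from Subtype.ext hx.symm]
    exact hdnorm x
  · refine receptive_of_extend hPT fun P₁ f N hf hPN hN => ?_
    obtain ⟨hP₁T, -, g, hg, hge, hgQ⟩ := (hE.map_iff _ _).1 hf.isMap
    have hP₁S := hP₁T.trans hTS
    have hQiso : IsIso F Q Q g := isIso_of_mapsTo (hg.mono le_sup_right) fun q hq => hgQ.mem hq
    have hP₁iso : imgSub g P₁ = P :=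
      ((IsIso.mk (hg.mono le_sup_left) (by rw [Set.image_congr hge]; exact hf.image_eq) :
        IsIso F P₁ P g)).eq_imgSub.symm
    have hU₁ : IsIso F (P₁ ⊔ Q) U g := by
      have h := hg.isIso
      rwa [imgSub_sup hg, ← hQiso.eq_imgSub, hP₁iso] at h
    have hNn : N ≤ normalizerIn S (P₁ ⊔ Q) := fun x hx =>
      have hxT : x ∈ kNorm S K := ((hN x).1 hx).1
      ⟨hTS hxT, normalizer_sup (F := F) hP₁S hQS (hTS hxT) ((hN x).1 hx).2.1
        (kNorm_le_normalizerIn hxT).2⟩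
    let δ₀ : N →* MulAut U :=
      hU₁.autEquiv.toMonoidHom.comp ((conjAutIn S (P₁ ⊔ Q)).comp (Subgroup.inclusion hNn))
    have hδ : ∀ (x : N) (y : Ω), y ∈ P₁ ⊔ Q → autMap (δ₀ x) (g y) = g ((x : Ω) * y * (x : Ω)⁻¹) := by
      intro x y hy
      show autMap (hU₁.autEquiv (conjAut (hNn x.2).2)) (g y) = _
      rw [hU₁.autMap_autEquiv _ hy, autMap_conjAut _ hy]
      rfl
    have hδG : ∀ x : N, δ₀ x ∈ G := by
      intro x
      obtain ⟨hxT, hxn, -⟩ := (hN x).1 x.2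
      refine mem_kStab_of_onQ hQU hPU (hU₁.autEquiv_mem_autGroup
        (conjAut_mem_autGroup F (sup_le hP₁S hQS) (hNn x.2))) (fun y hy => ?_) ?_
      · obtain ⟨w, hw, rfl⟩ := hf.exists_preimage hy
        have hw' := (Subgroup.mem_normalizer_iff.1 hxn w).1 hw
        rw [← hge w hw, hδ x w (Subgroup.mem_sup_left hw), hge _ hw']
        exact hf.mem hw'
      · obtain ⟨κ, hκ, he⟩ := onQ_conjMap (K := K) hxT
        obtain ⟨κ', hκ', he'⟩ := hgQ
        refine ⟨κ' * κ * κ'⁻¹, K.mul_mem (K.mul_mem hκ' hκ) (K.inv_mem hκ'), fun q hq => ?_⟩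
        obtain ⟨w, hw, rfl⟩ := hQiso.exists_preimage hq
        rw [hδ x w (Subgroup.mem_sup_right hw), show (x : Ω) * w * (x : Ω)⁻¹ = autMap κ w from he w hw,
          he' _ (autMap_mem κ hw), he' w hw, autMap_mul _ _ (autMap_mem κ' hw),
          ← autMap_mul κ'⁻¹ _ hw, inv_mul_cancel, autMap_one hw, autMap_mul _ _ hw]
    let δ : N →* G := δ₀.codRestrict _ hδG
    have hδp : IsPGroup p δ.range :=
      (hTp.to_le fun x hx => ((hN x).1 hx).1).of_surjective δ.rangeRestrict δ.rangeRestrict_surjective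
    obtain ⟨k, hk, hkc⟩ := exists_ker_conj rP R hδp (by
      rintro _ ⟨x, rfl⟩
      obtain ⟨-, hxn, a, ha, hae⟩ := (hN x).1 x.2
      have haP : a ∈ NP := ⟨ha, mem_normalizer_of_maps fun y hy => by
        obtain ⟨w, hw, rfl⟩ := hf.exists_preimage hy
        exact hae w hw ▸ hf.mem ((Subgroup.mem_normalizer_iff.1 hxn w).1 hw)⟩
      refine ⟨⟨d ⟨a, haP⟩, hdG _⟩, ?_, aut_ext fun y hy => ?_⟩
      · have hm : d ⟨a, haP⟩ ∈ Rm := hdRm ⟨_, rfl⟩
        obtain ⟨γ, hγ, hγe⟩ := hm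
        rwa [show (⟨d ⟨a, haP⟩, hdG _⟩ : G) = γ from Subtype.ext hγe.symm]
      obtain ⟨w, hw, rfl⟩ := hf.exists_preimage hy
      rw [hrP _ _ hy, hrP _ _ hy, hd ⟨a, haP⟩ (hPU hy), ← hae w hw,
        ← hge _ ((Subgroup.mem_normalizer_iff.1 hxn w).1 hw), ← hge w hw]
      exact hδ x w (Subgroup.mem_sup_left hw))
    set φ := autMap (k : MulAut U) ∘ g with hφ
    have hφi : IsIso F (P₁ ⊔ Q) U φ := hU₁.comp (isIso_autMap hU k.2.1)
    have hφP : ∀ y ∈ P₁, φ y = f y := by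
      intro y hy
      have h1 : autMap (rP k) (f y) = f y := by rw [hk, autMap_one (hf.mem hy)]
      rw [hrP k _ (hf.mem hy)] at h1
      show autMap _ (g y) = f y
      rw [hge y hy]
      exact h1
    obtain ⟨a, ha, hae⟩ := receptive_extend hUr hφi (N := N) fun x hx => by
      obtain ⟨y, hy⟩ := hRr _ (hkc _ ⟨⟨x, hx⟩, rfl⟩)
      refine ⟨hTS ((hN x).1 hx).1, (hNn hx).2, y, hTS y.2.1, fun z hz => ?_⟩
      have hgz : g z ∈ U := hU₁.mem hz
      have e := congrArg (fun b : MulAut U => autMap b (φ z))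
        (show (k : MulAut U) * δ₀ ⟨x, hx⟩ * (k : MulAut U)⁻¹ = d y from hy.symm)
      rw [autMap_mul _ _ (hφi.mem hz), autMap_mul _ _ (autMap_mem _ (hφi.mem hz)),
        hd y (hφi.mem hz)] at e
      rw [hφ, Function.comp_apply, ← autMap_mul _ _ hgz, inv_mul_cancel, autMap_one hgz,
        hδ ⟨x, hx⟩ z hz] at e
      exact e
    have hNQ : N ⊔ Q ≤ N ⊔ (P₁ ⊔ Q) := sup_le_sup_left le_sup_right N
    have haQ : OnQ K a := by
      obtain ⟨κ, hκ, he⟩ := hgQ.comp (onQ_of_mem_kStab hQU k.2)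
      exact ⟨κ, hκ, fun q hq => (hae q (Subgroup.mem_sup_right hq)).trans (he q hq)⟩
    refine ⟨a, (hE.map_iff _ _).2 ⟨fun x hx => ((hN x).1 hx).1, fun x hx => ?_, a, ha.mono hNQ,
      fun _ _ => rfl, haQ⟩, fun y hy => (hae y (Subgroup.mem_sup_left hy)).trans (hφP y hy)⟩
    obtain ⟨hxT, -, -⟩ := (hN x).1 hx
    obtain ⟨hxn, hxK⟩ := mem_kNorm.1 hxT
    obtain ⟨κ, hκ, he⟩ := haQ
    have hxm : x ∈ N ⊔ (P₁ ⊔ Q) := Subgroup.mem_sup_left hx
    have hq' : ∀ q ∈ Q, a x * q * (a x)⁻¹ = autMap (κ * conjAut hxn.2 * κ⁻¹) q := by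
      intro q hq
      have hw := autMap_mem κ⁻¹ hq
      have hq2 : a (autMap κ⁻¹ q) = q := by
        rw [he _ hw, ← autMap_mul _ _ hq, mul_inv_cancel, autMap_one hq]
      have hwm : autMap κ⁻¹ q ∈ N ⊔ (P₁ ⊔ Q) := Subgroup.mem_sup_right (Subgroup.mem_sup_right hw)
      rw [autMap_mul _ _ hq, autMap_mul _ _ hw, autMap_conjAut hxn.2 hw, conjMap_apply,
        ← he _ ((Subgroup.mem_normalizer_iff.1 hxn.2 _).1 hw), ha.map_conj hxm hwm, hq2]
    have hn : a x ∈ normalizerIn S Q :=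
      ⟨ha.mem_S hxm, mem_normalizer_of_maps fun q hq => hq' q hq ▸ autMap_mem _ hq⟩
    refine mem_kNorm.2 ⟨hn, ?_⟩
    rw [show conjAut hn.2 = κ * conjAut hxn.2 * κ⁻¹ from aut_ext fun q hq =>
      (autMap_conjAut hn.2 hq).trans (hq' q hq)]
    exact K.mul_mem (K.mul_mem hκ hxK) (K.inv_mem hκ)

end Saturation

end Cfsg.Agent.FusionSys
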