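import Cfsg.Agent.FusionSys.Centric
import Mathlib.GroupTheory.GroupAction.Quotient
import Mathlib.GroupTheory.OrderOfElement
import Mathlib.GroupTheory.Subgroup.Center

/-!
Models of constrained fusion systems, constructed without cohomology. For `Q` normal and centric in the
saturated system `F` let `A = Aut_F(Q)`, `R = Aut_S(Q)` and `X = A/R`. The group `Hat` of pairs of an
`a ∈ A` and lifts `X → S` of the `R`-valued cocycle of `a` is an extension of `A` by the functions `X → Z(Q)`;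
dividing it by the kernel of the norm map gives the model.
-/

set_option autoImplicit false

namespace Cfsg.Agent.FusionSys

open Cfsg Cfsg.FusionSystem Set
open scoped IsMulCommutative

universe u

variable {Ω : Type u} [Group Ω] {S : Subgroup Ω}

/-- The data for constructing a model: a normal centric subgroup of a saturated system. -/
structure Setup (F : FusionSystem S) (p : ℕ) where
  Q : Subgroup Ω
  isP : IsPGroup p S
  sat : F.IsSaturated p
  normal : F.IsNormal Q
  centric : F.IsCentric Q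

/-- Propagation of local solutions along the orbits: an equivariant choice for all points of an `N`-set. -/
theorem exists_equivariant {N X T : Type*} [Group N] [Group T] [MulAction N X] (κ κ' : N → X → T)
    (hκ : ∀ x y i, κ (x * y) i = κ x (y • i) * κ y i)
    (hκ' : ∀ x y i, κ' (x * y) i = κ' x (y • i) * κ' y i) (Good : X → T → Prop)
    (hGood : ∀ (x : N) i s, Good i s → Good (x • i) (κ' x i * s * (κ x i)⁻¹))
    (h : ∀ j, ∃ s, Good j s ∧ ∀ y : N, y • j = j → κ' y j * s = s * κ y j) :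
    ∃ s : X → T, ∀ i, Good i (s i) ∧ ∀ x : N, κ' x i * s i = s (x • i) * κ x i := by
  choose base hbase using fun o : Quotient (MulAction.orbitRel N X) => Quotient.exists_rep o
  let j : X → X := fun i => base ⟦i⟧
  have hj : ∀ i, ∃ x : N, x • j i = i := fun i => by
    have h1 : (⟦j i⟧ : Quotient (MulAction.orbitRel N X)) = ⟦i⟧ := hbase _
    exact MulAction.orbitRel_apply.1 (Quotient.exact h1.symm)
  choose w hw using hj
  have hjx : ∀ (x : N) i, j (x • i) = j i := fun x i => by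
    have h1 : (⟦x • i⟧ : Quotient (MulAction.orbitRel N X)) = ⟦i⟧ :=
      Quotient.sound (MulAction.orbitRel_apply.2 ⟨x, rfl⟩)
    simp only [j, h1]
  choose s₀ hs₀ hs₀' using h
  refine ⟨fun i => κ' (w i) (j i) * s₀ (j i) * (κ (w i) (j i))⁻¹, fun i => ⟨?_, fun x => ?_⟩⟩
  · have := hGood (w i) (j i) _ (hs₀ (j i))
    rwa [hw i] at this
  · have hy : ((w (x • i))⁻¹ * x * w i) • j i = j i := by
      rw [mul_smul, mul_smul, hw i, inv_smul_eq_iff, ← hjx x i, hw (x • i)]
    have hx : x * w i = w (x • i) * ((w (x • i))⁻¹ * x * w i) := by group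
    have e1 : κ' x i * κ' (w i) (j i) =
        κ' (w (x • i)) (j i) * κ' ((w (x • i))⁻¹ * x * w i) (j i) := by
      have h2 := hκ' x (w i) (j i)
      rw [hw i, hx, hκ' _ _ (j i), hy] at h2
      exact h2.symm
    have e2 : κ x i = κ (w (x • i)) (j i) * κ ((w (x • i))⁻¹ * x * w i) (j i) * (κ (w i) (j i))⁻¹ := by
      have h2 := hκ x (w i) (j i)
      rw [hw i, hx, hκ _ _ (j i), hy] at h2
      rw [h2, mul_inv_cancel_right]
    show κ' x i * (κ' (w i) (j i) * s₀ (j i) * (κ (w i) (j i))⁻¹) =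
      κ' (w (x • i)) (j (x • i)) * s₀ (j (x • i)) * (κ (w (x • i)) (j (x • i)))⁻¹ * κ x i
    rw [hjx x i, ← mul_assoc, ← mul_assoc, e1, mul_assoc _ (κ' _ (j i)) (s₀ _),
      hs₀' (j i) _ hy, e2]
    group

namespace Setup

variable {F : FusionSystem S} {p : ℕ} (D : Setup F p)

theorem le_S : D.Q ≤ S := D.centric.1

theorem S_le_normalizer : S ≤ Subgroup.normalizer (D.Q : Set Ω) := le_normalizer_of_isNormal D.normal

/-- `Aut_F(Q)`. -/
abbrev A : Subgroup (MulAut D.Q) := F.autGroup D.Q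

/-- `S → Aut_F(Q)`, by conjugation. -/
def c : S →* D.A :=
  ((conjAutHom D.Q).comp (Subgroup.inclusion D.S_le_normalizer)).codRestrict D.A
    fun s => conjAut_mem_autGroup F D.le_S ⟨s.2, D.S_le_normalizer s.2⟩

theorem c_apply (s : S) (q : D.Q) : (((D.c s : MulAut D.Q) q : D.Q) : Ω) = s * q * (s : Ω)⁻¹ := rfl

/-- An element of `Q` as an element of `S`. -/
abbrev toS : D.Q →* S := Subgroup.inclusion D.le_S

/-- `Aut_S(Q)`. -/
def R : Subgroup D.A := D.c.range

/-- The cosets of `Aut_S(Q)` in `Aut_F(Q)`. -/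
abbrev X : Type u := D.A ⧸ D.R

theorem c_toS_smul (q : D.Q) (i : D.X) : D.c (D.toS q) • i = i := by
  induction i using QuotientGroup.induction_on with
  | H a =>
    rw [MulAction.Quotient.smul_mk]
    apply QuotientGroup.eq.2
    refine D.R.inv_mem_iff.1 ⟨D.toS ((a : MulAut D.Q)⁻¹ q), ?_⟩
    apply Subtype.ext
    apply MulEquiv.ext
    intro y
    apply Subtype.ext
    show ((a : MulAut D.Q)⁻¹ q : Ω) * y * ((a : MulAut D.Q)⁻¹ q : Ω)⁻¹ = _
    rw [smul_eq_mul, mul_inv_rev, mul_inv_rev, mul_inv_rev, inv_inv, inv_inv, ← mul_assoc]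
    show _ = (((a : MulAut D.Q)⁻¹ * (D.c (D.toS q) : MulAut D.Q) * (a : MulAut D.Q)) y : Ω)
    have h2 : (D.c (D.toS q) : MulAut D.Q) ((a : MulAut D.Q) y) = q * (a : MulAut D.Q) y * q⁻¹ := rfl
    rw [MulAut.mul_apply, MulAut.mul_apply, h2, map_mul, map_mul, map_inv,
      MulAut.inv_apply_self]
    rfl

/-- The stabilizer in `S` of a coset, as a subgroup of the ambient group. -/
def stab (x : D.X) : Subgroup Ω := ((MulAction.stabilizer D.A x).comap D.c).map S.subtype

theorem mem_stab {x : D.X} {s : S} : (s : Ω) ∈ D.stab x ↔ D.c s • x = x := by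
  constructor
  · rintro ⟨t, ht, he⟩
    exact (Subtype.ext he : t = s) ▸ ht
  · exact fun h => ⟨s, h, rfl⟩

variable [Finite S] [Fact p.Prime]

theorem finite_Q : Finite D.Q := finite_of_le D.le_S

theorem finite_A : Finite D.A := finite_autGroup F D.le_S

theorem receptive_Q : F.IsReceptive D.Q :=
  receptive_of_isFullyCentralized D.isP D.sat (isFullyCentralized_of_centric_le (le_refl' F) D.centric)

/-- Extension of an automorphism of `Q`. -/
theorem exists_ext (a : D.A) (N : Subgroup S)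
    (h : ∀ x ∈ N, a * D.c x * a⁻¹ ∈ D.R) :
    ∃ f, IsMap F (N.map S.subtype ⊔ D.Q) f ∧ (∀ q : D.Q, f q = ((a : MulAut D.Q) q : Ω)) ∧
      ∀ x ∈ N, ∃ hx : f x ∈ S, D.c ⟨f x, hx⟩ = a * D.c x * a⁻¹ := by
  have hin : ∀ x ∈ N.map S.subtype, InExt S D.Q (autMap (a : MulAut D.Q)) x := by
    rintro _ ⟨x, hx, rfl⟩
    refine inExt_autMap x.2 (D.S_le_normalizer x.2) ?_
    obtain ⟨t, ht⟩ := h x hx
    exact mem_autInducedBy.2 ⟨t, t.2, D.S_le_normalizer t.2, (congrArg Subtype.val ht).symm⟩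
  obtain ⟨f, hf, he⟩ := receptive_extend D.receptive_Q (isIso_autMap D.le_S a.2) hin
  have heq : ∀ q : D.Q, f q = ((a : MulAut D.Q) q : Ω) := fun q => by rw [he q q.2, autMap_coe]
  refine ⟨f, hf, heq, fun x hx => ?_⟩
  have hxM : (x : Ω) ∈ N.map S.subtype ⊔ D.Q := le_sup_left (b := D.Q) ⟨x, hx, rfl⟩
  refine ⟨hf.mem_S hxM, ?_⟩
  rw [eq_mul_inv_iff_mul_eq]
  apply Subtype.ext
  apply MulEquiv.ext
  intro q
  apply Subtype.ext
  show f x * ((a : MulAut D.Q) q : Ω) * (f x)⁻¹ =
    ((a : MulAut D.Q) ((D.c x : MulAut D.Q) q) : Ω)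
  rw [← heq q, ← heq ((D.c x : MulAut D.Q) q), D.c_apply]
  exact (hf.map_conj hxM (le_sup_right (a := N.map S.subtype) q.2)).symm

theorem exists_theta (x : D.X) :
    ∃ f, IsMap F (D.stab x ⊔ D.Q) f ∧
      (∀ q : D.Q, f q = (((Quotient.out x)⁻¹ : D.A) : MulAut D.Q) q) ∧
      ∀ s : S, D.c s • x = x →
        ∃ h : f s ∈ S, D.c ⟨f s, h⟩ = (Quotient.out x)⁻¹ * D.c s * Quotient.out x := by
  obtain ⟨f, h1, h2, h3⟩ := D.exists_ext (Quotient.out x)⁻¹
    ((MulAction.stabilizer D.A x).comap D.c) (fun s hs => by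
      have hx : (QuotientGroup.mk (Quotient.out x) : D.X) = x := QuotientGroup.out_eq' x
      have h : D.c s • x = x := hs
      rw [← hx, MulAction.Quotient.smul_mk] at h
      have := D.R.inv_mem (QuotientGroup.eq.1 h)
      simpa [mul_assoc] using this)
  refine ⟨f, h1, h2, fun s hs => ?_⟩
  have := h3 s hs
  rwa [inv_inv] at this

noncomputable def theta (x : D.X) : Ω → Ω := (D.exists_theta x).choose

theorem isMap_theta (x : D.X) : IsMap F (D.stab x ⊔ D.Q) (D.theta x) :=
  (D.exists_theta x).choose_spec.1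

theorem theta_Q (x : D.X) (q : D.Q) :
    D.theta x q = (((Quotient.out x)⁻¹ : D.A) : MulAut D.Q) q :=
  (D.exists_theta x).choose_spec.2.1 q

theorem c_theta {x : D.X} {s : S} (hs : D.c s • x = x) :
    ∃ h : D.theta x s ∈ S, D.c ⟨D.theta x s, h⟩ = (Quotient.out x)⁻¹ * D.c s * Quotient.out x :=
  (D.exists_theta x).choose_spec.2.2 s hs

/-- The orbit relation of `S` on the cosets. -/
def orbitSetoid : Setoid D.X where
  r i k := ∃ s : S, D.c s • i = k
  iseqv := by
    refine ⟨fun i => ⟨1, by rw [map_one, one_smul]⟩, ?_, ?_⟩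
    · rintro i k ⟨s, rfl⟩
      exact ⟨s⁻¹, by rw [map_inv, inv_smul_smul]⟩
    · rintro i k l ⟨s, rfl⟩ ⟨t, rfl⟩
      exact ⟨t * s, by rw [map_mul, mul_smul]⟩

/-- The chosen point in the `S`-orbit of a coset. -/
noncomputable def base (i : D.X) : D.X := (Quotient.mk D.orbitSetoid i).out

theorem exists_u (i : D.X) : ∃ s : S, D.c s • D.base i = i :=
  Quotient.mk_out (s := D.orbitSetoid) i

theorem base_smul (s : S) (i : D.X) : D.base (D.c s • i) = D.base i := by
  have h : Quotient.mk D.orbitSetoid (D.c s • i) = Quotient.mk D.orbitSetoid i :=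
    (Quotient.sound (s := D.orbitSetoid) ⟨s, rfl⟩).symm
  simp only [base, h]

/-- An element of `S` carrying the chosen point of its orbit to `i`. -/
noncomputable def u (i : D.X) : S := (D.exists_u i).choose

theorem u_spec (i : D.X) : D.c (D.u i) • D.base i = i := (D.exists_u i).choose_spec

/-- The coset representatives. -/
noncomputable def t (i : D.X) : D.A := D.c (D.u i) * Quotient.out (D.base i)

theorem mk_t (i : D.X) : (QuotientGroup.mk (D.t i) : D.X) = i := by
  rw [t, ← smul_eq_mul, ← MulAction.Quotient.smul_mk, QuotientGroup.out_eq', D.u_spec]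

theorem t_inv_mul_mem (a : D.A) (i : D.X) : (D.t (a • i))⁻¹ * a * D.t i ∈ D.R := by
  rw [mul_assoc, ← QuotientGroup.eq, D.mk_t, ← smul_eq_mul, ← MulAction.Quotient.smul_mk, D.mk_t]

theorem red_fixes (s : S) (i : D.X) :
    D.c ((D.u (D.c s • i))⁻¹ * s * D.u i) • D.base i = D.base i := by
  rw [map_mul, map_mul, mul_smul, mul_smul, D.u_spec, map_inv, inv_smul_eq_iff]
  conv_rhs => rw [← D.base_smul s i, D.u_spec]

/-- The components of the monomial embedding of `S`. -/
noncomputable def kappa (s : S) (i : D.X) : S :=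
  ⟨D.theta (D.base i) ((D.u (D.c s • i))⁻¹ * s * D.u i : S), (D.c_theta (D.red_fixes s i)).1⟩

theorem kappa_mul (s s' : S) (i : D.X) :
    D.kappa (s * s') i = D.kappa s (D.c s' • i) * D.kappa s' i := by
  have h1 : D.c s • D.c s' • i = D.c (s * s') • i := by rw [map_mul, mul_smul]
  apply Subtype.ext
  simp only [kappa, Subgroup.coe_mul, D.base_smul, h1]
  rw [← (D.isMap_theta _).map_mul]
  · congr 1
    simp only [Subgroup.coe_inv]
    group
  · have := D.mem_stab.2 (D.red_fixes s (D.c s' • i))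
    rw [D.base_smul, h1] at this
    exact le_sup_left (b := D.Q) this
  · exact le_sup_left (b := D.Q) (D.mem_stab.2 (D.red_fixes s' i))

theorem c_kappa (s : S) (i : D.X) :
    D.t (D.c s • i) * D.c (D.kappa s i) = D.c s * D.t i := by
  obtain ⟨h, he⟩ := D.c_theta (D.red_fixes s i)
  rw [show D.c (D.kappa s i) = _ from he, t, t, D.base_smul, map_mul, map_mul, map_inv]
  group

theorem kappa_toS (q : D.Q) (i : D.X) :
    (D.kappa (D.toS q) i : Ω) = (((D.t i)⁻¹ : D.A) : MulAut D.Q) q := by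
  have hq : D.c (D.toS q) • i = i := D.c_toS_smul q i
  set q' : D.Q := ((D.c (D.u i))⁻¹ : D.A).1 q with hq'
  have hqe : ((D.u i)⁻¹ * D.toS q * D.u i : S) = D.toS q' := by
    apply Subtype.ext
    rw [hq', ← map_inv]
    simp only [Subgroup.coe_mul]
    show _ = (((D.c (D.u i)⁻¹ : D.A) : MulAut D.Q) q : Ω)
    rw [D.c_apply]
    simp
  show D.theta (D.base i) ((D.u (D.c (D.toS q) • i))⁻¹ * D.toS q * D.u i : S) = _
  rw [hq, hqe]
  refine (D.theta_Q _ q').trans ?_
  rw [hq', t, mul_inv_rev]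
  rfl

/-! ### The monomial extension -/

/-- Pairs of `a ∈ A` and lifts to `S` of its cocycle. -/
structure Hat where
  a : D.A
  s : D.X → S
  cond : ∀ i, a * D.t i = D.t (a • i) * D.c (s i)

theorem Hat.ext' {D : Setup F p} {x y : Hat D} (h1 : x.a = y.a) (h2 : ∀ i, x.s i = y.s i) : x = y := by
  obtain ⟨a, s, _⟩ := x
  obtain ⟨b, t, _⟩ := y
  obtain rfl : a = b := h1
  obtain rfl : s = t := funext h2
  rfl

noncomputable instance instHatGroup : Group D.Hat where
  mul x y := ⟨x.a * y.a, fun i => x.s (y.a • i) * y.s i, fun i => by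
    rw [mul_assoc, y.cond, ← mul_assoc, x.cond, mul_smul, map_mul, mul_assoc]⟩
  one := ⟨1, fun _ => 1, fun i => by rw [one_mul, one_smul, map_one, mul_one]⟩
  inv x := ⟨x.a⁻¹, fun i => (x.s (x.a⁻¹ • i))⁻¹, fun i => by
    have h := x.cond (x.a⁻¹ • i)
    rw [smul_inv_smul] at h
    rw [map_inv, eq_mul_inv_iff_mul_eq, mul_assoc, ← h, inv_mul_cancel_left]⟩
  mul_assoc x y z := Hat.ext' (mul_assoc _ _ _) fun i => by
    show x.s (y.a • z.a • i) * y.s (z.a • i) * z.s i = x.s ((y.a * z.a) • i) * (y.s (z.a • i) * z.s i)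
    rw [mul_smul, mul_assoc]
  one_mul x := Hat.ext' (one_mul _) fun i => one_mul _
  mul_one x := Hat.ext' (mul_one _) fun i => by
    show x.s ((1 : D.A) • i) * 1 = x.s i
    rw [one_smul, mul_one]
  inv_mul_cancel x := Hat.ext' (inv_mul_cancel _) fun i => by
    show (x.s (x.a⁻¹ • x.a • i))⁻¹ * x.s i = 1
    rw [inv_smul_smul, inv_mul_cancel]

theorem Hat.mul_s (x y : D.Hat) (i : D.X) : (x * y).s i = x.s (y.a • i) * y.s i := rfl

/-- The projection of the monomial extension onto `A`. -/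
def proj : D.Hat →* D.A where
  toFun x := x.a
  map_one' := rfl
  map_mul' _ _ := rfl

theorem finite_hat : Finite D.Hat :=
  haveI := D.finite_A
  Finite.of_injective (fun x : D.Hat => (x.a, x.s)) fun _ _ h =>
    Hat.ext' (congrArg Prod.fst h) (congrFun (congrArg Prod.snd h))

/-- The monomial embedding of `S`. -/
noncomputable def iotaHat : S →* D.Hat :=
  MonoidHom.mk' (fun s => ⟨D.c s, D.kappa s, fun i => (D.c_kappa s i).symm⟩)
    fun s s' => Hat.ext' (map_mul D.c s s') fun i => D.kappa_mul s s' i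

theorem exists_lift (a : D.A) : ∃ x : D.Hat, x.a = a := by
  have h : ∀ i, ∃ s : S, D.c s = (D.t (a • i))⁻¹ * a * D.t i := fun i => D.t_inv_mul_mem a i
  choose s hs using h
  exact ⟨⟨a, s, fun i => by rw [hs, mul_assoc, mul_inv_cancel_left]⟩, rfl⟩

/-! ### The norm -/

theorem coe_mem_Q {s : S} (h : D.c s = 1) : (s : Ω) ∈ D.Q ∧ ∀ q : D.Q, (q : Ω) * s = s * q := by
  have hc : ∀ q : D.Q, (q : Ω) * s = s * q := by
    intro q
    have h2 : (s : Ω) * q * (s : Ω)⁻¹ = q := by
      rw [← D.c_apply, h]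
      rfl
    calc (q : Ω) * s = (s : Ω) * q * (s : Ω)⁻¹ * s := by rw [h2]
      _ = s * q := by group
  exact ⟨centralizerIn_le_of_isCentric D.centric
    (mem_centralizerIn.2 ⟨s.2, fun y hy => hc ⟨y, hy⟩⟩), hc⟩

theorem c_s_of_mem_ker {k : D.Hat} (hk : k ∈ D.proj.ker) (i : D.X) : D.c (k.s i) = 1 := by
  have h := k.cond i
  rw [show k.a = 1 from hk, one_mul, one_smul] at h
  exact mul_eq_left.1 h.symm

/-- A component of a kernel element, as an element of `Z(Q)`. -/
def kerComp (k : D.proj.ker) (i : D.X) : Subgroup.center D.Q :=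
  ⟨⟨(k : D.Hat).s i, (D.coe_mem_Q (D.c_s_of_mem_ker k.2 i)).1⟩,
    Subgroup.mem_center_iff.2 fun q => Subtype.ext ((D.coe_mem_Q (D.c_s_of_mem_ker k.2 i)).2 q)⟩

theorem coe_kerComp (k : D.proj.ker) (i : D.X) :
    (((D.kerComp k i : Subgroup.center D.Q) : D.Q) : Ω) = (k : D.Hat).s i := rfl

theorem kerComp_mul (k l : D.proj.ker) (i : D.X) :
    D.kerComp (k * l) i = D.kerComp k i * D.kerComp l i := by
  apply Subtype.ext
  apply Subtype.ext
  show (((k : D.Hat) * (l : D.Hat)).s i : Ω) = ((k : D.Hat).s i : Ω) * (l : D.Hat).s i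
  rw [Hat.mul_s, show (l : D.Hat).a = 1 from l.2, one_smul]
  rfl

/-- The action of `A` on `Z(Q)`. -/
def zAct (a : D.A) : Subgroup.center D.Q ≃* Subgroup.center D.Q :=
  Subgroup.centerCongr (a : MulAut D.Q)

theorem coe_zAct (a : D.A) (z : Subgroup.center D.Q) :
    ((D.zAct a z : Subgroup.center D.Q) : D.Q) = (a : MulAut D.Q) z := rfl

/-- The finiteness of the set of cosets. -/
@[instance_reducible] noncomputable def fintypeX : Fintype D.X :=
  haveI := D.finite_A
  Fintype.ofFinite D.X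

/-- The norm on the kernel of the projection. -/
noncomputable def norm : D.proj.ker →* Subgroup.center D.Q :=
  letI := D.fintypeX
  MonoidHom.mk' (fun k => ∏ i, D.zAct (D.t i) (D.kerComp k i)) fun k l => by
    rw [← Finset.prod_mul_distrib]
    exact Finset.prod_congr rfl fun i _ => by rw [kerComp_mul, map_mul]

theorem norm_conj (g : D.Hat) (k : D.proj.ker) (h : g * k * g⁻¹ ∈ D.proj.ker) :
    D.norm ⟨g * k * g⁻¹, h⟩ = D.zAct g.a (D.norm k) := by
  letI := D.fintypeX
  show ∏ i, _ = D.zAct g.a (∏ i, _)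
  rw [map_prod]
  refine (Fintype.prod_equiv (MulAction.toPerm g.a) _ _ fun i => ?_).symm
  apply Subtype.ext
  rw [coe_zAct, coe_zAct, coe_zAct]
  have hcond := congrArg Subtype.val (g.cond i)
  show (g.a : MulAut D.Q) ((D.t i : MulAut D.Q) (D.kerComp k i : D.Q)) =
    (D.t (g.a • i) : MulAut D.Q) (D.kerComp ⟨g * k * g⁻¹, h⟩ (g.a • i) : D.Q)
  rw [← MulAut.mul_apply, show (g.a : MulAut D.Q) * (D.t i : MulAut D.Q) = _ from hcond,
    Subgroup.coe_mul, MulAut.mul_apply]
  congr 1
  apply Subtype.ext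
  rw [D.c_apply, coe_kerComp, coe_kerComp, Hat.mul_s, Hat.mul_s]
  show _ = ((g.s ((k : D.Hat).a • g.a⁻¹ • g.a • i) * (k : D.Hat).s (g.a⁻¹ • g.a • i) *
    (g.s (g.a⁻¹ • g.a • i))⁻¹ : S) : Ω)
  rw [inv_smul_smul, show (k : D.Hat).a = 1 from k.2, one_smul]
  rfl

/-- The subgroup divided out. -/
noncomputable def K : Subgroup D.Hat := D.norm.ker.map D.proj.ker.subtype

instance K_normal : D.K.Normal := by
  refine ⟨?_⟩
  rintro _ ⟨k, hk, rfl⟩ g
  have h : g * k * g⁻¹ ∈ D.proj.ker := (MonoidHom.normal_ker D.proj).conj_mem _ k.2 g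
  refine ⟨⟨_, h⟩, ?_, rfl⟩
  show D.norm ⟨g * k * g⁻¹, h⟩ = 1
  rw [D.norm_conj, show D.norm k = 1 from hk, map_one]

/-- The model group. -/
abbrev Model : Type u := D.Hat ⧸ D.K

/-- The projection of the model onto `A`. -/
noncomputable def modelProj : D.Model →* D.A :=
  QuotientGroup.lift D.K D.proj (Subgroup.map_subtype_le _)

/-- The embedding of `S` in the model. -/
noncomputable def iota : S →* D.Model := (QuotientGroup.mk' D.K).comp D.iotaHat

theorem modelProj_iota (s : S) : D.modelProj (D.iota s) = D.c s := rfl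

theorem modelProj_surjective : Function.Surjective D.modelProj := fun a => by
  obtain ⟨x, rfl⟩ := D.exists_lift a
  exact ⟨QuotientGroup.mk x, rfl⟩

theorem index_R_coprime : ¬ p ∣ D.R.index := by
  have hn : F.IsFullyNormalized D.Q := by
    refine ⟨D.le_S, fun Q' hQ' => ?_⟩
    obtain ⟨f, hf⟩ := isConj_iff.1 hQ'
    haveI := D.finite_Q
    have hsc := (stronglyClosed_iff.1 (stronglyClosed_of_isNormal D.normal)).2
    have := (isIso_of_mapsTo hf.isMap fun x hx => hsc _ f le_rfl hf.isMap x hx).eq_imgSub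
    rw [← hf.eq_imgSub] at this
    rw [this]
  have h := ((isFullyAutomized_iff D.isP).1
    (isFullyAutomized_of_isFullyNormalized D.isP D.sat hn)).2
  have he : (autInducedBy S D.Q).subgroupOf D.A = D.R := by
    ext a
    rw [Subgroup.mem_subgroupOf, mem_autInducedBy]
    constructor
    · rintro ⟨s, hs, hn', he⟩
      exact ⟨⟨s, hs⟩, Subtype.ext he.symm⟩
    · rintro ⟨s, rfl⟩
      exact ⟨s, s.2, D.S_le_normalizer s.2, rfl⟩
  rwa [Subgroup.relIndex, he] at h

theorem coprime_center : (Nat.card (Subgroup.center D.Q)).Coprime D.R.index := by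
  haveI := D.finite_Q
  obtain ⟨n, hn⟩ := IsPGroup.iff_card.1 ((D.isP.to_le D.le_S).to_subgroup (Subgroup.center D.Q))
  rw [hn]
  exact (((Fact.out : p.Prime).coprime_iff_not_dvd).2 D.index_R_coprime).pow_left n

theorem iotaHat_mem_ker (z : Subgroup.center D.Q) :
    D.iotaHat (D.toS z) ∈ D.proj.ker := by
  show D.c (D.toS z) = 1
  apply Subtype.ext
  apply MulEquiv.ext
  intro y
  apply Subtype.ext
  rw [D.c_apply]
  show ((z : D.Q) : Ω) * y * ((z : D.Q) : Ω)⁻¹ = y
  have h1 : (y : Ω) * ((z : D.Q) : Ω) = ((z : D.Q) : Ω) * y :=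
    congrArg Subtype.val (Subgroup.mem_center_iff.1 z.2 y)
  rw [← h1, mul_inv_cancel_right]

theorem norm_iotaHat (z : Subgroup.center D.Q) :
    D.norm ⟨_, D.iotaHat_mem_ker z⟩ = z ^ D.R.index := by
  letI := D.fintypeX
  show ∏ i, _ = _
  rw [Subgroup.index_eq_card, Nat.card_eq_fintype_card, ← Finset.card_univ]
  refine Finset.prod_eq_pow_card fun i _ => ?_
  apply Subtype.ext
  rw [coe_zAct]
  have h1 : ((D.kerComp ⟨_, D.iotaHat_mem_ker z⟩ i : Subgroup.center D.Q) : D.Q) =
      (((D.t i)⁻¹ : D.A) : MulAut D.Q) z := Subtype.ext (D.kappa_toS z i)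
  rw [h1, Subgroup.coe_inv, MulAut.apply_inv_self]

theorem exists_eq_iota_of_modelProj_eq_one {g : D.Model} (hg : D.modelProj g = 1) :
    ∃ z : Subgroup.center D.Q, g = D.iota (D.toS z) := by
  induction g using QuotientGroup.induction_on with
  | H x =>
    obtain ⟨z, hz⟩ := (powCoprime D.coprime_center).surjective (D.norm ⟨x, hg⟩)
    refine ⟨z, QuotientGroup.eq.2
      ⟨(⟨x, hg⟩ : D.proj.ker)⁻¹ * ⟨_, D.iotaHat_mem_ker z⟩, ?_, rfl⟩⟩
    show D.norm _ = 1
    rw [map_mul, map_inv, norm_iotaHat, ← hz, powCoprime_apply, inv_mul_cancel]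

theorem iota_injective : Function.Injective D.iota := by
  rw [injective_iff_map_eq_one]
  intro s hs
  have hc : D.c s = 1 := by rw [← D.modelProj_iota, hs, map_one]
  obtain ⟨hQ, hcen⟩ := D.coe_mem_Q hc
  let z : Subgroup.center D.Q :=
    ⟨⟨s, hQ⟩, Subgroup.mem_center_iff.2 fun q => Subtype.ext (hcen q)⟩
  obtain ⟨k, hk, hke⟩ := (QuotientGroup.eq_one_iff _).1 hs
  obtain rfl : k = ⟨_, D.iotaHat_mem_ker z⟩ := Subtype.ext hke
  have h1 : powCoprime D.coprime_center z = powCoprime D.coprime_center 1 := by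
    rw [powCoprime_apply, powCoprime_apply, one_pow, ← D.norm_iotaHat z]
    exact hk
  have h2 := (powCoprime D.coprime_center).injective h1
  exact Subtype.ext (congrArg (fun w : Subgroup.center D.Q => ((w : D.Q) : Ω)) h2)

theorem finite_model : Finite D.Model :=
  haveI := D.finite_hat
  Finite.of_surjective _ (QuotientGroup.mk'_surjective D.K)

theorem comap_R : D.R.comap D.modelProj = D.iota.range := by
  refine le_antisymm (fun g hg => ?_) (fun g ⟨s, hs⟩ => hs ▸ ⟨s, rfl⟩)
  obtain ⟨s, hs⟩ := hg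
  have h : D.modelProj ((D.iota s)⁻¹ * g) = 1 := by
    rw [map_mul, map_inv, D.modelProj_iota, hs, inv_mul_cancel]
  obtain ⟨z, hz⟩ := D.exists_eq_iota_of_modelProj_eq_one h
  exact ⟨s * D.toS z, by rw [map_mul, ← hz, mul_inv_cancel_left]⟩

theorem exists_sylow_range : ∃ T : Sylow p D.Model, (T : Subgroup D.Model) = D.iota.range := by
  haveI := D.finite_model
  have hi : ¬ p ∣ D.iota.range.index := by
    rw [← D.comap_R, Subgroup.index_comap_of_surjective _ D.modelProj_surjective]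
    exact D.index_R_coprime
  exact ⟨(D.isP.of_surjective _ D.iota.rangeRestrict_surjective).toSylow hi, rfl⟩

end Setup

end Cfsg.Agent.FusionSys
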