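import Cfsg.Agent.FusionSys.Normal
import Cfsg.Agent.H90.Normal

/-!
Characteristic subgroups of normal subgroups, and the series criteria for normality.
-/

set_option autoImplicit false

namespace Cfsg.Agent.FusionSys

open Cfsg Cfsg.FusionSystem Set

variable {Ω : Type*} [Group Ω] {S : Subgroup Ω} {F : FusionSystem S} {P Q R U : Subgroup Ω}
  {f g : Ω → Ω}

/-- An isomorphism of the system from `Q` onto itself preserves the characteristic subgroups of `Q`. -/
theorem IsIso.image_of_characteristic (h : IsIso F Q Q f) (hUQ : U ≤ Q)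
    (hU : (U.subgroupOf Q).Characteristic) : f '' (U : Set Ω) = U := by
  have h1 := Subgroup.characteristic_iff_map_eq.1 hU h.equiv
  apply le_antisymm
  · rintro _ ⟨x, hx, rfl⟩
    have : h.equiv ⟨x, hUQ hx⟩ ∈ U.subgroupOf Q := h1.le ⟨⟨x, hUQ hx⟩, hx, rfl⟩
    exact this
  · intro y hy
    obtain ⟨x, hx, he⟩ := h1.ge (show (⟨y, hUQ hy⟩ : Q) ∈ U.subgroupOf Q from hy)
    exact ⟨x, hx, congrArg Subtype.val he⟩

theorem isNormal_of_characteristic (hQ : F.IsNormal Q) (hUQ : U ≤ Q)
    (hU : (U.subgroupOf Q).Characteristic) : F.IsNormal U := by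
  obtain ⟨hQS, h⟩ := isNormal_iff.1 hQ
  refine isNormal_iff.2 ⟨hUQ.trans hQS, fun P f hf => ?_⟩
  obtain ⟨g, hg, he, hgQ⟩ := h P f hf
  exact ⟨g, hg.mono (sup_le_sup_left hUQ P), he,
    (IsIso.mk (hg.mono le_sup_right) hgQ).image_of_characteristic hUQ hU⟩

theorem characteristic_lowerCentralSeries (Q : Subgroup Ω) (k : ℕ) :
    ((Subgroup.lowerCentralSeries Q k).subgroupOf Q).Characteristic := by
  have e : (Subgroup.lowerCentralSeries Q k).subgroupOf Q =
      Subgroup.lowerCentralSeries (⊤ : Subgroup Q) k := by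
    rw [← Subgroup.top_subtype_lowerCentralSeries Q k, Subgroup.subgroupOf,
      Subgroup.comap_map_eq_self_of_injective Q.subtype_injective]
  rw [e, Subgroup.characteristic_iff_map_eq]
  intro φ
  rw [Subgroup.map_lowerCentralSeries, Subgroup.map_top_of_surjective _ φ.surjective]

theorem weaklyClosed_of_stronglyClosed [Finite S] (hQ : F.StronglyClosed Q) : F.WeaklyClosed Q := by
  obtain ⟨hQS, h⟩ := stronglyClosed_iff.1 hQ
  refine weaklyClosed_iff.2 ⟨hQS, fun f hf => ?_⟩
  haveI := finite_of_le hQS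
  exact (isIso_of_mapsTo hf fun x hx => h Q f le_rfl hf x hx).eq_imgSub.symm

theorem stronglyClosed_bot (F : FusionSystem S) : F.StronglyClosed ⊥ :=
  stronglyClosed_iff.2 ⟨bot_le, fun R f hR hf x hx => by
    rw [Subgroup.mem_bot, Subgroup.mem_bot.1 (hR hx), hf.map_one]⟩

variable [Finite S] {p : ℕ} [Fact p.Prime]

theorem isNormal_of_isMulCommutative (hS : IsPGroup p S) (hF : F.IsSaturated p)
    (hQ : F.StronglyClosed Q) [IsMulCommutative Q] : F.IsNormal Q := by
  refine H90.isNormal_of_series hS hF hQ (fun i => if i = 0 then ⊥ else Q) 1 rfl rfl ?_ ?_ ?_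
  · intro a b hab
    dsimp only
    by_cases h1 : a = 0
    · rw [if_pos h1]
      exact bot_le
    · rw [if_neg h1, if_neg (by omega : ¬ b = 0)]
  · intro i hi
    obtain rfl : i = 0 := by omega
    show ⁅Q, Q⁆ ≤ ⊥
    exact Subgroup.commutator_le.2 fun a ha b hb => by
      rw [Subgroup.mem_bot, commutatorElement_eq_one_iff_mul_comm]
      exact Subgroup.mul_comm_of_mem_isMulCommutative Q ha hb
  · intro i hi
    obtain rfl : i = 0 := by omega
    exact weaklyClosed_of_stronglyClosed (stronglyClosed_bot F)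

/-- If every map from a subgroup of `R` extends to an automorphism of `R`, then `R` is normal. -/
theorem isNormal_of_extends (hS : IsPGroup p S) (hF : F.IsSaturated p) (hR : R ≤ S)
    (h : ∀ (P : Subgroup Ω) (f : Ω → Ω), P ≤ R → IsMap F P f →
      ∃ α ∈ F.autGroup R, ∀ x ∈ P, f x = autMap α x) : F.IsNormal R := by
  haveI := finite_of_le hR
  haveI : Group.IsNilpotent R := (hS.to_le hR).isNilpotent
  obtain ⟨n, hn⟩ := (Subgroup.isNilpotent_iff_lowerCentralSeries R).1 inferInstance
  refine H90.isNormal_of_series hS hF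
    (stronglyClosed_iff.2 ⟨hR, fun P f hP hf x hx => ?_⟩)
    (fun i => Subgroup.lowerCentralSeries R (n - i)) n (by simpa using hn) (by simp) ?_ ?_ ?_
  · obtain ⟨α, -, he⟩ := h P f hP hf
    rw [he x hx]
    exact autMap_mem α (hP hx)
  · exact fun a b hab => Subgroup.lowerCentralSeries_antitone R (by omega)
  · intro i hi
    show ⁅Subgroup.lowerCentralSeries R (n - (i + 1)), R⁆ ≤ Subgroup.lowerCentralSeries R (n - i)
    rw [show n - i = n - (i + 1) + 1 by omega]
    exact le_rfl
  · intro i _
    have hle := Subgroup.lowerCentralSeries_le_self R (n - i)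
    refine weaklyClosed_iff.2 ⟨hle.trans hR, fun f hf => SetLike.coe_injective ?_⟩
    obtain ⟨α, hα, he⟩ := h _ f hle hf
    rw [hf.coe_imgSub, Set.image_congr he]
    exact (isIso_autMap hR hα).image_of_characteristic hle (characteristic_lowerCentralSeries R _)

end Cfsg.Agent.FusionSys
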