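import Cfsg.Prelude.Def_FusionReduction
import Cfsg.Agent.FusionSys.Group
import Cfsg.Agent.FusionSys.RadicalNormalizer
import Cfsg.Agent.Thompson.Qd
import Cfsg.Agent.Thompson.QdLocal
import Cfsg.Agent.H49.ModelInvolve

/-!
`Qd(p)`-freeness of a finite group and of its fusion system, `p` odd.
-/

set_option autoImplicit false
set_option linter.style.haveILetI false

namespace Cfsg.Agent.FusionSys.QdGroup

open Cfsg Cfsg.FusionSystem Cfsg.Agent.FusionSys Matrix

universe u v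

variable {p : ℕ}

/-- The elements of `R` induce all of `SL₂(p)` on an image `(ℤ/p)²` of the subgroup `U`. -/
def Acts {G : Type u} [Group G] (p : ℕ) (R U : Subgroup G)
    (θ : U →* Multiplicative (Fin 2 → ZMod p)) : Prop :=
  Function.Surjective θ ∧ ∀ A : Matrix.SpecialLinearGroup (Fin 2) (ZMod p), ∃ g ∈ R,
    ∀ u : U, ∃ h : g * (u : G) * g⁻¹ ∈ U, θ ⟨_, h⟩ =
      Multiplicative.ofAdd ((A : Matrix (Fin 2) (Fin 2) (ZMod p)) *ᵥ Multiplicative.toAdd (θ u))

/-- The configuration giving `Qd(p)`. -/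
def HasPair {G : Type u} [Group G] (p : ℕ) (R : Subgroup G) : Prop :=
  ∃ (U : Subgroup G) (θ : U →* Multiplicative (Fin 2 → ZMod p)), IsPGroup p U ∧ U ≤ R ∧ Acts p R U θ

variable {G : Type u} [Group G] [Fact p.Prime]

theorem hasPair_map {H : Type v} [Group H] (f : G →* H) {R U : Subgroup G}
    {θ : U →* Multiplicative (Fin 2 → ZMod p)} (hUp : IsPGroup p U) (hUR : U ≤ R) (h : Acts p R U θ)
    (hf : ∀ x ∈ U, f x = 1 → x = 1) : HasPair p (R.map f) := by
  have hb : Function.Bijective (f.subgroupMap U) := by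
    refine ⟨(injective_iff_map_eq_one _).mpr fun x hx => Subtype.ext (hf x x.2 (congrArg Subtype.val hx)),
      f.subgroupMap_surjective U⟩
  let e := MulEquiv.ofBijective _ hb
  refine ⟨U.map f, θ.comp e.symm.toMonoidHom, hUp.map f, Subgroup.map_mono hUR,
    h.1.comp e.symm.surjective, fun A => ?_⟩
  obtain ⟨g, hg, hgA⟩ := h.2 A
  refine ⟨f g, ⟨g, hg, rfl⟩, fun u => ?_⟩
  obtain ⟨u, rfl⟩ := e.surjective u
  obtain ⟨hgu, he⟩ := hgA u
  have hmem : f g * ((e u : U.map f) : H) * (f g)⁻¹ ∈ U.map f :=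
    ⟨_, hgu, by rw [map_mul, map_mul, map_inv]; rfl⟩
  refine ⟨hmem, ?_⟩
  have h1 : (⟨_, hmem⟩ : U.map f) = e ⟨_, hgu⟩ :=
    Subtype.ext (show f g * f u * (f g)⁻¹ = f (g * u * g⁻¹) by rw [map_mul, map_mul, map_inv])
  rw [h1, MonoidHom.comp_apply, MonoidHom.comp_apply, MulEquiv.coe_toMonoidHom, MulEquiv.symm_apply_apply,
    MulEquiv.symm_apply_apply]
  exact he

theorem ext_mulVec {A B : Matrix.SpecialLinearGroup (Fin 2) (ZMod p)}
    (h : ∀ v, (A : Matrix (Fin 2) (Fin 2) (ZMod p)) *ᵥ v = (B : Matrix (Fin 2) (Fin 2) (ZMod p)) *ᵥ v) :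
    A = B := by
  refine Matrix.SpecialLinearGroup.ext _ _ fun i j => ?_
  have h1 := congrFun (h (Pi.single j 1)) i
  simpa using h1

theorem involves_of_hasPair [Finite G] (hp : p ≠ 2) {R : Subgroup G} (h : HasPair p R) :
    Involves ↥(qd p) R := by
  obtain ⟨U, θ, -, hUR, hθ, hA⟩ := h
  -- the elements inducing some matrix
  let L : Subgroup G :=
    { carrier := {g | g ∈ R ∧ ∃ A : Matrix.SpecialLinearGroup (Fin 2) (ZMod p), ∀ u : U,
        ∃ h : g * (u : G) * g⁻¹ ∈ U, θ ⟨_, h⟩ =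
          Multiplicative.ofAdd ((A : Matrix (Fin 2) (Fin 2) (ZMod p)) *ᵥ Multiplicative.toAdd (θ u))}
      one_mem' := ⟨one_mem _, 1, fun u => ⟨by simp, by simp⟩⟩
      mul_mem' := by
        rintro a b ⟨haR, A, ha⟩ ⟨hbR, B, hb⟩
        refine ⟨mul_mem haR hbR, A * B, fun u => ?_⟩
        obtain ⟨h1, e1⟩ := hb u
        obtain ⟨h2, e2⟩ := ha ⟨_, h1⟩
        refine ⟨by simpa [mul_assoc] using h2, ?_⟩
        rw [e1, toAdd_ofAdd, Matrix.mulVec_mulVec, ← Matrix.SpecialLinearGroup.coe_mul] at e2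
        rw [← e2]
        exact congrArg θ (Subtype.ext (by simp [mul_assoc]))
      inv_mem' := by
        rintro a ⟨haR, A, ha⟩
        refine ⟨inv_mem haR, A⁻¹, fun u => ?_⟩
        let c : U → U := fun w => ⟨_, (ha w).1⟩
        have hcs : Function.Surjective c := Finite.surjective_of_injective fun x y hxy =>
          Subtype.ext (by simpa [c] using congrArg Subtype.val hxy)
        obtain ⟨w, hw⟩ := hcs u
        have hu : (u : G) = a * w * a⁻¹ := congrArg Subtype.val hw.symm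
        have hmem : a⁻¹ * (u : G) * a⁻¹⁻¹ ∈ U := by rw [hu]; simp [mul_assoc]
        refine ⟨hmem, ?_⟩
        rw [show (⟨_, hmem⟩ : U) = w from Subtype.ext (show a⁻¹ * (u : G) * a⁻¹⁻¹ = (w : G) by rw [hu]; simp [mul_assoc]), ← hw]
        show θ w = _
        rw [(ha w).2, toAdd_ofAdd, Matrix.mulVec_mulVec, ← Matrix.SpecialLinearGroup.coe_mul,
          inv_mul_cancel, Matrix.SpecialLinearGroup.coe_one, Matrix.one_mulVec, ofAdd_toAdd] }
  have hUL : U ≤ L := fun x hx => ⟨hUR hx, 1, fun u => ⟨mul_mem (mul_mem hx u.2) (inv_mem hx), by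
    rw [Matrix.SpecialLinearGroup.coe_one, Matrix.one_mulVec, ofAdd_toAdd,
      show (⟨x * (u : G) * x⁻¹, _⟩ : U) = ⟨x, hx⟩ * u * ⟨x, hx⟩⁻¹ from rfl, map_mul, map_mul, map_inv,
      mul_comm (θ ⟨x, hx⟩), mul_inv_cancel_right]⟩⟩
  choose A hA' using fun g : L => g.2.2
  have huniq : ∀ (g : L) (B : Matrix.SpecialLinearGroup (Fin 2) (ZMod p)), (∀ u : U, ∀ h,
      θ ⟨(g : G) * u * (g : G)⁻¹, h⟩ =
        Multiplicative.ofAdd ((B : Matrix (Fin 2) (Fin 2) (ZMod p)) *ᵥ Multiplicative.toAdd (θ u))) →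
      A g = B := fun g B hB => ext_mulVec fun v => by
    obtain ⟨u, hu⟩ := hθ (Multiplicative.ofAdd v)
    obtain ⟨h, e⟩ := hA' g u
    have h1 := e.symm.trans (hB u h)
    rw [hu, toAdd_ofAdd] at h1
    exact Multiplicative.ofAdd.injective h1
  let π : L →* Matrix.SpecialLinearGroup (Fin 2) (ZMod p) := MonoidHom.mk' A fun a b => by
    refine huniq _ _ fun u h => ?_
    obtain ⟨h1, e1⟩ := hA' b u
    obtain ⟨h2, e2⟩ := hA' a ⟨_, h1⟩
    rw [e1, toAdd_ofAdd, Matrix.mulVec_mulVec, ← Matrix.SpecialLinearGroup.coe_mul] at e2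
    rw [← e2]
    exact congrArg θ (Subtype.ext (by simp [mul_assoc]))
  have hπ : Function.Surjective π := fun B => by
    obtain ⟨g, hg, hgB⟩ := hA B
    exact ⟨⟨g, hg, B, hgB⟩, huniq _ _ fun u h => (hgB u).2⟩
  set UL : Subgroup L := θ.ker.map (Subgroup.inclusion hUL) with hULdef
  have hmemUL : ∀ {x : L}, x ∈ UL ↔ ∃ h : (x : G) ∈ U, θ ⟨_, h⟩ = 1 := fun {x} =>
    ⟨fun ⟨y, hy, hyx⟩ => hyx ▸ ⟨y.2, hy⟩, fun ⟨h, hx⟩ => ⟨⟨x, h⟩, hx, rfl⟩⟩
  haveI : UL.Normal := ⟨fun x hx g => by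
    obtain ⟨h, hx⟩ := hmemUL.1 hx
    obtain ⟨h', e⟩ := hA' g ⟨_, h⟩
    refine hmemUL.2 ⟨h', ?_⟩
    rw [hx] at e
    simpa using e⟩
  have hπU : UL ≤ π.ker := fun x hx => by
    obtain ⟨h, -⟩ := hmemUL.1 hx
    refine huniq x 1 fun u h' => ?_
    rw [Matrix.SpecialLinearGroup.coe_one, Matrix.one_mulVec, ofAdd_toAdd,
      show (⟨(x : G) * u * (x : G)⁻¹, h'⟩ : U) = ⟨x, h⟩ * u * ⟨x, h⟩⁻¹ from rfl, map_mul, map_mul, map_inv,
      mul_comm (θ ⟨x, h⟩), mul_inv_cancel_right]
  let f₀ : U ⧸ θ.ker →* L ⧸ UL := QuotientGroup.lift θ.ker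
    ((QuotientGroup.mk' UL).comp (Subgroup.inclusion hUL))
    fun x hx => (QuotientGroup.eq_one_iff _).2 ⟨x, hx, rfl⟩
  have hf₀ : Function.Injective f₀ := by
    rw [injective_iff_map_eq_one]
    intro w hw
    obtain ⟨x, rfl⟩ := QuotientGroup.mk_surjective w
    obtain ⟨y, hy, hyx⟩ := (QuotientGroup.eq_one_iff _).1 hw
    exact (QuotientGroup.eq_one_iff _).2 (Subgroup.inclusion_injective hUL hyx ▸ hy)
  let eθ := QuotientGroup.quotientKerEquivOfSurjective θ hθ
  let φ : L ⧸ UL →* Matrix.SpecialLinearGroup (Fin 2) (ZMod p) := QuotientGroup.lift UL π hπU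
  have hsec : Thompson.HasSection (qd p) (L ⧸ UL) := by
    refine Thompson.hasSection_qd hp ⊤ (φ.comp (⊤ : Subgroup (L ⧸ UL)).subtype) (fun B => ?_)
      (f₀.comp eθ.symm.toMonoidHom) (hf₀.comp eθ.symm.injective) fun m v => ?_
    · obtain ⟨g, hg⟩ := hπ B
      exact ⟨⟨QuotientGroup.mk g, Subgroup.mem_top _⟩, hg⟩
    · obtain ⟨u, hu⟩ := hθ (Multiplicative.ofAdd v)
      obtain ⟨g, hg⟩ := QuotientGroup.mk_surjective (m : L ⧸ UL)
      obtain ⟨h, e⟩ := hA' g u
      rw [hu, toAdd_ofAdd] at e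
      show (m : L ⧸ UL) * f₀ (eθ.symm _) * (m : L ⧸ UL)⁻¹ = f₀ (eθ.symm _)
      rw [show eθ.symm (Multiplicative.ofAdd v) = QuotientGroup.mk u from
          eθ.symm_apply_eq.2 hu.symm,
        show φ.comp (⊤ : Subgroup (L ⧸ UL)).subtype m = A g from (congrArg φ hg).symm,
        show eθ.symm (Multiplicative.ofAdd ((A g : Matrix (Fin 2) (Fin 2) (ZMod p)) *ᵥ v)) =
          QuotientGroup.mk (⟨_, h⟩ : U) from eθ.symm_apply_eq.2 e.symm, ← hg]
      rfl
  exact Thompson.hasSection_iff.1 ((hsec.of_surjective (QuotientGroup.mk'_surjective UL)).of_injective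
    (f := Subgroup.inclusion (show L ≤ R from fun g hg => hg.1)) (Subgroup.inclusion_injective _))

omit [Fact p.Prime] in
theorem mulVec_conj {p : ℕ} [Fact p.Prime] (A : Matrix.SpecialLinearGroup (Fin 2) (ZMod p))
    (v w : Fin 2 → ZMod p) : H58.Qd.mk A w * H58.Qd.mk 1 v * (H58.Qd.mk A w)⁻¹ =
      H58.Qd.mk 1 ((A : Matrix (Fin 2) (Fin 2) (ZMod p)) *ᵥ v) := by
  rw [mul_inv_eq_iff_eq_mul, H58.Qd.mk_mul, H58.Qd.mk_mul, mul_one, one_mul,
    Matrix.SpecialLinearGroup.coe_one, Matrix.one_mulVec, add_comm]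

theorem hasPair_of_involves [Finite G] (h : Involves ↥(qd p) G) : HasPair p (⊤ : Subgroup G) := by
  obtain ⟨M, φ₀, hφ₀⟩ := Thompson.hasSection_iff.2 h
  let φ : M →* ↥(qdOver (ZMod p)) :=
    (MulEquiv.subgroupCongr (show qd p = qdOver (ZMod p) from rfl)).toMonoidHom.comp φ₀
  have hφ : Function.Surjective φ :=
    (MulEquiv.subgroupCongr (show qd p = qdOver (ZMod p) from rfl)).surjective.comp hφ₀
  haveI : (H58.Qd.trans (ZMod p)).Normal := MonoidHom.normal_ker _
  set W := (H58.Qd.trans (ZMod p)).comap φ with hW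
  obtain ⟨T⟩ := (inferInstance : Nonempty (Sylow p W))
  set U := (T : Subgroup W).map W.subtype with hU
  have hfr : Subgroup.normalizer (U : Set M) ⊔ W = ⊤ := Sylow.normalizer_sup_eq_top T
  have hUW : ∀ x ∈ U, φ x ∈ H58.Qd.trans (ZMod p) := by
    rintro _ ⟨x, -, rfl⟩
    exact x.2
  have htr : ∀ x ∈ U, φ x = H58.Qd.mk 1 ![H58.Qd.ent (φ x) 0 2, H58.Qd.ent (φ x) 1 2] := fun x hx => by
    rw [← show H58.Qd.toSL2 (φ x) = 1 from hUW x hx]
    exact H58.Qd.eq_mk _
  let θ : U →* Multiplicative (Fin 2 → ZMod p) :=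
    MonoidHom.mk' (fun x => Multiplicative.ofAdd ![H58.Qd.ent (φ x) 0 2, H58.Qd.ent (φ x) 1 2]) fun a b => by
      apply Multiplicative.toAdd.injective
      have h1 : φ (a : M) * φ (b : M) =
          H58.Qd.mk 1 (![H58.Qd.ent (φ b) 0 2, H58.Qd.ent (φ b) 1 2] + ![H58.Qd.ent (φ a) 0 2, H58.Qd.ent (φ a) 1 2]) := by
        conv_lhs => rw [htr a a.2, htr b b.2, H58.Qd.mk_mul, one_mul, Matrix.SpecialLinearGroup.coe_one,
          Matrix.one_mulVec]
      funext i
      fin_cases i <;> simp [h1, add_comm]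
  have hθs : Function.Surjective θ := fun v => by
    obtain ⟨m, hm⟩ := hφ (H58.Qd.mk 1 (Multiplicative.toAdd v))
    have hmW : m ∈ W := by
      show φ m ∈ H58.Qd.trans (ZMod p)
      rw [hm]; exact (H58.Qd.mem_trans_iff _).2 ⟨_, rfl⟩
    let ρ : W →* H58.Qd.trans (ZMod p) := φ.subgroupComap _
    have hρ : Function.Surjective ρ := φ.subgroupComap_surjective_of_surjective _ hφ
    have htop : (T.mapSurjective hρ : Subgroup (H58.Qd.trans (ZMod p))) = ⊤ :=
      ((T.mapSurjective hρ).is_maximal' ((H58.Qd.trans_isPGroup (F := ZMod p)).to_subgroup ⊤) le_top).symm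
    obtain ⟨t, ht, hte⟩ : ρ ⟨m, hmW⟩ ∈ (T : Subgroup W).map ρ := by
      rw [← Sylow.coe_mapSurjective hρ, htop]; exact Subgroup.mem_top _
    refine ⟨⟨(t : M), ⟨t, ht, rfl⟩⟩, Multiplicative.toAdd.injective ?_⟩
    have h1 : φ (t : M) = H58.Qd.mk 1 (Multiplicative.toAdd v) := (congrArg Subtype.val hte).trans hm
    show ![H58.Qd.ent (φ (t : M)) 0 2, H58.Qd.ent (φ (t : M)) 1 2] = _
    funext i
    fin_cases i <;> simp [h1]
  have hA : Acts p (⊤ : Subgroup M) U θ := by
    refine ⟨hθs, fun A => ?_⟩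
    obtain ⟨m, hm⟩ := hφ (H58.Qd.mk A 0)
    obtain ⟨n, hn, w, hw, hnw⟩ := Subgroup.mem_sup_of_normal_right.mp (hfr.ge (Subgroup.mem_top m))
    refine ⟨n, Subgroup.mem_top _, fun u => ⟨(Subgroup.mem_normalizer_iff.1 hn u).1 u.2,
      Multiplicative.toAdd.injective ?_⟩⟩
    have hn' : H58.Qd.toSL2 (φ n) = A := by
      rw [← hnw, map_mul] at hm
      have h2 := congrArg H58.Qd.toSL2 hm
      rwa [map_mul, show H58.Qd.toSL2 (φ w) = 1 from hw, mul_one, H58.Qd.toSL2_mk] at h2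
    have h3 : φ (n * (u : M) * n⁻¹) = H58.Qd.mk 1
        ((A : Matrix (Fin 2) (Fin 2) (ZMod p)) *ᵥ ![H58.Qd.ent (φ u) 0 2, H58.Qd.ent (φ u) 1 2]) := by
      conv_lhs => rw [map_mul, map_mul, map_inv, htr u u.2, H58.Qd.eq_mk (φ n), hn', mulVec_conj]
    show ![H58.Qd.ent (φ (n * (u : M) * n⁻¹)) 0 2, H58.Qd.ent (φ (n * (u : M) * n⁻¹)) 1 2] = _
    rw [h3]
    funext i
    fin_cases i <;> simp [θ]
  obtain ⟨U', θ', h1, -, h2⟩ := hasPair_map M.subtype ((T.isPGroup'.map _)) le_top hA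
    fun x _ hx => M.subtype_injective (hx.trans (map_one _).symm)
  exact ⟨U', θ', h1, le_top, h2.1, fun A => by
    obtain ⟨g, -, hg⟩ := h2.2 A
    exact ⟨g, Subgroup.mem_top _, hg⟩⟩

/-- A pair can be moved to the normalizer of a `p`-subgroup containing all `p`-elements centralizing it. -/
theorem exists_centric_pair [Finite G] (h : HasPair p (⊤ : Subgroup G)) :
    ∃ Q : Subgroup G, IsPGroup p Q ∧
      (∀ x ∈ Subgroup.centralizer (Q : Set G), IsPGroup p (Subgroup.zpowers x) → x ∈ Q) ∧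
      HasPair p (Subgroup.normalizer (Q : Set G)) := by
  obtain ⟨U, θ, hUp, -, hA⟩ := h
  set C := Subgroup.centralizer (U : Set G) with hC
  obtain ⟨T⟩ := (inferInstance : Nonempty (Sylow p C))
  set T' := (T : Subgroup C).map C.subtype with hT'
  have hT'C : T' ≤ C := Subgroup.map_subtype_le _
  have hUT : U ≤ Subgroup.normalizer (T' : Set G) := by
    refine fun x hx => Subgroup.centralizer_le_normalizer _ (Subgroup.mem_centralizer_iff.2 fun t ht => ?_)
    exact (Subgroup.mem_centralizer_iff.1 (hT'C ht) x hx).symm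
  set Q := U ⊔ T' with hQ
  have hQp : IsPGroup p Q := hUp.to_sup_of_normal_right' (T.isPGroup'.map _) hUT
  refine ⟨Q, hQp, fun x hx hxp => ?_, U, θ, hUp, le_sup_left.trans Subgroup.le_normalizer, hA.1, fun A => ?_⟩
  · have hxC : x ∈ C := Subgroup.centralizer_le (le_sup_left : U ≤ Q) hx
    have hxT : x ∈ Subgroup.normalizer (T' : Set G) :=
      Subgroup.centralizer_le_normalizer _ (Subgroup.centralizer_le (le_sup_right : T' ≤ Q) hx)
    have hp' : IsPGroup p (T' ⊔ Subgroup.zpowers x : Subgroup G) :=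
      (T.isPGroup'.map _).to_sup_of_normal_left' hxp (Subgroup.zpowers_le.2 hxT)
    have hle : T' ⊔ Subgroup.zpowers x ≤ C := sup_le hT'C (Subgroup.zpowers_le.2 hxC)
    have h1 := T.is_maximal' (hp'.comap_subtype (K := C)) fun t ht =>
      Subgroup.mem_sup_left (⟨t, ht, rfl⟩ : (t : G) ∈ T')
    refine Subgroup.mem_sup_right ⟨⟨x, hxC⟩, ?_, rfl⟩
    rw [← h1]
    exact Subgroup.mem_sup_right (Subgroup.mem_zpowers x)
  · obtain ⟨g, -, hg⟩ := hA.2 A
    have hgU : g ∈ Subgroup.normalizer (U : Set G) :=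
      mem_normalizer_of_maps fun y hy => (hg ⟨y, hy⟩).1
    have hgC : g ∈ Subgroup.normalizer (C : Set G) := mem_normalizer_of_maps fun y hy => by
      refine Subgroup.mem_centralizer_iff.2 fun w hw => ?_
      have hw' : g⁻¹ * w * g ∈ U := by
        simpa using (Subgroup.mem_normalizer_iff.1 (inv_mem hgU) w).1 hw
      have := Subgroup.mem_centralizer_iff.1 hy _ hw'
      calc w * (g * y * g⁻¹) = g * (g⁻¹ * w * g * y) * g⁻¹ := by group
        _ = g * y * g⁻¹ * w := by rw [this]; group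
    let cg : MulAut C := conjAut hgC
    obtain ⟨c, hc⟩ := MulAction.exists_smul_eq C (T.mapSurjective (f := cg.toMonoidHom) cg.surjective) T
    have hcU : ∀ u : U, (c : G) * g * u * ((c : G) * g)⁻¹ = g * u * g⁻¹ := fun u => by
      have := Subgroup.mem_centralizer_iff.1 c.2 _ (hg u).1
      calc (c : G) * g * u * ((c : G) * g)⁻¹ = (c : G) * (g * u * g⁻¹) * (c : G)⁻¹ := by group
        _ = g * u * g⁻¹ := by rw [← this, mul_inv_cancel_right]
    refine ⟨c * g, mem_normalizer_of_maps fun y hy => ?_, fun u => ?_⟩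
    · have hle : Q ≤ Q.comap (MulAut.conj ((c : G) * g)).toMonoidHom := by
        refine sup_le (fun w hw => ?_) fun w hw => ?_
        · refine Subgroup.mem_sup_left ?_
          show (c : G) * g * w * ((c : G) * g)⁻¹ ∈ U
          exact (hcU ⟨w, hw⟩).symm ▸ (hg ⟨w, hw⟩).1
        · obtain ⟨t, ht, rfl⟩ := hw
          have ht' : c * cg t * c⁻¹ ∈ (T : Subgroup C) := by
            refine (SetLike.ext_iff.1 (congrArg Sylow.toSubgroup hc) _).1 ?_
            rw [Sylow.coe_subgroup_smul]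
            exact ⟨cg t, ⟨t, ht, rfl⟩, rfl⟩
          refine Subgroup.mem_sup_right ⟨_, ht', ?_⟩
          show (c : G) * (g * t * g⁻¹) * (c : G)⁻¹ = (c : G) * g * t * ((c : G) * g)⁻¹
          group
      exact hle hy
    · obtain ⟨h, e⟩ := hg u
      refine ⟨(hcU u).symm ▸ h, ?_⟩
      rw [← e]
      exact congrArg θ (Subtype.ext (hcU u))

section Model

variable [Finite G] (P : Sylow p G)

/-- For a fully normalized centric subgroup the model of the normalizer system is a quotient of the normalizer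
by a normal subgroup of order prime to `p`. -/
theorem exists_model_quotient {Q : Subgroup G} (hQn : (groupFusionSystem (P : Subgroup G)).IsFullyNormalized Q)
    (hQc : (groupFusionSystem (P : Subgroup G)).IsCentric Q)
    {N : FusionSystem (normalizerIn (P : Subgroup G) Q)}
    (hN : (groupFusionSystem (P : Subgroup G)).IsNormalizerSystem Q N) :
    ∃ (K : Subgroup (Subgroup.normalizer (Q : Set G))) (_ : K.Normal), ¬ p ∣ Nat.card K ∧
      N.IsModel p (↥(Subgroup.normalizer (Q : Set G)) ⧸ K)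
        ((QuotientGroup.mk' K).comp (Subgroup.inclusion (normalizerIn_le_normalizer (P : Subgroup G) Q))) := by
  have hQP := hQc.1
  set M := Subgroup.normalizer (Q : Set G) with hM
  set κ := Subgroup.inclusion (normalizerIn_le_normalizer (P : Subgroup G) Q) with hκ
  have hidx := (isFullyNormalized_group_iff P hQP).1 hQn
  have hK := isKSys_normalizer_iff.1 hN
  have hQT : Q ≤ normalizerIn (P : Subgroup G) Q := le_normalizerIn_self hQP
  have hreal : N.IsRealizedBy κ := by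
    refine H49.isRealizedBy_of_isMap (Subgroup.inclusion_injective _) ?_ ?_
    · intro R f hf
      obtain ⟨hR, hfT, g, hg, hge, hgQ⟩ := (hK.map_iff R f).1 hf
      obtain ⟨-, a, ha⟩ := isMap_group_iff.1 hg
      have hgQ' := (onQ_top_iff hg le_sup_right).1 hgQ
      have haM : a ∈ M := mem_normalizer_of_maps fun y hy => by
        rw [← (ha y (Subgroup.mem_sup_right hy)).2, ← SetLike.mem_coe, ← hgQ']
        exact ⟨y, hy, rfl⟩
      refine ⟨⟨a, haM⟩, fun x hx => ⟨hfT x hx, Subtype.ext ?_⟩⟩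
      show f x = a * x * a⁻¹
      rw [← hge x hx, (ha x (Subgroup.mem_sup_left hx)).2]
    · intro R φ hR hφ g hg
      have hc : ∀ x ∈ R, (g : G) * x * (g : G)⁻¹ = homFun φ x := fun x hx =>
        (congrArg Subtype.val (hg ⟨x, hR hx⟩ hx (hφ x hx))).symm
      have hin : R ⊔ Q ≤ (normalizerIn (P : Subgroup G) Q).comap (MulAut.conj (g : G)).toMonoidHom := by
        refine sup_le (fun x hx => ?_) fun x hx => ?_
        · show (g : G) * x * (g : G)⁻¹ ∈ normalizerIn (P : Subgroup G) Q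
          rw [hc x hx]; exact hφ x hx
        · exact hQT ((Subgroup.mem_normalizer_iff.1 g.2 x).1 hx)
      have hmap : IsMap (groupFusionSystem (P : Subgroup G)) (R ⊔ Q) (conjMap (g : G)) :=
        isMap_group_iff.2 ⟨sup_le (hR.trans normalizerIn_le) hQP, g,
          fun x hx => ⟨normalizerIn_le (S := (P : Subgroup G)) (hin hx), rfl⟩⟩
      exact (hK.map_iff R _).2 ⟨hR, hφ, conjMap (g : G), hmap, hc,
        (onQ_top_iff hmap le_sup_right).2 ((hmap.mono le_sup_right).image_eq_of_mapsTo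
          fun x hx => (Subgroup.mem_normalizer_iff.1 g.2 x).1 hx)⟩
  have hsyl : ∃ U : Sylow p M, (U : Subgroup M) = κ.range := by
    have hr : κ.range = (normalizerIn (P : Subgroup G) Q).subgroupOf M := Subgroup.inclusion_range _
    exact ⟨((P.isPGroup'.to_le normalizerIn_le).comap_subtype (K := M)).toSylow hidx, hr.symm⟩
  have hCM : Subgroup.centralizer (Q : Set G) ≤ M := centralizer_le_normalizer' Q
  set C := (Subgroup.centralizer (Q : Set G)).subgroupOf M with hCdef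
  set Y := Q.subgroupOf M with hY
  haveI : Y.Normal := Subgroup.normal_in_normalizer
  haveI : C.Normal := by
    refine ⟨fun c hc m => ?_⟩
    refine Subgroup.mem_centralizer_iff.2 fun y hy => ?_
    show y * ((m : G) * c * (m : G)⁻¹) = (m : G) * c * (m : G)⁻¹ * y
    have hy' : (m : G)⁻¹ * y * m ∈ Q := by
      simpa using (Subgroup.mem_normalizer_iff.1 (inv_mem m.2) y).1 hy
    have : (m : G)⁻¹ * y * m * (c : G) = (c : G) * ((m : G)⁻¹ * y * m) :=
      Subgroup.mem_centralizer_iff.1 hc _ hy'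
    calc y * ((m : G) * c * (m : G)⁻¹) = (m : G) * ((m : G)⁻¹ * y * m * c) * (m : G)⁻¹ := by group
      _ = (m : G) * c * (m : G)⁻¹ * y := by rw [this]; group
  have hidxC := centralizer_sylow_of_normalizer hidx
  have hCP : centralizerIn (P : Subgroup G) Q ≤ Q := centralizerIn_le_of_isCentric hQc
  set Z := ((centralizerIn (P : Subgroup G) Q).subgroupOf M).subgroupOf C with hZ
  have hZi : ¬ p ∣ Z.index := by
    show ¬ p ∣ ((centralizerIn (P : Subgroup G) Q).subgroupOf M).relIndex C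
    rwa [hCdef, Subgroup.relIndex_subgroupOf hCM]
  let ZS : Sylow p C :=
    (((P.isPGroup'.to_le centralizerIn_le).comap_subtype (K := M)).comap_subtype (K := C)).toSylow hZi
  have hZc : Subgroup.normalizer (Z : Set C) ≤ Subgroup.centralizer (Z : Set C) := by
    refine le_trans le_top fun c _ => Subgroup.mem_centralizer_iff.2 fun z hz => ?_
    exact Subtype.ext (Subtype.ext (Subgroup.mem_centralizer_iff.1 c.2 _ (hCP hz)))
  set K₀ := (MonoidHom.transferSylow ZS hZc).ker with hK₀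
  have hcompl := MonoidHom.ker_transferSylow_isComplement' ZS hZc
  set K := pPrimeCore p M with hKdef
  refine ⟨K, inferInstance, fun hd => ?_, ?_⟩
  · exact ((Fact.out : p.Prime).coprime_iff_not_dvd.1 (Cores.coprime_card_pPrimeCore (p := p) (G := M)).symm) hd
  refine H49.isModel_quotient (P.isPGroup'.to_le normalizerIn_le) hreal hsyl K
    (fun hd => (Fact.out : p.Prime).coprime_iff_not_dvd.1
      (Cores.coprime_card_pPrimeCore (p := p) (G := M)).symm hd) Y
    ((P.isPGroup'.to_le hQP).comap_subtype) ?_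
  have hK₀K : K₀.map C.subtype ≤ K := by
    have h1 : K₀ ≤ pPrimeCore p C := Cores.le_pPrimeCore
      (((Fact.out : p.Prime).coprime_iff_not_dvd.2 (MonoidHom.not_dvd_card_ker_transferSylow ZS hZc)).symm)
    refine (Subgroup.map_mono h1).trans (Cores.le_pPrimeCore ?_)
    rw [Subgroup.card_map_of_injective C.subtype_injective]
    exact Cores.coprime_card_pPrimeCore
  intro x hx
  have hxC : x ∈ C := Subgroup.mem_centralizer_iff.2 fun y hy =>
    congrArg Subtype.val (Subgroup.mem_centralizer_iff.1 hx ⟨y, Subgroup.le_normalizer hy⟩ hy)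
  obtain ⟨⟨⟨k, hk⟩, ⟨z, hz⟩⟩, hkz⟩ := hcompl.2 ⟨x, hxC⟩
  have : x = ((k : C) : M) * ((z : C) : M) := (congrArg Subtype.val hkz).symm
  rw [this]
  exact mul_mem (Subgroup.mem_sup_right (hK₀K ⟨k, hk, rfl⟩))
    (Subgroup.mem_sup_left (show ((z : C) : M) ∈ Y from hCP hz))

/-- `Qd(p)`-freeness of the fusion system and of the group. -/
theorem isSectionFree_iff (hp : p ≠ 2) :
    (groupFusionSystem (P : Subgroup G)).IsSectionFree p ↥(qd p) ↔ ¬ Involves ↥(qd p) G := by
  constructor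
  · intro hfree hinv
    obtain ⟨Q₀, hQ₀p, hQ₀c, U, θ, hUp, hUR, hA⟩ := exists_centric_pair (hasPair_of_involves hinv)
    obtain ⟨T, hT⟩ := hQ₀p.exists_le_sylow
    obtain ⟨g₁, hg₁⟩ := MulAction.exists_smul_eq G T P
    have h₁ : Q₀.map (MulAut.conj g₁).toMonoidHom ≤ (P : Subgroup G) := by
      rintro _ ⟨x, hx, rfl⟩
      rw [← hg₁, Sylow.coe_subgroup_smul]
      exact ⟨x, hT hx, rfl⟩
    obtain ⟨g₂, h₂, hidx⟩ := exists_conj_sylow_normalizer P h₁
    rw [Subgroup.map_map] at h₂ hidx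
    have hcomp : (MulAut.conj g₂).toMonoidHom.comp (MulAut.conj g₁).toMonoidHom =
        (MulAut.conj (g₂ * g₁)).toMonoidHom := MonoidHom.ext fun x => by simp [mul_assoc]
    rw [hcomp] at h₂ hidx
    set g := g₂ * g₁
    set c := (MulAut.conj g).toMonoidHom with hcdef
    set Q := Q₀.map c with hQ
    have hn := isFullyNormalized_of_sylow P h₂ hidx
    have hQc : (groupFusionSystem (P : Subgroup G)).IsCentric Q := by
      refine ⟨h₂, fun Q' hQ' x hx => ?_⟩
      obtain ⟨-, -, a, rfl⟩ := isConj_group_iff.1 hQ'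
      obtain ⟨hxP, hxc⟩ := mem_centralizerIn.1 hx
      set b := (MulAut.conj a).toMonoidHom.comp c
      obtain ⟨y, rfl⟩ : ∃ y, b y = x :=
        ((MulAut.conj a).surjective.comp (MulAut.conj g).surjective) x
      have hbi : Function.Injective b := (MulAut.conj a).injective.comp (MulAut.conj g).injective
      refine ⟨c y, ⟨y, hQ₀c y (Subgroup.mem_centralizer_iff.2 fun w hw => hbi ?_) ?_, rfl⟩, rfl⟩
      · rw [map_mul, map_mul]
        exact hxc (b w) ⟨c w, ⟨w, hw, rfl⟩, rfl⟩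
      · rintro ⟨_, k, rfl⟩
        obtain ⟨n, hn'⟩ := P.isPGroup' ⟨b (y ^ k), by rw [map_zpow]; exact zpow_mem hxP k⟩
        refine ⟨n, Subtype.ext (show (y ^ k) ^ p ^ n = 1 from hbi ?_)⟩
        rw [map_pow, map_one]
        exact congrArg Subtype.val hn'
    set R := Subgroup.normalizer (Q : Set G)
    obtain ⟨N, hN⟩ := exists_normalizerSystem (groupFusionSystem (P : Subgroup G)) hQc.1
    obtain ⟨K, hKn, hKp, hmodel⟩ := exists_model_quotient P hn hQc hN
    refine hfree Q hn hQc N hN _ _ hmodel ?_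
    -- move the pair
    have hmap : (Subgroup.normalizer (Q₀ : Set G)).map c ≤ R :=
      Subgroup.le_normalizer_map c
    obtain ⟨U₁, θ₁, hU₁p, hU₁R, hA₁⟩ := hasPair_map c hUp hUR hA
      fun x _ hx => (MulAut.conj g).injective (hx.trans (map_one _).symm)
    -- to the subgroup as a group
    let θ₂ : U₁.subgroupOf R →* Multiplicative (Fin 2 → ZMod p) :=
      θ₁.comp (Subgroup.subgroupOfEquivOfLe (hU₁R.trans hmap)).toMonoidHom
    have hA₂ : Acts p (⊤ : Subgroup R) (U₁.subgroupOf R) θ₂ := by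
      refine ⟨hA₁.1.comp (Subgroup.subgroupOfEquivOfLe (hU₁R.trans hmap)).surjective, fun A => ?_⟩
      obtain ⟨a, ha, haA⟩ := hA₁.2 A
      refine ⟨⟨a, hmap ha⟩, Subgroup.mem_top _, fun u => ?_⟩
      obtain ⟨h, e⟩ := haA ⟨(u : R), u.2⟩
      exact ⟨h, e⟩
    obtain ⟨U₃, θ₃, h31, h32, h33⟩ := hasPair_map (QuotientGroup.mk' K)
      (hU₁p.comap_subtype (K := R)) le_top hA₂ fun x hx h1 => by
        obtain ⟨k, hk⟩ := hU₁p ⟨(x : G), hx⟩
        have hd : orderOf x ∣ p ^ k := orderOf_dvd_of_pow_eq_one (Subtype.ext (congrArg Subtype.val hk :))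
        have hd2 : orderOf x ∣ Nat.card K := Subgroup.orderOf_dvd_natCard K ((QuotientGroup.eq_one_iff x).1 h1)
        exact orderOf_eq_one_iff.1 (Nat.eq_one_of_dvd_coprimes
          (((Fact.out : p.Prime).coprime_iff_not_dvd.2 hKp).pow_left k) hd hd2)
    exact H49.involves_of_injective ((⊤ : Subgroup R).map (QuotientGroup.mk' K)).subtype
      (Subgroup.subtype_injective _) (involves_of_hasPair hp ⟨U₃, θ₃, h31, h32, h33⟩)
  · intro hfree Q hn hQc N hN L _ ι hL hinv
    obtain ⟨K, hKn, -, hmodel⟩ := exists_model_quotient P hn hQc hN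
    have hTp : IsPGroup p ↥(normalizerIn (P : Subgroup G) Q) := P.isPGroup'.to_le normalizerIn_le
    haveI : Finite ↥(normalizerIn (P : Subgroup G) Q) := Subtype.finite
    obtain ⟨e, -⟩ := exists_equiv_models hTp (isConstrained_of_model hTp hmodel) hL hmodel
    exact hfree (H49.involves_of_injective (Subgroup.normalizer (Q : Set G)).subtype
      (Subgroup.subtype_injective _)
      (H49.involves_of_surjective' (QuotientGroup.mk' K) (QuotientGroup.mk'_surjective K)
        (H49.involves_of_injective e.toMonoidHom e.injective hinv)))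

end Model

end Cfsg.Agent.FusionSys.QdGroup
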