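import Cfsg.Agent.FusionSys.Normal
import Cfsg.Agent.H48.SylowIn
import Cfsg.Agent.Cores.PCore

/-!
The saturation criterion: a system generated away from a conjugacy class, in which all larger classes have fully
automized receptive members, has such a member in that class as soon as the subgroup of `N_S(P)` acting through
`O_p(Aut_F(P))` is strictly larger than `P` for fully normalized `P`.
-/

set_option autoImplicit false

namespace Cfsg.Agent.FusionSys

open Cfsg Cfsg.FusionSystem Set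
open Cfsg.Agent.H48 (IsSylowIn)

variable {Ω : Type*} [Group Ω] {S : Subgroup Ω} {F : FusionSystem S} {P Q R : Subgroup Ω}
  {f g : Ω → Ω} {p : ℕ}

theorem imgSub_congr (h : ∀ x ∈ P, g x = f x) : imgSub g P = imgSub f P := by
  rw [imgSub, imgSub, Set.image_congr h]

theorem IsMap.imgSub_comp (hf : IsMap F P f) :
    imgSub (g ∘ f) P = imgSub g (imgSub f P) := by
  rw [imgSub, Set.image_comp, ← hf.coe_imgSub]
  rfl

theorem IsMap.imgSub_lt (hg : IsMap F R g) (hQR : Q < R) : imgSub g Q < imgSub g R := by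
  refine lt_of_le_of_ne (Subgroup.closure_mono (Set.image_mono hQR.le)) fun he => ?_
  obtain ⟨x, hxR, hxQ⟩ := SetLike.exists_of_lt hQR
  have hx : g x ∈ imgSub g Q := he ▸ hg.mem_imgSub.2 ⟨x, hxR, rfl⟩
  obtain ⟨y, hy, hyx⟩ := (hg.mono hQR.le).mem_imgSub.1 hx
  exact hxQ (hg.injOn (hQR.le hy) hxR hyx ▸ hy)

theorem card_lt_of_lt [Finite R] (h : Q < R) : Nat.card Q < Nat.card R := by
  refine lt_of_le_of_ne (Subgroup.card_le_of_le h.le) fun he => h.ne ?_
  exact Subgroup.eq_of_le_of_card_ge h.le he.ge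

theorem exists_ker_conj_le [Fact p.Prime] {M N : Type*} [Group M] [Group N] [Finite M] {Y : Subgroup M}
    (r : Y →* N) (hr : IsPGroup p r.range) {T : Subgroup M} (hT : IsSylowIn p T Y) {X : Subgroup M}
    (hX : IsPGroup p X) (hXY : X ≤ Y) :
    ∃ k, ∃ hk : k ∈ Y, r ⟨k, hk⟩ = 1 ∧ ∀ a ∈ X, k * a * k⁻¹ ∈ T := by
  obtain ⟨y, hy, hyT⟩ := hT.exists_cj_le hX hXY
  have hsup : T.subgroupOf Y ⊔ r.ker = ⊤ := by
    rw [← Subgroup.index_eq_one]
    have h1 : (T.subgroupOf Y ⊔ r.ker).index ∣ (T.subgroupOf Y).index :=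
      Subgroup.index_dvd_of_le le_sup_left
    have h2 : (T.subgroupOf Y ⊔ r.ker).index ∣ r.ker.index := Subgroup.index_dvd_of_le le_sup_right
    rw [Subgroup.index_ker] at h2
    haveI : Finite r.range := Finite.of_surjective _ r.rangeRestrict_surjective
    obtain ⟨n, hn⟩ := IsPGroup.iff_card.1 hr
    rw [hn] at h2
    obtain ⟨m, -, hm⟩ := (Nat.dvd_prime_pow Fact.out).1 h2
    rcases m with _ | m
    · simpa using hm
    · exact absurd ((dvd_pow_self p m.succ_ne_zero).trans (hm ▸ h1)) hT.ndvd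
  have hyY : (⟨y, hy⟩ : Y) ∈ T.subgroupOf Y ⊔ r.ker := hsup ▸ Subgroup.mem_top _
  obtain ⟨t, ht, k, hk, he⟩ := Subgroup.mem_sup_of_normal_right.1 hyY
  refine ⟨k, k.2, hk, fun a ha => ?_⟩
  have h := H48.cj_le.1 hyT a ha
  have he' : (t : M) * k = y := congrArg Subtype.val he
  rw [← he'] at h
  have := mul_mem (mul_mem (inv_mem (show (t : M) ∈ T from ht)) h) (show (t : M) ∈ T from ht)
  convert this using 1
  group

/-! ### Stabilizers in automorphism groups -/

/-- The automorphisms of `R` stabilizing `R ∩ P`. -/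
def setStab (R P : Subgroup Ω) : Subgroup (MulAut R) where
  carrier := {a | ∀ x : R, (x : Ω) ∈ P ↔ ((a x : R) : Ω) ∈ P}
  one_mem' := fun _ => Iff.rfl
  mul_mem' := fun {a b} ha hb x => (hb x).trans (ha (b x))
  inv_mem' := fun {a} ha x => by
    have h := ha (a⁻¹ x)
    rw [MulAut.apply_inv_self] at h
    exact h.symm

theorem mem_setStab_of_mapsTo [Finite R] (hPR : P ≤ R) {a : MulAut R}
    (h : ∀ x ∈ P, autMap a x ∈ P) : a ∈ setStab R P := by
  haveI : Finite P := Finite.of_injective _ (Subgroup.inclusion_injective hPR)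
  intro x
  refine ⟨fun hx => autMap_coe a x ▸ h x hx, fun hx => ?_⟩
  let k : P → P := fun z => ⟨autMap a z, h z z.2⟩
  have hk : Function.Injective k := fun z w hzw => by
    have h1 : autMap a z = autMap a w := congrArg Subtype.val hzw
    rw [autMap_apply _ (hPR z.2), autMap_apply _ (hPR w.2), SetLike.coe_eq_coe,
      a.injective.eq_iff] at h1
    exact Subtype.ext (congrArg Subtype.val h1 :)
  obtain ⟨z, hz⟩ := (Finite.injective_iff_surjective.1 hk) ⟨_, hx⟩
  have h1 : autMap a z = ((a x : R) : Ω) := congrArg Subtype.val hz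
  rw [autMap_apply _ (hPR z.2), SetLike.coe_eq_coe, a.injective.eq_iff] at h1
  exact h1 ▸ z.2

/-- Restriction of automorphisms stabilizing `P` to `P`. -/
def stabRes {R P : Subgroup Ω} (hPR : P ≤ R) : setStab R P →* MulAut P where
  toFun a :=
    { toFun := fun x => ⟨((a : MulAut R) ⟨x, hPR x.2⟩ : R), (a.2 ⟨x, hPR x.2⟩).1 x.2⟩
      invFun := fun x => ⟨((a : MulAut R).symm ⟨x, hPR x.2⟩ : R),
        ((setStab R P).inv_mem a.2 ⟨x, hPR x.2⟩).1 x.2⟩
      left_inv := fun x => Subtype.ext (by simp)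
      right_inv := fun x => Subtype.ext (by simp)
      map_mul' := fun x y => Subtype.ext (by
        show (((a : MulAut R) (⟨x, hPR x.2⟩ * ⟨y, hPR y.2⟩) : R) : Ω) = _
        rw [map_mul]
        rfl) }
  map_one' := MulEquiv.ext fun _ => rfl
  map_mul' _ _ := MulEquiv.ext fun _ => rfl

theorem autMap_stabRes (hPR : P ≤ R) (a : setStab R P) {x : Ω} (hx : x ∈ P) :
    autMap (stabRes hPR a) x = autMap (a : MulAut R) x := by
  rw [autMap_apply _ hx, autMap_apply _ (hPR hx)]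
  rfl

theorem autInducedBy_mono {K L : Subgroup Ω} (h : K ≤ L) : autInducedBy K P ≤ autInducedBy L P :=
  Subgroup.closure_mono fun _ ⟨x, hx, he⟩ => ⟨x, h hx, he⟩

theorem IsIso.autEquiv_mem_setStab [Finite S] {R' : Subgroup Ω} (hf : IsIso F R R' f) (hQR : Q ≤ R)
    {x : Ω} (hxR : x ∈ Subgroup.normalizer (R : Set Ω)) (hxQ : x ∈ Subgroup.normalizer (Q : Set Ω)) :
    hf.autEquiv (conjAut hxR) ∈ setStab R' (imgSub f Q) := by
  haveI := finite_of_le hf.target_le
  have hQ := hf.isMap.mono hQR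
  refine mem_setStab_of_mapsTo (fun y hy => ?_) fun y hy => ?_
  · obtain ⟨z, hz, rfl⟩ := hQ.mem_imgSub.1 hy
    exact hf.mem (hQR hz)
  · obtain ⟨z, hz, rfl⟩ := hQ.mem_imgSub.1 hy
    rw [hf.autMap_autEquiv _ (hQR hz), autMap_conjAut hxR (hQR hz)]
    exact hQ.mem_imgSub.2 ⟨_, (Subgroup.mem_normalizer_iff.1 hxQ z).1 hz, rfl⟩

/-- Extension to `N` of an isomorphism onto a receptive subgroup, twisted by an automorphism. -/
theorem exists_twisted_extension {R' : Subgroup Ω} (hR' : F.IsReceptive R') (hf : IsIso F R R' f)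
    {N : Subgroup Ω} (hN : N ≤ normalizerIn S R) {χ : MulAut R'} (hχ : χ ∈ F.autGroup R')
    (h : ∀ a ∈ autInducedBy N R, χ * hf.autEquiv a * χ⁻¹ ∈ autInducedBy S R') :
    ∃ g, IsMap F (N ⊔ R) g ∧ ∀ y ∈ R, g y = autMap χ (f y) := by
  refine receptive_extend hR' (hf.comp (isIso_autMap hR'.1 hχ)) fun x hx => ?_
  have hxn := (hN hx).2
  obtain ⟨k, hkS, hkn, hk⟩ := mem_autInducedBy.1 (h _ (mem_autInducedBy.2 ⟨x, hx, hxn, rfl⟩))
  rw [mul_inv_eq_iff_eq_mul] at hk
  refine ⟨(hN hx).1, hxn, k, hkS, fun y hy => ?_⟩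
  have h1 := congrArg (fun a => autMap a (f y)) hk
  rw [autMap_mul _ _ (hf.mem hy), autMap_mul _ _ (hf.mem hy), hf.autMap_autEquiv _ hy,
    autMap_conjAut hxn hy, autMap_conjAut hkn (autMap_mem _ (hf.mem hy))] at h1
  exact h1

/-! ### `O_p(Aut_F(P))` and the subgroup of `N_S(P)` acting through it -/

/-- `O_p(Aut_F(P))` as a subgroup of `Aut(P)`. -/
def opAut (F : FusionSystem S) (p : ℕ) (P : Subgroup Ω) : Subgroup (MulAut P) :=
  (pCore p (F.autGroup P)).map (F.autGroup P).subtype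

/-- The elements of `N_S(P)` inducing elements of `O_p(Aut_F(P))` on `P`. -/
def kSub (F : FusionSystem S) (p : ℕ) (P : Subgroup Ω) : Subgroup Ω :=
  ((opAut F p P).comap (conjAutIn S P)).map (normalizerIn S P).subtype

theorem mem_kSub {x : Ω} :
    x ∈ kSub F p P ↔ ∃ hx : x ∈ normalizerIn S P, conjAut hx.2 ∈ opAut F p P := by
  constructor
  · rintro ⟨y, hy, rfl⟩
    exact ⟨y.2, hy⟩
  · rintro ⟨hx, h⟩
    exact ⟨⟨x, hx⟩, h, rfl⟩

theorem kSub_le_normalizerIn : kSub F p P ≤ normalizerIn S P := Subgroup.map_subtype_le _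

theorem opAut_le : opAut F p P ≤ F.autGroup P := Subgroup.map_subtype_le _

theorem conj_mem_opAut {a b : MulAut P} (ha : a ∈ F.autGroup P) (hb : b ∈ opAut F p P) :
    a * b * a⁻¹ ∈ opAut F p P := by
  obtain ⟨c, hc, hcb⟩ := hb
  refine Subgroup.mem_map.2 ⟨(⟨a, ha⟩ : F.autGroup P) * c * (⟨a, ha⟩ : F.autGroup P)⁻¹,
    Subgroup.Normal.conj_mem inferInstance c hc _, ?_⟩
  rw [← hcb, map_mul, map_mul, map_inv]
  rfl

theorem autGroup_le_normalizer_opAut :
    F.autGroup P ≤ Subgroup.normalizer (opAut F p P : Set (MulAut P)) := fun a ha =>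
  Subgroup.mem_normalizer_iff.2 fun b => ⟨conj_mem_opAut ha, fun hb => by
    simpa [mul_assoc] using conj_mem_opAut (inv_mem ha) hb⟩

theorem inn_le_opAut [Finite S] [Fact p.Prime] (hS : IsPGroup p S) (hP : P ≤ S) :
    Inn P ≤ opAut F p P := by
  intro a ha
  exact ⟨⟨a, inn_le_autGroup F hP ha⟩, Cores.le_pCore (N := (Inn P).subgroupOf (F.autGroup P))
    ((isPGroup_inn hS hP).comap_of_injective _ (F.autGroup P).subtype_injective) ha, rfl⟩

theorem le_kSub [Finite S] [Fact p.Prime] (hS : IsPGroup p S) (hP : P ≤ S) : P ≤ kSub F p P :=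
  fun x hx => mem_kSub.2 ⟨le_normalizerIn_self hP hx, inn_le_opAut hS hP <| by
    rw [inn_eq_autInducedBy_self]
    exact mem_autInducedBy.2 ⟨x, hx, _, rfl⟩⟩

theorem centralizerIn_le_kSub : centralizerIn S P ≤ kSub F p P := fun x hx =>
  mem_kSub.2 ⟨centralizerIn_le_normalizerIn hx, by
    rw [show conjAut (centralizerIn_le_normalizerIn hx).2 =
      conjAutIn S P ⟨x, centralizerIn_le_normalizerIn hx⟩ from rfl, conjAutIn_eq_one_iff.2 hx]
    exact one_mem _⟩

theorem normalizerIn_le_normalizer_kSub (hP : P ≤ S) :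
    normalizerIn S P ≤ Subgroup.normalizer (kSub F p P : Set Ω) := by
  intro x hx
  rw [Subgroup.mem_normalizer_iff]
  have key : ∀ z ∈ normalizerIn S P, ∀ y ∈ kSub F p P, z * y * z⁻¹ ∈ kSub F p P := by
    intro z hz y hy
    obtain ⟨hy, h⟩ := mem_kSub.1 hy
    refine mem_kSub.2 ⟨mul_mem (mul_mem hz hy) (inv_mem hz), ?_⟩
    show conjAutIn S P (⟨z, hz⟩ * ⟨y, hy⟩ * ⟨z, hz⟩⁻¹) ∈ opAut F p P
    rw [map_mul, map_mul, map_inv]
    exact conj_mem_opAut (autInducedBy_le_autGroup F hP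
      (mem_autInducedBy.2 ⟨z, hz.1, hz.2, rfl⟩)) h
  refine fun y => ⟨key x hx y, fun hy => ?_⟩
  have := key _ (inv_mem hx) _ hy
  simpa [mul_assoc] using this

/-! ### Maps into a fully normalized member of a class -/

/-- `ψ` is defined on `N_S(Q)` and carries `Q` onto `P`. -/
def IsGoodMap (F : FusionSystem S) (P Q : Subgroup Ω) (ψ : Ω → Ω) : Prop :=
  IsMap F (normalizerIn S Q) ψ ∧ IsIso F Q P ψ

theorem IsGoodMap.mem {ψ : Ω → Ω} (h : IsGoodMap F P Q ψ) {x : Ω} (hx : x ∈ normalizerIn S Q) :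
    ψ x ∈ normalizerIn S P :=
  h.2.mem_normalizerIn_of_extends h.1 (le_normalizerIn_self h.2.source_le) (fun _ _ => rfl) hx hx.2

/-- The subgroups of order larger than `n` have fully automized receptive conjugates. -/
def SatAbove (F : FusionSystem S) (p n : ℕ) : Prop :=
  ∀ R : Subgroup Ω, R ≤ S → n < Nat.card R →
    ∃ R', F.IsConj R R' ∧ F.IsFullyAutomized p R' ∧ F.IsReceptive R'

theorem isSylowIn_of_fullyAutomized [Finite S] [Fact p.Prime] (hS : IsPGroup p S)
    (h : F.IsFullyAutomized p P) : IsSylowIn p (autInducedBy S P) (F.autGroup P) :=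
  ⟨autInducedBy_le_autGroup F h.1, isPGroup_autInducedBy hS P, ((isFullyAutomized_iff hS).1 h).2⟩

theorem isPGroup_map_autEquiv [Finite S] (hS : IsPGroup p S) {R' : Subgroup Ω} (hf : IsIso F R R' f)
    {N : Subgroup Ω} (hN : N ≤ S) : IsPGroup p ((autInducedBy N R).map hf.autEquiv.toMonoidHom) :=
  ((isPGroup_autInducedBy hS R).to_le (autInducedBy_mono hN)).map _

theorem map_autEquiv_le_stab [Finite S] {R' : Subgroup Ω} (hf : IsIso F R R' f) (hQR : Q ≤ R)
    {N : Subgroup Ω} (hN : N ≤ normalizerIn S Q) :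
    (autInducedBy N R).map hf.autEquiv.toMonoidHom ≤ F.autGroup R' ⊓ setStab R' (imgSub f Q) := by
  rintro _ ⟨a, ha, rfl⟩
  obtain ⟨x, hx, hxn, rfl⟩ := mem_autInducedBy.1 ha
  exact ⟨hf.autEquiv_mem_autGroup (conjAut_mem_autGroup F hf.source_le ⟨(hN hx).1, hxn⟩),
    hf.autEquiv_mem_setStab hQR hxn (hN hx).2⟩

variable [Finite S] [Fact p.Prime]

theorem good_of_extends (hS : IsPGroup p S) (hP : F.IsFullyNormalized P)
    (hL : SatAbove F p (Nat.card P)) (hf : IsMap F R f) (hQR : Q < R) (hRN : R ≤ normalizerIn S Q)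
    (hQP : IsIso F Q P f) : ∃ ψ, IsGoodMap F P Q ψ := by
  suffices H : ∀ (k : ℕ) (Q R : Subgroup Ω) (f : Ω → Ω), Nat.card S ≤ k + Nat.card R → IsMap F R f →
      Q < R → R ≤ normalizerIn S Q → IsIso F Q P f → ∃ ψ, IsGoodMap F P Q ψ from
    H (Nat.card S) Q R f (Nat.le_add_right _ _) hf hQR hRN hQP
  intro k
  induction k with
  | zero =>
    intro Q R f hk hf hQR hRN hQP
    rw [zero_add] at hk
    have hRS : R = S := Subgroup.eq_of_le_of_card_ge hf.le hk
    exact ⟨f, hf.mono (normalizerIn_le.trans hRS.ge), hQP⟩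
  | succ k ih =>
    intro Q R f hk hf hQR hRN hQP
    by_cases hRe : R = normalizerIn S Q
    · exact ⟨f, hRe ▸ hf, hQP⟩
    have hlt : R < normalizerIn S Q := lt_of_le_of_ne hRN hRe
    have hSN := hS.to_le (normalizerIn_le (S := S) (P := Q))
    haveI := finite_of_le (S := S) (normalizerIn_le (S := S) (P := Q))
    haveI := finite_of_le (S := S) (normalizerIn_le (S := S) (P := P))
    haveI := finite_of_le hf.le
    set R' := imgSub f R with hR'def
    have hiso : IsIso F R R' f := hf.isIso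
    have hPR' : P < R' := by
      rw [hQP.eq_imgSub]
      exact hf.imgSub_lt hQR
    have hR'N : R' ≤ normalizerIn S P := fun y hy => by
      obtain ⟨x, hx, rfl⟩ := hf.mem_imgSub.1 hy
      exact hQP.mem_normalizerIn_of_extends hf hQR.le (fun _ _ => rfl) hx (hRN hx).2
    have hlt' : R' < normalizerIn S P := by
      refine lt_of_le_of_ne hR'N fun he => ?_
      have h1 := card_lt_of_lt hlt
      rw [hiso.card_eq, he] at h1
      exact absurd (hP.2 Q (isConj_symm hQP.isConj)) (not_le.2 h1)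
    set R1 := normalizerIn (normalizerIn S Q) R with hR1
    set R2 := normalizerIn (normalizerIn S P) R' with hR2
    have hR1lt : R < R1 := lt_normalizerIn hSN hlt
    have hR2lt : R' < R2 := lt_normalizerIn (hS.to_le normalizerIn_le) hlt'
    have hR1S : R1 ≤ normalizerIn S R := fun x hx => ⟨hx.1.1, hx.2⟩
    have hR2S : R2 ≤ normalizerIn S R' := fun x hx => ⟨hx.1.1, hx.2⟩
    haveI : Finite R1 := finite_of_le (hR1S.trans normalizerIn_le)
    haveI : Finite R2 := finite_of_le (hR2S.trans normalizerIn_le)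
    obtain ⟨T, hconj, hA, hrec⟩ := hL R' hf.imgSub_le
      (haveI := finite_of_le hf.imgSub_le; card_lt_of_lt hPR')
    obtain ⟨c, hc⟩ := isConj_iff.1 hconj
    have hcf : IsIso F R T (c ∘ f) := hiso.comp hc
    haveI := finite_mulAut_of_le hrec.1
    set P2 := imgSub c P with hP2
    have hP2T : P2 ≤ T := by
      rw [hc.eq_imgSub]
      exact Subgroup.closure_mono (Set.image_mono hPR'.le)
    have hQimg : imgSub (c ∘ f) Q = P2 := by
      rw [hP2, hQP.eq_imgSub, hQP.isMap.imgSub_comp]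
    set Y := F.autGroup T ⊓ setStab T P2 with hY
    have hX1 : (autInducedBy R1 R).map hcf.autEquiv.toMonoidHom ≤ Y := by
      have := map_autEquiv_le_stab hcf hQR.le (N := R1) (fun x hx => hx.1)
      rwa [hQimg] at this
    have hX2 : (autInducedBy R2 R').map hc.autEquiv.toMonoidHom ≤ Y :=
      map_autEquiv_le_stab hc hPR'.le (N := R2) (fun x hx => hx.1)
    obtain ⟨TY, hTY, -⟩ := H48.exists_isSylowIn_ge (p := p) (IsPGroup.of_bot (G := MulAut T)) (bot_le : ⊥ ≤ Y)
    obtain ⟨y1, hy1, hy1T⟩ := hTY.exists_cj_le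
      (isPGroup_map_autEquiv hS hcf (hR1S.trans normalizerIn_le)) hX1
    obtain ⟨y2, hy2, hy2T⟩ := hTY.exists_cj_le
      (isPGroup_map_autEquiv hS hc (hR2S.trans normalizerIn_le)) hX2
    obtain ⟨χ, hχ, hχT⟩ := (isSylowIn_of_fullyAutomized hS hA).exists_cj_le hTY.isPGroup
      (hTY.le.trans inf_le_left)
    have hext : ∀ {N U : Subgroup Ω} {u : Ω → Ω} (hu : IsIso F U T u), N ≤ normalizerIn S U →
        ∀ y ∈ Y, H48.cj y ((autInducedBy N U).map hu.autEquiv.toMonoidHom) ≤ TY →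
        ∃ g, IsMap F (N ⊔ U) g ∧ ∀ z ∈ U, g z = autMap (χ * y) (u z) := by
      intro N U u hu hN y hy hyT
      refine exists_twisted_extension hrec hu hN (mul_mem hχ hy.1) fun a ha => ?_
      have h1 := H48.cj_le.1 hχT _ (H48.cj_le.1 hyT _ ⟨a, ha, rfl⟩)
      simpa [mul_assoc] using h1
    obtain ⟨g1, hg1, hg1e⟩ := hext hcf hR1S y1 hy1 hy1T
    obtain ⟨g2, hg2, hg2e⟩ := hext hc hR2S y2 hy2 hy2T
    set P3 := imgSub (autMap χ) P2 with hP3
    have hχmap := (isIso_autMap hrec.1 hχ).isMap.mono hP2T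
    have himg : ∀ {u : Ω → Ω} {A : Subgroup Ω}, IsIso F A P2 u → ∀ y ∈ Y,
        IsIso F A P3 fun z => autMap (χ * y) (u z) := by
      intro u A hu y hy
      haveI := finite_of_le (S := S) (hP2T.trans hrec.1)
      have hyP : IsIso F P2 P2 (autMap y) :=
        isIso_of_mapsTo ((isIso_autMap hrec.1 hy.1).isMap.mono hP2T) fun z hz => by
          rw [autMap_apply _ (hP2T hz)]
          exact (hy.2 ⟨z, hP2T hz⟩).1 hz
      exact ((hu.comp hyP).comp hχmap.isIso).congr fun z hz => autMap_mul χ y (hP2T (hu.mem hz))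
    have hc2 : IsIso F P P2 c := (hc.isMap.mono hPR'.le).isIso
    have hI1 : IsIso F Q P3 g1 :=
      (himg (hQP.comp hc2) y1 hy1).congr fun z hz => hg1e z (hQR.le hz)
    have hI2 : IsIso F P P3 g2 :=
      (himg hc2 y2 hy2).congr fun z hz => hg2e z (hPR'.le hz)
    have hg1' := hg1.mono (le_sup_left (b := R))
    have hg2' := hg2.mono (le_sup_left (b := R'))
    have hPR2 : P < R2 := hPR'.trans hR2lt
    set W := imgSub g2 R2 with hW
    have hP3W : P3 < W := by
      rw [hI2.eq_imgSub]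
      exact hg2'.imgSub_lt hPR2
    obtain ⟨b, hb, hb1, hb2⟩ := hg2'.isIso.exists_symm
    have hbP : IsIso F P3 P b := by
      refine ⟨hb.isMap.mono hP3W.le, Set.ext fun y => ⟨?_, fun hy => ?_⟩⟩
      · rintro ⟨z, hz, rfl⟩
        obtain ⟨w, hw, rfl⟩ := hI2.exists_preimage hz
        exact (hb1 w (hPR2.le hw)).symm ▸ hw
      · exact ⟨g2 y, hI2.mem hy, hb1 y (hPR2.le hy)⟩
    have hWN : W ≤ normalizerIn S P3 := fun y hy => by
      obtain ⟨x, hx, rfl⟩ := hg2'.mem_imgSub.1 hy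
      exact hI2.mem_normalizerIn_of_extends hg2' hPR2.le (fun _ _ => rfl) hx hx.1.2
    have hcardW : Nat.card R < Nat.card W := by
      rw [hiso.card_eq, ← hg2'.isIso.card_eq]
      exact card_lt_of_lt hR2lt
    obtain ⟨ψ, hψ⟩ := ih P3 W b (by omega) hb.isMap hP3W hWN hbP
    refine ih Q R1 (ψ ∘ g1) (by have := card_lt_of_lt hR1lt; omega) (hg1'.comp hψ.1 fun x hx => ?_)
      (hQR.trans hR1lt) (fun x hx => hx.1) (hI1.comp hψ.2)
    exact hI1.mem_normalizerIn_of_extends hg1' (hQR.trans hR1lt).le (fun _ _ => rfl) hx hx.1.2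

/-- Properties of maps between members of a class that propagate from maps defined on larger subgroups. -/
theorem class_induction (P : Subgroup Ω)
    (hgen : ∀ E : FusionSystem S,
      (∀ R f, IsMap F R f → ¬ F.IsConj R P → IsMap E R f) → F ≤ E)
    (hlt : ∀ Q, F.IsConj Q P → Q < S) (Φ : Subgroup Ω → (Ω → Ω) → Prop)
    (hcongr : ∀ Q f g, Φ Q f → (∀ x ∈ Q, g x = f x) → Φ Q g)
    (hstep : ∀ Q R f, F.IsConj Q P → IsMap F R f → Q < R → Φ Q f)
    (hcomp : ∀ Q f g, F.IsConj Q P → IsMap F Q f → IsMap F (imgSub f Q) g →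
      Φ Q f → Φ (imgSub f Q) g → Φ Q (g ∘ f))
    (hinv : ∀ Q f g, F.IsConj Q P → IsMap F Q f → IsIso F (imgSub f Q) Q g →
      (∀ x ∈ Q, g (f x) = x) → Φ Q f → Φ (imgSub f Q) g)
    (hf : IsMap F Q f) (hQ : F.IsConj Q P) : Φ Q f := by
  let E := subSys F (fun Q f => F.IsConj Q P → Φ Q f)
    (fun Q f g h he hc => hcongr Q f g (h hc) he)
    (fun Q a _ ha hc => hstep Q S _ hc (isMap_conj F le_rfl ha) (hlt Q hc))
    (fun A B u v hu hv hm hA hB hc => by
      have hc' : F.IsConj (imgSub u A) P := isConj_trans (isConj_symm hu.isIso.isConj) hc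
      have hle : imgSub u A ≤ B := (Subgroup.closure_le _).2 fun y ⟨x, hx, he⟩ => he ▸ hm x hx
      refine hcomp A u v hc hu (hv.mono hle) (hA hc) ?_
      rcases hle.eq_or_lt with he | hl
      · rw [he]
        exact hB (he ▸ hc')
      · exact hstep _ B v hc' hv hl)
    (fun A B u v hu hv hinv' hA hc => by
      obtain rfl := hu.eq_imgSub
      have hc' : F.IsConj A P := isConj_trans hu.isConj hc
      exact hinv A u v hc' hu.isMap hv hinv' (hA hc'))
  have hle : F ≤ E := hgen E fun R u hu hR => by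
    obtain ⟨φ, hφ, hφe⟩ := hu
    exact ⟨φ, ⟨hφ, fun h => absurd h hR⟩, hφe⟩
  obtain ⟨φ, hφ, hφe⟩ := le_iff_isMap.1 hle Q f hf
  exact hcongr Q _ _ (hφ.2 hQ) fun x hx => ((hφe ⟨x, hx⟩).symm.trans (homFun_mem φ hx).symm)

theorem exists_goodMap (hS : IsPGroup p S) (hP : F.IsFullyNormalized P)
    (hL : SatAbove F p (Nat.card P))
    (hgen : ∀ E : FusionSystem S,
      (∀ R f, IsMap F R f → ¬ F.IsConj R P → IsMap E R f) → F ≤ E)
    (hlt : ∀ Q, F.IsConj Q P → Q < S) (hQ : F.IsConj Q P) : ∃ ψ, IsGoodMap F P Q ψ := by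
  have step : ∀ {A B : Subgroup Ω} {u : Ω → Ω}, F.IsConj A P → IsMap F B u → A < B →
      (∃ ψ, IsGoodMap F P (imgSub u A) ψ) → ∃ ψ, IsGoodMap F P A ψ := by
    intro A B u _ hu hAB ⟨ψ, hψ⟩
    haveI := finite_of_le hu.le
    have hB0 : A < normalizerIn B A := lt_normalizerIn (hS.to_le hu.le) hAB
    have hu0 := hu.mono (normalizerIn_le (S := B) (P := A))
    refine good_of_extends hS hP hL (hu0.comp hψ.1 fun x hx => ?_) hB0
      (fun x hx => ⟨hu.le hx.1, hx.2⟩) ((hu.mono hAB.le).isIso.comp hψ.2)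
    exact hu.mem_normalizerIn hAB.le hx.1 hx.2
  obtain ⟨f, hf⟩ := isConj_iff.1 hQ
  have h := class_induction P hgen hlt
    (fun A u => (∃ ψ, IsGoodMap F P A ψ) ↔ ∃ ψ, IsGoodMap F P (imgSub u A) ψ)
    (fun A u v h he => by rwa [imgSub_congr he])
    (fun A B u hA hu hAB => ⟨fun hG => ?_, step hA hu hAB⟩)
    (fun A u v _ hu _ h1 h2 => by rw [hu.imgSub_comp]; exact h1.trans h2)
    (fun A u v _ hu hv _ h1 => by rw [← hv.eq_imgSub]; exact h1.symm)
    hf.isMap hQ
  · refine h.2 ⟨id, isMap_id F normalizerIn_le, ?_⟩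
    rw [← hf.eq_imgSub]
    exact isIso_id F hP.1
  · have hi := hu.isIso
    obtain ⟨v, hv, hv1, -⟩ := hi.exists_symm
    refine step (isConj_trans (isConj_symm (hu.mono hAB.le).isIso.isConj) hA) hv.isMap
      (hu.imgSub_lt hAB) ?_
    rwa [← (hu.mono hAB.le).imgSub_comp, imgSub_congr (f := id) (g := v ∘ u) fun x hx => hv1 x (hAB.le hx),
      ← (isIso_id F (le_of_isConj_left hA)).eq_imgSub]

/-! ### Automorphisms extend to `kSub` -/

omit [Finite S] [Fact p.Prime] in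
theorem card_opAut : Nat.card (opAut F p P) = Nat.card (pCore p (F.autGroup P)) :=
  Subgroup.card_map_of_injective (F.autGroup P).subtype_injective

theorem isPGroup_opAut : IsPGroup p (opAut F p P) := Cores.pCore_isPGroup.map _

/-- `O_p(Aut_F(-))` is transported by isomorphisms of the system. -/
theorem IsIso.autEquiv_mem_opAut {R' : Subgroup Ω} (hf : IsIso F R R' f) {a : MulAut R}
    (ha : a ∈ opAut F p R) : hf.autEquiv a ∈ opAut F p R' := by
  set N := (opAut F p R).map hf.autEquiv.toMonoidHom with hN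
  have hle : N ≤ F.autGroup R' := by
    rw [hN, ← hf.map_autGroup]
    exact Subgroup.map_mono opAut_le
  haveI : (N.subgroupOf (F.autGroup R')).Normal := ⟨fun n hn b => by
    obtain ⟨m, hm, hme⟩ := hn
    have hb : ((b : F.autGroup R') : MulAut R') ∈ (F.autGroup R).map hf.autEquiv.toMonoidHom :=
      hf.map_autGroup.symm ▸ b.2
    obtain ⟨b₀, hb₀, hbe⟩ := hb
    refine ⟨b₀ * m * b₀⁻¹, conj_mem_opAut hb₀ hm, ?_⟩
    rw [map_mul, map_mul, map_inv, hme, hbe]
    rfl⟩
  exact ⟨⟨hf.autEquiv a, hle ⟨a, ha, rfl⟩⟩, Cores.le_pCore (N := N.subgroupOf (F.autGroup R'))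
    ((isPGroup_opAut.map _).comap_of_injective _ (F.autGroup R').subtype_injective) ⟨a, ha, rfl⟩, rfl⟩

/-- `h` agrees on `P` with a map defined on `kSub F p P`. -/
def KExt (F : FusionSystem S) (p : ℕ) (P : Subgroup Ω) (h : Ω → Ω) : Prop :=
  ∃ g, IsMap F (kSub F p P) g ∧ ∀ x ∈ P, g x = h x

theorem IsIso.mem_kSub_of_extends {R' : Subgroup Ω} (hi : IsIso F P R' f) {R : Subgroup Ω}
    (hg : IsMap F R g) (hPR : P ≤ R) (he : ∀ y ∈ P, g y = f y) {x : Ω} (hxR : x ∈ R)
    (hx : x ∈ kSub F p P) : g x ∈ kSub F p R' := by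
  obtain ⟨hxN, hxO⟩ := mem_kSub.1 hx
  have hgx := hi.mem_normalizerIn_of_extends hg hPR he hxR hxN.2
  refine mem_kSub.2 ⟨hgx, ?_⟩
  rw [← hi.autEquiv_conjAut hg hPR he hxR hxN.2 hgx.2]
  exact hi.autEquiv_mem_opAut hxO

theorem finite_kSub : Finite (kSub F p P) :=
  finite_of_le (S := S) (kSub_le_normalizerIn.trans normalizerIn_le)

/-- An extension to `kSub F p P` of an automorphism of `P` carries it onto itself. -/
theorem isIso_kExt (hS : IsPGroup p S) (hP : P ≤ S) (hh : IsIso F P P f)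
    (hg : IsMap F (kSub F p P) g) (he : ∀ x ∈ P, g x = f x) :
    IsIso F (kSub F p P) (kSub F p P) g :=
  haveI := finite_kSub (F := F) (P := P) (p := p)
  isIso_of_mapsTo hg fun _ hx => hh.mem_kSub_of_extends hg (le_kSub hS hP) he hx hx

theorem kExt_comp (hS : IsPGroup p S) (hP : P ≤ S) {h₁ h₂ : Ω → Ω} (hi₁ : IsIso F P P h₁)
    (k₁ : KExt F p P h₁) (k₂ : KExt F p P h₂) : KExt F p P (h₂ ∘ h₁) := by
  obtain ⟨g₁, hg₁, e₁⟩ := k₁
  obtain ⟨g₂, hg₂, e₂⟩ := k₂
  refine ⟨g₂ ∘ g₁, ((isIso_kExt hS hP hi₁ hg₁ e₁).isMap.comp hg₂ fun x hx =>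
    (isIso_kExt hS hP hi₁ hg₁ e₁).mem hx), fun x hx => ?_⟩
  show g₂ (g₁ x) = h₂ (h₁ x)
  rw [e₁ x hx, e₂ _ (hi₁.mem hx)]

theorem kExt_inv (hS : IsPGroup p S) (hP : P ≤ S) {h h' : Ω → Ω} (hi : IsIso F P P h)
    (hinv : ∀ x ∈ P, h' (h x) = x) (k : KExt F p P h) : KExt F p P h' := by
  obtain ⟨g, hg, e⟩ := k
  obtain ⟨g', hg', hl, -⟩ := (isIso_kExt hS hP hi hg e).exists_symm
  refine ⟨g', hg'.isMap, fun x hx => ?_⟩
  obtain ⟨z, hz, rfl⟩ := hi.exists_preimage hx
  rw [hinv z hz, ← e z hz, hl z (le_kSub hS hP hz)]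

theorem kExt_of_extends (hS : IsPGroup p S) (hP : P ≤ S) (hL : SatAbove F p (Nat.card P))
    (hgood : ∀ Q, F.IsConj Q P → ∃ ψ, IsGoodMap F P Q ψ) (hf : IsMap F R f) (hPR : P < R)
    (hRN : R ≤ normalizerIn S P) (hPP : IsIso F P P f) : KExt F p P f := by
  suffices H : ∀ (k : ℕ) (R : Subgroup Ω) (f : Ω → Ω), Nat.card S ≤ k + Nat.card R → IsMap F R f →
      P < R → R ≤ normalizerIn S P → IsIso F P P f → KExt F p P f from
    H (Nat.card S) R f (Nat.le_add_right _ _) hf hPR hRN hPP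
  intro k
  induction k with
  | zero =>
    intro R f hk hf hPR hRN hPP
    rw [zero_add] at hk
    have hRS : R = S := Subgroup.eq_of_le_of_card_ge hf.le hk
    exact ⟨f, hf.mono ((kSub_le_normalizerIn.trans normalizerIn_le).trans hRS.ge), fun _ _ => rfl⟩
  | succ k ih =>
    intro R f hk hf hPR hRN hPP
    set K := kSub F p P with hKdef
    haveI : Finite K := finite_kSub
    by_cases hKR : K ≤ R
    · exact ⟨f, hf.mono hKR, fun _ _ => rfl⟩
    haveI := finite_of_le hf.le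
    haveI := finite_mulAut_of_le hP
    set R' := imgSub f R with hR'def
    have hiso : IsIso F R R' f := hf.isIso
    have hPR' : P < R' := by
      conv_lhs => rw [hPP.eq_imgSub]
      exact hf.imgSub_lt hPR
    have hR'N : R' ≤ normalizerIn S P := fun y hy => by
      obtain ⟨x, hx, rfl⟩ := hf.mem_imgSub.1 hy
      exact hPP.mem_normalizerIn_of_extends hf hPR.le (fun _ _ => rfl) hx (hRN hx).2
    have hKR' : ¬ K ≤ R' := by
      intro h
      obtain ⟨b, hb, hb1, -⟩ := hiso.exists_symm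
      obtain ⟨b', hb', hb'1, -⟩ := hPP.exists_symm
      have hbP : ∀ y ∈ P, b y = b' y := fun y hy => by
        obtain ⟨z, hz, rfl⟩ := hPP.exists_preimage hy
        rw [hb1 z (hPR.le hz), hb'1 z hz]
      have hbK := isIso_kExt hS hP hb' (hb.isMap.mono h) hbP
      refine hKR fun y hy => ?_
      obtain ⟨x, hx, rfl⟩ := hbK.exists_preimage hy
      exact hb.mem (h hx)
    have hNK : normalizerIn S P ≤ Subgroup.normalizer (K : Set Ω) := normalizerIn_le_normalizer_kSub hP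
    have hsupN : ∀ {U : Subgroup Ω}, U ≤ normalizerIn S P → U ⊔ K ≤ normalizerIn S P := fun h =>
      sup_le h kSub_le_normalizerIn
    set R1 := normalizerIn (R ⊔ K) R with hR1
    set R2 := normalizerIn (R' ⊔ K) R' with hR2
    haveI : Finite ↥(R ⊔ K) := finite_of_le ((hsupN hRN).trans normalizerIn_le)
    haveI : Finite ↥(R' ⊔ K) := finite_of_le ((hsupN hR'N).trans normalizerIn_le)
    have hR1lt : R < R1 := lt_normalizerIn (hS.to_le ((hsupN hRN).trans normalizerIn_le))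
      (left_lt_sup.2 hKR)
    have hR2lt : R' < R2 := lt_normalizerIn (hS.to_le ((hsupN hR'N).trans normalizerIn_le))
      (left_lt_sup.2 hKR')
    have hR1P : R1 ≤ normalizerIn S P := fun x hx => hsupN hRN hx.1
    have hR2P : R2 ≤ normalizerIn S P := fun x hx => hsupN hR'N hx.1
    have hR1S : R1 ≤ normalizerIn S R := fun x hx => ⟨(hR1P hx).1, hx.2⟩
    have hR2S : R2 ≤ normalizerIn S R' := fun x hx => ⟨(hR2P hx).1, hx.2⟩
    haveI : Finite R1 := finite_of_le (hR1P.trans normalizerIn_le)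
    haveI : Finite R2 := finite_of_le (hR2P.trans normalizerIn_le)
    obtain ⟨T, hconj, hA, hrec⟩ := hL R' hf.imgSub_le
      (haveI := finite_of_le hf.imgSub_le; card_lt_of_lt hPR')
    obtain ⟨c, hc⟩ := isConj_iff.1 hconj
    have hcf : IsIso F R T (c ∘ f) := hiso.comp hc
    haveI := finite_mulAut_of_le hrec.1
    set P2 := imgSub c P with hP2
    have hP2T : P2 ≤ T := by
      rw [hc.eq_imgSub]
      exact Subgroup.closure_mono (Set.image_mono hPR'.le)
    have hc2 : IsIso F P P2 c := (hc.isMap.mono hPR'.le).isIso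
    have hQimg : imgSub (c ∘ f) P = P2 := by
      rw [hP2, hPP.isMap.imgSub_comp, ← hPP.eq_imgSub]
    -- the `p`-group through which both sides act
    set W0 := autInducedBy R' P ⊔ opAut F p P with hW0
    have hW0p : IsPGroup p W0 := IsPGroup.to_sup_of_normal_right'
      ((isPGroup_autInducedBy hS P).to_le (autInducedBy_mono (hR'N.trans normalizerIn_le)))
      isPGroup_opAut ((autInducedBy_mono (hR'N.trans normalizerIn_le)).trans
        ((autInducedBy_le_autGroup F hP).trans autGroup_le_normalizer_opAut))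
    obtain ⟨α, hαA, hαf⟩ := hPP.exists_aut
    have hpre : ∀ x, ∀ hx : x ∈ normalizerIn S P, x ∈ R ⊔ K → α * conjAut hx.2 * α⁻¹ ∈ W0 := by
      have hle : R ⊔ K ≤ ((W0.comap (MulAut.conj α).toMonoidHom).comap (conjAutIn S P)).map
          (normalizerIn S P).subtype := by
        refine sup_le (fun x hx => ⟨⟨x, hRN hx⟩, ?_, rfl⟩) fun x hx => ?_
        · refine Subgroup.mem_sup_left (mem_autInducedBy.2 ⟨f x, hiso.mem hx,
            (hPP.mem_normalizerIn_of_extends hf hPR.le (fun _ _ => rfl) hx (hRN hx).2).2, ?_⟩)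
          show α * conjAut (hRN hx).2 * α⁻¹ = _
          rw [mul_inv_eq_iff_eq_mul]
          refine aut_ext fun y hy => ?_
          rw [autMap_mul _ _ hy, autMap_mul _ _ hy, autMap_conjAut _ hy,
            conjMap_apply, hαf _ (conj_mem_of_mem_normalizerIn (hRN hx) hy), hαf y hy,
            autMap_conjAut _ (hPP.mem hy)]
          exact hf.map_conj hx (hPR.le hy)
        · obtain ⟨hxN, hxO⟩ := mem_kSub.1 hx
          exact ⟨⟨x, hxN⟩, Subgroup.mem_sup_right (conj_mem_opAut hαA hxO), rfl⟩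
      intro x hx hxs
      obtain ⟨z, hz, rfl⟩ := hle hxs
      exact hz
    have hpre2 : ∀ x, ∀ hx : x ∈ normalizerIn S P, x ∈ R' ⊔ K → conjAut hx.2 ∈ W0 := by
      have hle : R' ⊔ K ≤ (W0.comap (conjAutIn S P)).map (normalizerIn S P).subtype := by
        refine sup_le (fun x hx => ⟨⟨x, hR'N hx⟩, ?_, rfl⟩) fun x hx => ?_
        · exact Subgroup.mem_sup_left (mem_autInducedBy.2 ⟨x, hx, (hR'N hx).2, rfl⟩)
        · obtain ⟨hxN, hxO⟩ := mem_kSub.1 hx
          exact ⟨⟨x, hxN⟩, Subgroup.mem_sup_right hxO, rfl⟩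
      intro x hx hxs
      obtain ⟨z, hz, rfl⟩ := hle hxs
      exact hz
    set W := W0.map hc2.autEquiv.toMonoidHom with hW
    set Y := F.autGroup T ⊓ ((W.comap (stabRes hP2T)).map (setStab T P2).subtype) with hY
    have hYst : Y ≤ setStab T P2 := inf_le_right.trans (Subgroup.map_subtype_le _)
    let r : Y →* MulAut P2 := (stabRes hP2T).comp (Subgroup.inclusion hYst)
    have hr : IsPGroup p r.range := (hW0p.map hc2.autEquiv.toMonoidHom).to_le (by
      rintro _ ⟨a, rfl⟩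
      obtain ⟨b, hb, hbe⟩ := a.2.2
      show stabRes hP2T (Subgroup.inclusion hYst a) ∈ W
      rw [show Subgroup.inclusion hYst a = b from Subtype.ext hbe.symm]
      exact hb)
    have hX1 : (autInducedBy R1 R).map hcf.autEquiv.toMonoidHom ≤ Y := by
      rintro _ ⟨a, ha, rfl⟩
      have hst := map_autEquiv_le_stab hcf hPR.le (N := R1) hR1P ⟨a, ha, rfl⟩
      rw [hQimg] at hst
      refine ⟨hst.1, ⟨_, hst.2⟩, ?_, rfl⟩
      obtain ⟨x, hx, hxn, rfl⟩ := mem_autInducedBy.1 ha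
      refine ⟨_, hpre x (hR1P hx) hx.1, aut_ext fun z hz => ?_⟩
      obtain ⟨w, hw, rfl⟩ := hc2.exists_preimage hz
      obtain ⟨y, hy, rfl⟩ := hPP.exists_preimage hw
      rw [autMap_stabRes hP2T _ hz]
      refine ((hc2.autMap_autEquiv _ hw).trans ?_).trans
        (hcf.autMap_autEquiv (conjAut hxn) (hPR.le hy)).symm
      rw [autMap_conjAut hxn (hPR.le hy)]
      show c _ = c (f _)
      congr 1
      have hy' : f y = autMap α y := (hαf y hy).symm
      rw [hy', ← autMap_mul _ _ hy, inv_mul_cancel_right, autMap_mul _ _ hy, autMap_conjAut _ hy,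
        conjMap_apply, hαf _ (conj_mem_of_mem_normalizerIn (hR1P hx) hy)]
    have hX2 : (autInducedBy R2 R').map hc.autEquiv.toMonoidHom ≤ Y := by
      rintro _ ⟨a, ha, rfl⟩
      have hst := map_autEquiv_le_stab hc hPR'.le (N := R2) hR2P ⟨a, ha, rfl⟩
      refine ⟨hst.1, ⟨_, hst.2⟩, ?_, rfl⟩
      obtain ⟨x, hx, hxn, rfl⟩ := mem_autInducedBy.1 ha
      refine ⟨_, hpre2 x (hR2P hx) hx.1, aut_ext fun z hz => ?_⟩
      obtain ⟨y, hy, rfl⟩ := hc2.exists_preimage hz
      rw [autMap_stabRes hP2T _ hz]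
      refine ((hc2.autMap_autEquiv _ hy).trans ?_).trans
        (hc.autMap_autEquiv (conjAut hxn) (hPR'.le hy)).symm
      rw [autMap_conjAut _ hy, autMap_conjAut hxn (hPR'.le hy)]
    obtain ⟨TY, hTY, -⟩ :=
      H48.exists_isSylowIn_ge (p := p) (IsPGroup.of_bot (G := MulAut T)) (bot_le : ⊥ ≤ Y)
    obtain ⟨y1, hy1, hy1r, hy1T⟩ := exists_ker_conj_le r hr hTY
      (isPGroup_map_autEquiv hS hcf (hR1S.trans normalizerIn_le)) hX1
    obtain ⟨y2, hy2, hy2r, hy2T⟩ := exists_ker_conj_le r hr hTY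
      (isPGroup_map_autEquiv hS hc (hR2S.trans normalizerIn_le)) hX2
    have hfix : ∀ y, ∀ hy : y ∈ Y, r ⟨y, hy⟩ = 1 → ∀ z ∈ P2, autMap y z = z := fun y hy h z hz => by
      have h1 := autMap_stabRes hP2T (Subgroup.inclusion hYst ⟨y, hy⟩) hz
      rw [show stabRes hP2T (Subgroup.inclusion hYst ⟨y, hy⟩) = 1 from h] at h1
      rw [← show autMap ((Subgroup.inclusion hYst ⟨y, hy⟩ : setStab T P2) : MulAut T) z = autMap y z
        from rfl, ← h1, autMap_apply _ hz]
      rfl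
    obtain ⟨χ, hχ, hχT⟩ := (isSylowIn_of_fullyAutomized hS hA).exists_cj_le hTY.isPGroup
      (hTY.le.trans inf_le_left)
    have hext : ∀ {N U : Subgroup Ω} {u : Ω → Ω} (hu : IsIso F U T u), N ≤ normalizerIn S U →
        ∀ y ∈ Y, (∀ a ∈ (autInducedBy N U).map hu.autEquiv.toMonoidHom, y * a * y⁻¹ ∈ TY) →
        ∃ g, IsMap F (N ⊔ U) g ∧ ∀ z ∈ U, g z = autMap (χ * y) (u z) := by
      intro N U u hu hN y hy hyT
      refine exists_twisted_extension hrec hu hN (mul_mem hχ hy.1) fun a ha => ?_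
      have h1 := H48.cj_le.1 hχT _ (hyT _ ⟨a, ha, rfl⟩)
      simpa [mul_assoc] using h1
    obtain ⟨g1, hg1, hg1e⟩ := hext hcf hR1S y1 hy1 hy1T
    obtain ⟨g2, hg2, hg2e⟩ := hext hc hR2S y2 hy2 hy2T
    set P3 := imgSub (autMap χ) P2 with hP3
    have hχ2 : IsIso F P2 P3 (autMap χ) := ((isIso_autMap hrec.1 hχ).isMap.mono hP2T).isIso
    have e1 : ∀ z ∈ P, g1 z = autMap χ (c (f z)) := fun z hz => by
      have hm : c (f z) ∈ P2 := hc2.mem (hPP.mem hz)
      rw [hg1e z (hPR.le hz), Function.comp_apply, autMap_mul _ _ (hP2T hm), hfix y1 hy1 hy1r _ hm]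
    have e2 : ∀ z ∈ P, g2 z = autMap χ (c z) := fun z hz => by
      have hm : c z ∈ P2 := hc2.mem hz
      rw [hg2e z (hPR'.le hz), autMap_mul _ _ (hP2T hm), hfix y2 hy2 hy2r _ hm]
    have hI1 : IsIso F P P3 g1 := ((hPP.comp hc2).comp hχ2).congr e1
    have hI2 : IsIso F P P3 g2 := (hc2.comp hχ2).congr e2
    obtain ⟨ψ, hψ⟩ := hgood P3 (isConj_symm hI2.isConj)
    have hmap : ∀ {N U : Subgroup Ω} {u : Ω → Ω}, IsMap F (N ⊔ U) u → P ≤ N → N ≤ normalizerIn S P →
        IsIso F P P3 u → IsMap F N (ψ ∘ u) := fun hu hPN hN hI =>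
      (hu.mono le_sup_left).comp hψ.1 fun x hx =>
        hI.mem_normalizerIn_of_extends (hu.mono le_sup_left) hPN (fun _ _ => rfl) hx (hN hx).2
    have hk1 := ih R1 (ψ ∘ g1) (by have := card_lt_of_lt hR1lt; omega)
      (hmap hg1 (hPR.trans hR1lt).le hR1P hI1) (hPR.trans hR1lt) hR1P (hI1.comp hψ.2)
    have hk2 := ih R2 (ψ ∘ g2)
      (by have h1 := card_lt_of_lt hR2lt; have h2 := hiso.card_eq; omega)
      (hmap hg2 (hPR'.trans hR2lt).le hR2P hI2) (hPR'.trans hR2lt) hR2P (hI2.comp hψ.2)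
    obtain ⟨w, hw, hw1, -⟩ := (hI2.comp hψ.2).exists_symm
    obtain ⟨g, hg, hge⟩ := kExt_comp hS hP (hI1.comp hψ.2) hk1
      (kExt_inv hS hP (hI2.comp hψ.2) hw1 hk2)
    refine ⟨g, hg, fun x hx => ?_⟩
    rw [hge x hx]
    show w (ψ (g1 x)) = f x
    rw [e1 x hx, ← e2 (f x) (hPP.mem hx)]
    exact hw1 _ (hPP.mem hx)

omit [Fact p.Prime] in
theorem card_range_restrict_eq {K P : Subgroup Ω} (hPK : P ≤ K) (hN : normalizerIn S P ≤ normalizerIn S K)
    {K' P' : Subgroup Ω} (hP'K : P' ≤ K') (hK : K = K')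
    (hle : Nat.card (normalizerIn (normalizerIn S K') P' : Subgroup Ω) ≤ Nat.card (normalizerIn S P)) :
    Nat.card (((normalizerIn (normalizerIn S K') P').subgroupOf (normalizerIn S K')).map (conjAutIn S K')) ≤
      Nat.card (((normalizerIn S P).subgroupOf (normalizerIn S K)).map (conjAutIn S K)) := by
  subst hK
  haveI := finite_of_le (S := S) (normalizerIn_le (S := S) (P := K))
  have hker : ∀ {V : Subgroup Ω}, centralizerIn S K ≤ V → V ≤ normalizerIn S K →
      Nat.card ((V.subgroupOf (normalizerIn S K)).map (conjAutIn S K)) *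
        Nat.card (conjAutIn S K).ker = Nat.card V := by
    intro V hC hV
    have hkerle : (conjAutIn S K).ker ≤ V.subgroupOf (normalizerIn S K) := by
      rw [ker_conjAutIn]
      exact fun x hx => hC hx
    set V' := V.subgroupOf (normalizerIn S K) with hV'
    rw [← Nat.card_congr (Subgroup.subgroupOfEquivOfLe hV).toEquiv, ← hV',
      Subgroup.card_eq_card_quotient_mul_card_subgroup ((conjAutIn S K).domRestrict V').ker,
      Nat.card_congr (QuotientGroup.quotientKerEquivRange ((conjAutIn S K).domRestrict V')).toEquiv,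
      MonoidHom.domRestrict_range, MonoidHom.ker_domRestrict,
      Nat.card_congr (Subgroup.subgroupOfEquivOfLe hkerle).toEquiv]
  have h1 : centralizerIn S K ≤ normalizerIn S P := fun x hx =>
    centralizerIn_le_normalizerIn (mem_centralizerIn.2
      ⟨hx.1, fun y hy => (mem_centralizerIn.1 hx).2 y (hPK hy)⟩)
  have h2 : centralizerIn S K ≤ normalizerIn (normalizerIn S K) P' := fun x hx =>
    ⟨centralizerIn_le_normalizerIn hx, (centralizerIn_le_normalizerIn (mem_centralizerIn.2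
      ⟨hx.1, fun y hy => (mem_centralizerIn.1 hx).2 y (hP'K hy)⟩)).2⟩
  rw [← hker h1 hN, ← hker h2 (fun x hx => hx.1)] at hle
  exact Nat.le_of_mul_le_mul_right hle Nat.card_pos

theorem exists_automized_receptive (hS : IsPGroup p S) (hP : P ≤ S) (hL : SatAbove F p (Nat.card P))
    (hgen : ∀ E : FusionSystem S,
      (∀ R f, IsMap F R f → ¬ F.IsConj R P → IsMap E R f) → F ≤ E)
    (hlt : ∀ Q, F.IsConj Q P → Q < S)
    (hK : ∀ P', F.IsConj P P' → F.IsFullyNormalized P' →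
      (∀ Q, F.IsConj Q P' → ∃ ψ, IsGoodMap F P' Q ψ) → P' < kSub F p P') :
    ∃ P', F.IsConj P P' ∧ F.IsFullyAutomized p P' ∧ F.IsReceptive P' := by
  obtain ⟨P0, hconj0, hP0⟩ := exists_isFullyNormalized F hP
  have hcard : Nat.card P0 = Nat.card P := (card_eq_of_isConj hconj0).symm
  have hgen0 : ∀ E : FusionSystem S,
      (∀ R f, IsMap F R f → ¬ F.IsConj R P0 → IsMap E R f) → F ≤ E := fun E h =>
    hgen E fun R f hf hR => h R f hf fun hc => hR (isConj_trans hc (isConj_symm hconj0))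
  have hlt0 : ∀ Q, F.IsConj Q P0 → Q < S := fun Q hQ =>
    hlt Q (isConj_trans hQ (isConj_symm hconj0))
  have hL0 : SatAbove F p (Nat.card P0) := hcard ▸ hL
  have hgood : ∀ Q, F.IsConj Q P0 → ∃ ψ, IsGoodMap F P0 Q ψ := fun Q hQ =>
    exists_goodMap hS hP0 hL0 hgen0 hlt0 hQ
  have hPK : P0 < kSub F p P0 := hK P0 hconj0 hP0 hgood
  have hP0S := hP0.1
  -- every automorphism extends to `kSub`
  have hext : ∀ f, IsIso F P0 P0 f → KExt F p P0 f := by
    intro f hf
    refine class_induction P0 hgen0 hlt0 (fun Q u => ∀ ψ ψ' h, IsGoodMap F P0 Q ψ →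
        IsGoodMap F P0 (imgSub u Q) ψ' → (∀ x ∈ Q, h (ψ x) = ψ' (u x)) → KExt F p P0 h)
      (fun Q u v H he ψ ψ' h h1 h2 h3 => H ψ ψ' h h1 (imgSub_congr he ▸ h2) fun x hx =>
        he x hx ▸ h3 x hx) ?_ ?_ ?_ hf.isMap (isConj_refl F hP0S) id id f
      ⟨isMap_id F normalizerIn_le, isIso_id F hP0S⟩
      (hf.eq_imgSub ▸ ⟨isMap_id F normalizerIn_le, isIso_id F hP0S⟩) fun _ _ => rfl
    · intro Q R u hQ hu hQR ψ ψ' h hψ hψ' he
      haveI := finite_of_le hu.le
      set R0 := normalizerIn R Q with hR0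
      have hlt' : Q < R0 := lt_normalizerIn (hS.to_le hu.le) hQR
      have hR0N : R0 ≤ normalizerIn S Q := fun x hx => ⟨hu.le hx.1, hx.2⟩
      have hψ0 := hψ.1.mono hR0N
      obtain ⟨b, hb, hb1, -⟩ := hψ0.isIso.exists_symm
      have hu0 := hu.mono (fun x (hx : x ∈ R0) => hx.1)
      have hcomp : IsMap F (imgSub ψ R0) (ψ' ∘ (u ∘ b)) :=
        (hb.isMap.comp hu0 fun x hx => hb.mem hx).comp hψ'.1 fun x hx =>
          hu.mem_normalizerIn hQR.le (hb.mem hx).1 (hb.mem hx).2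
      have hP0lt : P0 < imgSub ψ R0 := by
        conv_lhs => rw [hψ.2.eq_imgSub]
        exact hψ0.imgSub_lt hlt'
      have hagree : ∀ x ∈ P0, (ψ' ∘ (u ∘ b)) x = h x := fun x hx => by
        obtain ⟨z, hz, rfl⟩ := hψ.2.exists_preimage hx
        show ψ' (u (b (ψ z))) = h (ψ z)
        rw [hb1 z (hlt'.le hz), he z hz]
      haveI := finite_of_le hP0S
      obtain ⟨g, hg, hge⟩ := kExt_of_extends hS hP0S hL0 hgood hcomp hP0lt
        (fun y hy => by
          obtain ⟨x, hx, rfl⟩ := hψ0.mem_imgSub.1 hy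
          exact hψ.mem (hR0N hx))
        (isIso_of_mapsTo (hcomp.mono hP0lt.le) fun x hx => by
            obtain ⟨z, hz, rfl⟩ := hψ.2.exists_preimage hx
            show ψ' (u (b (ψ z))) ∈ P0
            rw [hb1 z (hlt'.le hz)]
            exact hψ'.2.mem ((hu.mono hQR.le).mem_imgSub.2 ⟨z, hz, rfl⟩))
      exact ⟨g, hg, fun x hx => (hge x hx).trans (hagree x hx)⟩
    · intro Q u v hQ hu hv H1 H2 ψ ψ' h hψ hψ' he
      obtain ⟨χ, hχ⟩ := hgood (imgSub u Q) (isConj_trans (isConj_symm hu.isIso.isConj) hQ)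
      obtain ⟨a, ha, ha1, -⟩ := hψ.2.exists_symm
      obtain ⟨b, hb, hb1, -⟩ := hχ.2.exists_symm
      rw [hu.imgSub_comp] at hψ'
      have k1 := H1 ψ χ (χ ∘ (u ∘ a)) hψ hχ fun x hx => by
        show χ (u (a (ψ x))) = χ (u x)
        rw [ha1 x hx]
      have k2 := H2 χ ψ' (ψ' ∘ (v ∘ b)) hχ hψ' fun x hx => by
        show ψ' (v (b (χ x))) = ψ' (v x)
        rw [hb1 x hx]
      obtain ⟨g, hg, hge⟩ := kExt_comp hS hP0S ((ha.comp hu.isIso).comp hχ.2) k1 k2
      refine ⟨g, hg, fun x hx => ?_⟩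
      rw [hge x hx]
      obtain ⟨z, hz, rfl⟩ := hψ.2.exists_preimage hx
      show ψ' (v (b (χ (u (a (ψ z)))))) = h (ψ z)
      rw [ha1 z hz, hb1 _ (hu.mem_imgSub.2 ⟨z, hz, rfl⟩), he z hz]
      rfl
    · intro Q u v hQ hu hv hinv H ψ ψ' h hψ hψ' he
      rw [← hv.eq_imgSub] at hψ'
      obtain ⟨a, ha, ha1, -⟩ := hψ'.2.exists_symm
      have k1 := H ψ' ψ (ψ ∘ (u ∘ a)) hψ' hψ fun x hx => by
        show ψ (u (a (ψ' x))) = ψ (u x)
        rw [ha1 x hx]
      obtain ⟨g, hg, hge⟩ := kExt_inv hS hP0S (h' := h) ((ha.comp hu.isIso).comp hψ.2) (fun x hx => by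
        obtain ⟨z, hz, rfl⟩ := hψ'.2.exists_preimage hx
        show h (ψ (u (a (ψ' z)))) = ψ' z
        rw [ha1 z hz, he _ (hu.mem_imgSub.2 ⟨z, hz, rfl⟩), hinv z hz]) k1
      exact ⟨g, hg, hge⟩
  -- a fully automized receptive conjugate of `kSub`
  set K := kSub F p P0 with hKdef
  haveI : Finite K := finite_kSub
  have hKS : K ≤ S := kSub_le_normalizerIn.trans normalizerIn_le
  have hNPK : normalizerIn S P0 ≤ normalizerIn S K := fun x hx =>
    ⟨hx.1, normalizerIn_le_normalizer_kSub hP0S hx⟩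
  obtain ⟨T, hKT, hA, hrec⟩ := hL0 K hKS (card_lt_of_lt hPK)
  obtain ⟨θ, hθ, hθi, hθm⟩ := exists_normalizer_map hS hA hrec hKT
  have hKN : K ≤ normalizerIn S K := le_normalizerIn_self hKS
  set P' := imgSub θ P0 with hP'def
  have hθP : IsIso F P0 P' θ := (hθi.isMap.mono hPK.le).isIso
  have hP'T : P' ≤ T := by
    rw [hθi.eq_imgSub]
    exact Subgroup.closure_mono (Set.image_mono hPK.le)
  have hP'S : P' ≤ S := hθP.target_le
  haveI := finite_of_le (S := S) (normalizerIn_le (S := S) (P := P'))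
  haveI := finite_mulAut_of_le hP'S
  haveI := finite_mulAut_of_le hrec.1
  have hθN : ∀ x ∈ normalizerIn S P0, θ x ∈ normalizerIn S P' := fun x hx =>
    hθP.mem_normalizerIn_of_extends hθ (hPK.le.trans hKN) (fun _ _ => rfl) (hNPK hx) hx.2
  have hNsurj : ∀ y ∈ normalizerIn S P', ∃ x ∈ normalizerIn S P0, θ x = y := fun y hy =>
    exists_preimage_of_card hθ hNPK hθN (hP0.2 P' hθP.isConj) hy
  have hN'T : normalizerIn S P' ≤ normalizerIn S T := fun y hy => by
    obtain ⟨x, hx, rfl⟩ := hNsurj y hy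
    exact hθm x (hNPK hx)
  have hP'FN : F.IsFullyNormalized P' := ⟨hP'S, fun Q hQ =>
    (hP0.2 Q (isConj_trans hθP.isConj hQ)).trans (card_le_of_mapsTo hθ hNPK hθN)⟩
  obtain ⟨θ', hθ', hθ1, -⟩ := hθi.exists_symm
  have hext' : ∀ u, IsIso F P' P' u → ∃ g, IsIso F T T g ∧ ∀ x ∈ P', g x = u x := by
    intro u hu
    obtain ⟨a, ha, ha1, ha2⟩ := hθP.exists_symm
    obtain ⟨g, hg, hge⟩ := hext (a ∘ (u ∘ θ)) ((hθP.comp hu).comp ha)
    refine ⟨θ ∘ (g ∘ θ'), ((hθ'.comp (isIso_kExt hS hP0S ((hθP.comp hu).comp ha) hg hge)).comp hθi),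
      fun x hx => ?_⟩
    obtain ⟨z, hz, rfl⟩ := hθP.exists_preimage hx
    show θ (g (θ' (θ z))) = u (θ z)
    rw [hθ1 z (hPK.le hz), hge z hz]
    exact ha2 _ (hu.mem hx)
  -- the stabilizer in `Aut_F(T)` and its Sylow subgroup
  set A := F.autGroup T ⊓ setStab T P' with hAdef
  set TP := ((normalizerIn S P').subgroupOf (normalizerIn S T)).map (conjAutIn S T) with hTP
  have hTPA : TP ≤ A := by
    rintro _ ⟨⟨x, hxT⟩, hx, rfl⟩
    haveI := finite_of_le hrec.1
    refine ⟨conjAut_mem_autGroup F hrec.1 hxT, mem_setStab_of_mapsTo hP'T fun y hy => ?_⟩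
    show autMap (conjAut hxT.2) y ∈ P'
    rw [autMap_conjAut _ (hP'T hy)]
    exact conj_mem_of_mem_normalizerIn hx hy
  have hTPp : IsPGroup p TP := ((isPGroup_autInducedBy hS T).to_le (by
    rw [← range_conjAutIn]
    exact Subgroup.map_le_range _ _))
  have hTPsyl : IsSylowIn p TP A := by
    obtain ⟨TA, hTA, hle⟩ := H48.exists_isSylowIn_ge hTPp hTPA
    suffices TP = TA from this ▸ hTA
    obtain ⟨χ, hχ, hχT⟩ := (isSylowIn_of_fullyAutomized hS hA).exists_cj_le hTA.isPGroup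
      (hTA.le.trans inf_le_left)
    set P3 := imgSub (autMap χ) P' with hP3
    have hχi : IsIso F P' P3 (autMap χ) := ((isIso_autMap hrec.1 hχ).isMap.mono hP'T).isIso
    have hP3T : P3 ≤ T := fun y hy => by
      obtain ⟨x, hx, rfl⟩ := hχi.isMap.mem_imgSub.1 hy
      exact autMap_mem _ (hP'T hx)
    have hsub : H48.cj χ TA ≤
        ((normalizerIn (normalizerIn S T) P3).subgroupOf (normalizerIn S T)).map (conjAutIn S T) := by
      rintro _ ⟨a, ha, rfl⟩
      obtain ⟨x, hxS, hxn, he⟩ := mem_autInducedBy.1 (H48.cj_le.1 hχT a ha)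
      haveI := finite_of_le (S := S) (hP3T.trans hrec.1)
      refine ⟨⟨x, hxS, hxn⟩, ⟨⟨hxS, hxn⟩, mem_normalizer_of_maps fun y hy => ?_⟩, he.symm⟩
      obtain ⟨z, hz, rfl⟩ := hχi.exists_preimage hy
      have h1 := congrArg (fun b => autMap b (autMap χ z)) he
      rw [autMap_conjAut _ (autMap_mem _ (hP'T hz)), autMap_mul _ _ (autMap_mem _ (hP'T hz)),
        ← autMap_mul _ _ (hP'T hz), inv_mul_cancel,
        show autMap (1 : MulAut T) z = z by rw [autMap_apply _ (hP'T hz)]; rfl,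
        autMap_mul _ _ (hP'T hz)] at h1
      show conjMap x (autMap χ z) ∈ P3
      rw [← h1]
      refine hχi.mem ?_
      rw [autMap_apply _ (hP'T hz)]
      exact ((hTA.le ha).2 ⟨z, hP'T hz⟩).1 hz
    haveI : Finite (normalizerIn (normalizerIn S T) P3) :=
      finite_of_le (S := S) (normalizerIn_le.trans normalizerIn_le)
    haveI := finite_of_le (S := S) (normalizerIn_le (S := S) (P := P3))
    refine Subgroup.eq_of_le_of_card_ge hle ?_
    rw [← H48.card_cj χ TA]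
    refine (Subgroup.card_le_of_le hsub).trans ?_
    refine card_range_restrict_eq hP'T hN'T hP3T rfl ?_
    exact (Subgroup.card_le_of_le (show normalizerIn (normalizerIn S T) P3 ≤ normalizerIn S P3 from
      fun x hx => ⟨hx.1.1, hx.2⟩)).trans (hP'FN.2 P3 hχi.isConj)
  let r : A →* MulAut P' := (stabRes hP'T).comp (Subgroup.inclusion inf_le_right)
  have hr : ∀ (a : A) {x : Ω}, x ∈ P' → autMap (r a) x = autMap (a : MulAut T) x := fun a _ hx =>
    autMap_stabRes hP'T _ hx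
  have hrTP : ∀ (a : A), (a : MulAut T) ∈ TP → r a ∈ autInducedBy S P' := by
    rintro a ⟨⟨x, hxT⟩, hx, he⟩
    have hx' : x ∈ normalizerIn S P' := hx
    refine mem_autInducedBy.2 ⟨x, hx'.1, hx'.2, aut_ext fun y hy => ?_⟩
    rw [hr a hy, ← he]
    show autMap (conjAut hxT.2) y = _
    rw [autMap_conjAut _ (hP'T hy), autMap_conjAut _ hy]
  have hrange : r.range = F.autGroup P' := by
    apply le_antisymm
    · rintro _ ⟨a, rfl⟩
      exact mem_autGroup_of_isMap (((isIso_autMap hrec.1 a.2.1).isMap.mono hP'T).congr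
        fun x hx => hr a hx)
    · intro b hb
      obtain ⟨g, hg, hge⟩ := hext' _ (isIso_autMap hP'S hb)
      obtain ⟨a, ha, hag⟩ := hg.exists_aut
      haveI := finite_of_le hrec.1
      have haA : a ∈ A := ⟨ha, mem_setStab_of_mapsTo hP'T fun x hx => by
        rw [hag x (hP'T hx), hge x hx]
        exact autMap_mem _ hx⟩
      exact ⟨⟨a, haA⟩, aut_ext fun x hx => by rw [hr _ hx, hag x (hP'T hx), hge x hx]⟩
  refine ⟨P', isConj_trans hconj0 hθP.isConj, (isFullyAutomized_iff hS).2 ⟨hP'S, ?_⟩, ?_⟩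
  · have hle : (TP.subgroupOf A).map r ≤ autInducedBy S P' := by
      rintro _ ⟨a, ha, rfl⟩
      exact hrTP a ha
    intro hdvd
    have h1 : ((TP.subgroupOf A).map r).relIndex r.range ∣ (TP.subgroupOf A).index := by
      rw [← Subgroup.relIndex_top_right, MonoidHom.range_eq_map]
      rw [Subgroup.relIndex_map_map]
      exact Subgroup.relIndex_dvd_of_le_left _ le_sup_left |>.trans (by
        rw [top_sup_eq])
    rw [hrange] at h1
    exact hTPsyl.ndvd ((hdvd.trans (Subgroup.relIndex_dvd_of_le_left _ hle)).trans h1)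
  · refine receptive_of_extend hP'S fun Q u N hu hQN hN => ?_
    obtain ⟨ψ0, hψ0⟩ := hgood Q (isConj_trans hu.isConj (isConj_symm hθP.isConj))
    set ψ := θ ∘ ψ0 with hψ
    have hψm : IsMap F (normalizerIn S Q) ψ := hψ0.1.comp hθ fun x hx => hNPK (hψ0.mem hx)
    have hψi : IsIso F Q P' ψ := hψ0.2.comp hθP
    obtain ⟨a, ha, ha1, -⟩ := hψi.exists_symm
    obtain ⟨α, hα, hαe⟩ := (ha.comp hu).exists_aut
    obtain ⟨g, hg, hge⟩ := hext' _ (ha.comp hu)
    obtain ⟨β, hβ, hβg⟩ := hg.exists_aut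
    haveI := finite_of_le hrec.1
    have hβA : β ∈ A := ⟨hβ, mem_setStab_of_mapsTo hP'T fun x hx => by
      rw [hβg x (hP'T hx), hge x hx]
      exact (ha.comp hu).mem hx⟩
    have hNQ : N ≤ normalizerIn S Q := fun x hx => ⟨((hN x).1 hx).1, ((hN x).1 hx).2.1⟩
    haveI := finite_of_le (S := S) (hNQ.trans normalizerIn_le)
    set M := imgSub ψ N with hM
    have hψN := hψm.mono hNQ
    have hMN : M ≤ normalizerIn S P' := fun y hy => by
      obtain ⟨x, hx, rfl⟩ := hψN.mem_imgSub.1 hy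
      exact hψi.mem_normalizerIn_of_extends hψm (le_normalizerIn_self hψi.source_le)
        (fun _ _ => rfl) (hNQ hx) (hNQ hx).2
    set X := H48.cj β ((M.subgroupOf (normalizerIn S T)).map (conjAutIn S T)) with hX
    set Y := (((autInducedBy S P').comap r).map A.subtype) with hY
    have hYA : Y ≤ A := Subgroup.map_subtype_le _
    let r' : Y →* MulAut P' := r.comp (Subgroup.inclusion hYA)
    have hr' : IsPGroup p r'.range := (isPGroup_autInducedBy hS P').to_le (by
      rintro _ ⟨b, rfl⟩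
      obtain ⟨c, hc, hce⟩ := b.2
      show r (Subgroup.inclusion hYA b) ∈ _
      rw [show Subgroup.inclusion hYA b = c from Subtype.ext hce.symm]
      exact hc)
    have hTY : IsSylowIn p TP Y := ⟨fun b hb => ⟨⟨b, hTPA hb⟩, hrTP _ hb, rfl⟩, hTPp,
      fun h => hTPsyl.ndvd (h.trans (Dvd.intro _ (Subgroup.relIndex_mul_relIndex _ _ _
        (fun b hb => ⟨⟨b, hTPA hb⟩, hrTP _ hb, rfl⟩) hYA)))⟩
    have hXp : IsPGroup p X := H48.isPGroup_cj ((isPGroup_autInducedBy hS T).to_le (by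
      rw [← range_conjAutIn]
      exact Subgroup.map_le_range _ _))
    have hXY : X ≤ Y := by
      rintro _ ⟨_, ⟨⟨m, hmT⟩, hm, rfl⟩, rfl⟩
      obtain ⟨x, hx, rfl⟩ := hψN.mem_imgSub.1 (show m ∈ M from hm)
      have hmA : conjAutIn S T ⟨ψ x, hmT⟩ ∈ A := hTPA ⟨⟨ψ x, hmT⟩, hMN hm, rfl⟩
      have hconjA : β * conjAutIn S T ⟨ψ x, hmT⟩ * β⁻¹ ∈ A :=
        A.mul_mem (A.mul_mem hβA hmA) (A.inv_mem hβA)
      refine ⟨⟨_, hconjA⟩, ?_, rfl⟩
      obtain ⟨hxS, hxn, h, hhS, he⟩ := (hN x).1 hx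
      haveI := finite_of_le hP'S
      have hhn : h ∈ Subgroup.normalizer (P' : Set Ω) := mem_normalizer_of_maps fun z hz => by
        obtain ⟨y, hy, rfl⟩ := hu.exists_preimage hz
        exact he y hy ▸ hu.mem ((Subgroup.mem_normalizer_iff.1 hxn y).1 hy)
      refine mem_autInducedBy.2 ⟨h, hhS, hhn, aut_ext fun z hz => ?_⟩
      rw [hr ⟨_, hconjA⟩ hz, autMap_conjAut _ hz]
      obtain ⟨y, hy, rfl⟩ := hu.exists_preimage hz
      have hβy : ∀ w ∈ Q, autMap β (ψ w) = u w := fun w hw => by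
        rw [hβg _ (hP'T (hψi.mem hw)), hge _ (hψi.mem hw), Function.comp_apply, ha1 w hw]
      have hyT := hP'T (hψi.mem hy)
      show autMap (β * conjAut hmT.2 * β⁻¹) (u y) = _
      rw [← hβy y hy, autMap_mul _ _ (autMap_mem _ hyT), ← autMap_mul _ _ hyT, inv_mul_cancel,
        show autMap (1 : MulAut T) (ψ y) = ψ y by rw [autMap_apply _ hyT]; rfl,
        autMap_mul _ _ hyT, autMap_conjAut _ hyT, conjMap_apply,
        ← hψm.map_conj (hNQ hx) (le_normalizerIn_self hψi.source_le hy),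
        hβy _ ((Subgroup.mem_normalizer_iff.1 hxn y).1 hy), hβy y hy, he y hy]
      rfl
    obtain ⟨k, hk, hkr, hkT⟩ := exists_ker_conj_le r' hr' hTY hXp hXY
    obtain ⟨g1, hg1, hg1e⟩ := exists_twisted_extension (N := M) hrec (isIso_id F hrec.1)
      (hMN.trans hN'T) (mul_mem (hYA hk).1 hβ) fun b hb => by
        obtain ⟨m, hm, hmn, rfl⟩ := mem_autInducedBy.1 hb
        have hid : (isIso_id F hrec.1).autEquiv (conjAut hmn) = conjAut hmn :=
          aut_ext fun z hz => (isIso_id F hrec.1).autMap_autEquiv _ hz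
        have h1 := hkT _ ⟨conjAut hmn, ⟨⟨m, hN'T (hMN hm)⟩, hm, rfl⟩, rfl⟩
        rw [hid]
        have hle : TP ≤ autInducedBy S T := by
          rw [← range_conjAutIn]
          exact Subgroup.map_le_range _ _
        have := hle h1
        simpa [mul_assoc] using this
    refine ⟨g1 ∘ ψ, hψN.comp (hg1.mono le_sup_left) fun x hx => hψN.mem_imgSub.2 ⟨x, hx, rfl⟩,
      fun y hy => ?_⟩
    have hyP := hψi.mem hy
    show g1 (ψ y) = u y
    rw [hg1e _ (hP'T hyP)]
    show autMap (k * β) (ψ y) = u y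
    rw [autMap_mul _ _ (hP'T hyP), hβg _ (hP'T hyP), hge _ hyP, Function.comp_apply, ha1 y hy]
    have h2 := hr (Subgroup.inclusion hYA ⟨k, hk⟩) (hu.mem hy)
    rw [show r (Subgroup.inclusion hYA ⟨k, hk⟩) = 1 from hkr, autMap_apply _ (hu.mem hy)] at h2
    exact h2.symm

end Cfsg.Agent.FusionSys
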