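import Cfsg.Agent.FusionSys.ModelFacts
import Cfsg.Agent.FusionSys.SaturationCriterion
import Cfsg.Agent.Cores.Constrained
import Cfsg.Agent.Cores.Residual
import Cfsg.Agent.Fusion.PResidual
import Cfsg.Agent.H91.NormalSub
import Cfsg.Agent.H59.TransportQS
import Cfsg.Agent.H90.WeaklyNormal
import Cfsg.Agent.H90.PPowerContain
import Cfsg.Agent.S5093
import Cfsg.Agent.S5113
import Cfsg.Agent.S5120
import Cfsg.Agent.S5124
import Cfsg.Agent.S5292
import Cfsg.Agent.S5343
import Cfsg.Prelude.Def_FusionComponents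

/-!
Terminating residual series and constrained systems with `p`-solvable automizer of a normal centric subgroup.
-/

set_option autoImplicit false

namespace Cfsg.Agent.FusionSys.ResSeries

open Cfsg Cfsg.FusionSystem Cfsg.Agent.FusionSys

universe u v

variable {Ω : Type u} [Group Ω] {S : Subgroup Ω} {F : FusionSystem S} {p : ℕ}

/-- The subgroup generated by the elements of `p`-power order. -/
def pGen (p : ℕ) (G : Type*) [Group G] : Subgroup G :=
  Subgroup.closure {g : G | ∃ k : ℕ, orderOf g = p ^ k}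

instance pGen_normal (p : ℕ) (G : Type*) [Group G] : (pGen p G).Normal := by
  refine ⟨fun n hn g => ?_⟩
  induction hn using Subgroup.closure_induction with
  | mem x hx =>
    obtain ⟨k, hk⟩ := hx
    refine Subgroup.subset_closure ⟨k, ?_⟩
    rw [← hk]
    exact MulEquiv.orderOf_eq (MulAut.conj g) x
  | one => simp
  | mul x y _ _ hx hy =>
    rw [show g * (x * y) * g⁻¹ = (g * x * g⁻¹) * (g * y * g⁻¹) by group]
    exact mul_mem hx hy
  | inv x _ hx =>
    rw [show g * x⁻¹ * g⁻¹ = (g * x * g⁻¹)⁻¹ by group]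
    exact inv_mem hx

theorem mem_pGen_of_isPGroup {G : Type*} [Group G] [Fact p.Prime] {P : Subgroup G} (hP : IsPGroup p P)
    {x : G} (hx : x ∈ P) : x ∈ pGen p G := by
  obtain ⟨k, hk⟩ := IsPGroup.iff_orderOf.1 hP ⟨x, hx⟩
  exact Subgroup.subset_closure ⟨k, by rwa [Subgroup.orderOf_mk] at hk⟩

theorem not_dvd_index_pGen {G : Type*} [Group G] [Finite G] [Fact p.Prime] :
    ¬ p ∣ (pGen p G).index := fun h => by
  obtain ⟨P⟩ : Nonempty (Sylow p G) := inferInstance
  exact P.not_dvd_index (h.trans (Subgroup.index_dvd_of_le fun x hx => mem_pGen_of_isPGroup P.isPGroup' hx))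

/-- An automorphism realised by some element is realised by one whose order divides `u`, for any
unitary divisor `u` of the order of that element divisible by the order of the automorphism. -/
theorem exists_pow_realizer {G : Type*} [Group G] [Finite G] {ι : S →* G} {P : Subgroup Ω}
    {α : MulAut P} {g : G}
    (hg : ∀ x ∈ P, homFun ι (autMap α x) = g * homFun ι x * g⁻¹) {u v : ℕ} (huv : orderOf g = u * v)
    (hc : u.Coprime v) (hα : orderOf α ∣ u) :
    ∃ g', orderOf g' ∣ u ∧ ∀ x ∈ P, homFun ι (autMap α x) = g' * homFun ι x * g'⁻¹ := by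
  obtain ⟨m, hm1, hm0⟩ := Nat.chineseRemainder hc 1 0
  have hpow : ∀ k : ℕ, ∀ x ∈ P, homFun ι (autMap (α ^ k) x) = g ^ k * homFun ι x * (g ^ k)⁻¹ := by
    intro k
    induction k with
    | zero => intro x hx; simp [autMap_apply _ hx]
    | succ k ih =>
      intro x hx
      rw [pow_succ', autMap_mul _ _ hx, hg _ (autMap_mem _ hx), ih x hx]
      group
  refine ⟨g ^ m, orderOf_dvd_of_pow_eq_one ?_, fun x hx => ?_⟩
  · rw [← pow_mul]
    refine orderOf_dvd_iff_pow_eq_one.1 ?_
    rw [huv, mul_comm m u]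
    exact Nat.mul_dvd_mul_left _ (Nat.modEq_zero_iff_dvd.1 hm0)
  · have : α ^ m = α := by
      conv_rhs => rw [← pow_one α]
      exact pow_eq_pow_iff_modEq.2 (hm1.of_dvd hα)
    rw [← hpow m x hx, this]

theorem orderOf_dvd_realizer {G : Type*} [Group G] {ι : S →* G} (hι : Function.Injective ι)
    {P : Subgroup Ω} (hP : P ≤ S) {α : MulAut P} {g : G}
    (hg : ∀ x ∈ P, homFun ι (autMap α x) = g * homFun ι x * g⁻¹) : orderOf α ∣ orderOf g := by
  have hpow : ∀ k : ℕ, ∀ x ∈ P, homFun ι (autMap (α ^ k) x) = g ^ k * homFun ι x * (g ^ k)⁻¹ := by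
    intro k
    induction k with
    | zero => intro x hx; simp [autMap_apply _ hx]
    | succ k ih =>
      intro x hx
      rw [pow_succ', autMap_mul _ _ hx, hg _ (autMap_mem _ hx), ih x hx]
      group
  refine orderOf_dvd_of_pow_eq_one (aut_ext fun x hx => ?_)
  have h := hpow (orderOf g) x hx
  rw [pow_orderOf_eq_one, one_mul, inv_one, mul_one, homFun_mem ι (hP (autMap_mem _ hx)),
    homFun_mem ι (hP hx)] at h
  rw [show autMap (1 : MulAut P) x = x by rw [autMap_apply _ hx]; rfl]
  exact congrArg Subtype.val (hι h)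

/-- An automorphism of `p`-power order is induced by an element of `p`-power order, one of order prime to
`p` by an element of order prime to `p`. -/
theorem exists_realizer {G : Type*} [Group G] [Finite G] [Fact p.Prime] {ι : S →* G}
    (hr : F.IsRealizedBy ι) {P : Subgroup Ω} (hP : P ≤ S) {α : MulAut P} (hα : α ∈ F.autGroup P) :
    ((∃ k, orderOf α = p ^ k) → ∃ g : G, (∃ k, orderOf g = p ^ k) ∧
      ∀ x ∈ P, homFun ι (autMap α x) = g * homFun ι x * g⁻¹) ∧
    ((orderOf α).Coprime p → ∃ g : G, (orderOf g).Coprime p ∧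
      ∀ x ∈ P, homFun ι (autMap α x) = g * homFun ι x * g⁻¹) := by
  obtain ⟨g, hg⟩ := H91.exists_conj_of_isMap hr ((mem_autGroup_iff hP).1 hα)
  have hn : orderOf g ≠ 0 := (orderOf_pos g).ne'
  have hdvd := orderOf_dvd_realizer hr.1 hP hg
  have hp : p.Prime := Fact.out
  set a := (orderOf g).factorization p
  have hsplit : orderOf g = p ^ a * (orderOf g / p ^ a) := (Nat.ordProj_mul_ordCompl_eq_self _ p).symm
  have hcop : (p ^ a).Coprime (orderOf g / p ^ a) :=
    (Nat.coprime_ordCompl hp hn).pow_left a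
  refine ⟨fun ⟨k, hk⟩ => ?_, fun hc => ?_⟩
  · have hk' : orderOf α ∣ p ^ a := by
      rw [hk] at hdvd ⊢
      exact pow_dvd_pow p ((hp.pow_dvd_iff_le_factorization hn).1 hdvd)
    obtain ⟨g', h1, h2⟩ := exists_pow_realizer hg hsplit hcop hk'
    obtain ⟨j, -, hj⟩ := (Nat.dvd_prime_pow hp).1 h1
    exact ⟨g', ⟨j, hj⟩, h2⟩
  · have hk' : orderOf α ∣ orderOf g / p ^ a := by
      refine Nat.Coprime.dvd_of_dvd_mul_left (k := orderOf α) (hc.pow_right a) ?_
      rw [← hsplit]
      exact hdvd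
    obtain ⟨g', h1, h2⟩ := exists_pow_realizer hg (hsplit.trans (mul_comm _ _)) hcop.symm hk'
    exact ⟨g', Nat.Coprime.coprime_dvd_left h1 (Nat.coprime_ordCompl hp hn).symm, h2⟩

variable [Finite S] [Fact p.Prime]

/-- In a model the elements of `p`-power order generate a group realising the `p'`-residual subsystem. -/
theorem exists_pPrimeResidual (hS : IsPGroup p S) {G : Type v} [Group G] {ι : S →* G}
    (hG : F.IsModel p G ι) :
    ∃ (E : FusionSystem S) (ι' : S →* pGen p G), F.IsPPrimeResidual p E ∧ E.IsRealizedBy ι' ∧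
      ∃ T : Sylow p (pGen p G), (T : Subgroup (pGen p G)) = ι'.range := by
  haveI := hG.1
  have hG' := hG
  obtain ⟨-, hr, ⟨Sy, hSy⟩, -⟩ := hG'
  let M := pGen p G
  have hιM : ∀ s : S, ι s ∈ M := fun s =>
    mem_pGen_of_isPGroup Sy.isPGroup' (hSy ▸ ⟨s, rfl⟩)
  have hT : ∀ x, x ∈ S ↔ x ∈ S ∧ homFun ι x ∈ M :=
    fun x => ⟨fun h => ⟨h, homFun_mem ι h ▸ hιM ⟨x, h⟩⟩, fun h => h.1⟩
  set E := H91.subSys F ι M hT hr with hE
  have hEs : E.IsSaturated p := H91.subSys_saturated hT hr hS ⟨Sy, hSy⟩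
  have hidx : E.HasPrimeToPIndexIn F p := by
    refine ⟨fun P φ hφ => hφ.2.1, fun P hP => Subgroup.map_le_iff_le_comap.2
      ((Subgroup.closure_le _).2 fun α hα => ?_)⟩
    obtain ⟨k, hk⟩ := hα
    obtain ⟨g, hg, he⟩ := (exists_realizer (p := p) hr hP α.2).1 ⟨k, by rwa [Subgroup.orderOf_coe]⟩
    exact mem_autGroup_of_isMap ((H91.isMap_subSys_iff hT hr).2
      ⟨hP, (mem_autGroup_iff hP).1 α.2, g, Subgroup.subset_closure hg, he⟩)
  refine ⟨E, ι.codRestrict M hιM, ⟨hEs, hidx, fun D hD hDi => ?_⟩, ⟨fun a b h => hr.1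
    (congrArg Subtype.val h), fun P hP φ hφ => ⟨?_, ?_⟩⟩, Sy.subtype (fun x hx => ?_), ?_⟩
  rotate_left
  · rintro ⟨-, -, h, hh, he⟩
    refine ⟨⟨h, hh⟩, fun x => Subtype.ext ?_⟩
    show ι ⟨φ x, hφ x⟩ = h * ι ⟨x, hP x.2⟩ * h⁻¹
    rw [← homFun_mem ι, ← homFun_mem ι, he x]
  · rintro ⟨g, hg⟩
    have he : ∀ x : P, ι ⟨φ x, hφ x⟩ = (g : G) * ι ⟨x, hP x.2⟩ * (g : G)⁻¹ := fun x =>
      congrArg Subtype.val (hg x)
    exact ⟨hP, (hr.2 P hP φ hφ).2 ⟨g, he⟩, g, g.2, fun x => by
      rw [homFun_mem ι (hφ x), homFun_mem ι (hP x.2), he x]⟩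
  · rw [hSy] at hx
    obtain ⟨s, rfl⟩ := hx
    exact hιM s
  · ext x
    rw [Sylow.coe_subtype, Subgroup.mem_subgroupOf, hSy]
    exact ⟨fun ⟨s, hs⟩ => ⟨s, Subtype.ext hs⟩, fun ⟨s, hs⟩ => ⟨s, congrArg Subtype.val hs⟩⟩
  -- minimality
  have hc := isConstrained_of_model hS hG
  let D₀ := setupCore hS hc
  have hQ : D₀.Q = modelCore p ι := core_eq_modelCore hS hG
  obtain ⟨π, hπ, -, -, -⟩ := D₀.exists_projTo hG hQ
  haveI := D₀.finite_A
  have hM' : M ≤ ((D.autGroup D₀.Q).subgroupOf D₀.A).comap π := by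
    refine (Subgroup.closure_le _).2 fun g hg => ?_
    obtain ⟨k, hk⟩ := hg
    obtain ⟨j, -, hj⟩ := (Nat.dvd_prime_pow (Fact.out : p.Prime)).1 (hk ▸ orderOf_map_dvd π g)
    exact hDi.2 D₀.Q D₀.le_S ⟨π g, Subgroup.subset_closure ⟨j, hj⟩, rfl⟩
  intro P φ hφ
  obtain ⟨hPS, hφF, h, hh, he⟩ := hφ
  have hU : ∀ x ∈ P ⊔ D₀.Q, h * homFun ι x * h⁻¹ ∈ ι.range := by
    have hle : P ⊔ D₀.Q ≤ (ι.range.comap ((MulAut.conj h).toMonoidHom.comp ι)).map S.subtype := by
      refine sup_le (fun x hx => ⟨⟨x, hPS hx⟩, ?_, rfl⟩) fun x hx => ⟨⟨x, D₀.le_S hx⟩, ?_, rfl⟩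
      · show h * ι ⟨x, hPS hx⟩ * h⁻¹ ∈ ι.range
        refine ⟨⟨φ ⟨x, hx⟩, (F.le_of_mem hφF).2 _⟩, ?_⟩
        rw [← homFun_mem ι, he ⟨x, hx⟩, homFun_mem ι (hPS hx)]
      · exact pCore_le_range hG (conj_mem_pCore
          ((mem_modelCore (x := ⟨x, D₀.le_S hx⟩)).1 (hQ ▸ hx : x ∈ modelCore p ι)) h)
    intro x hx
    obtain ⟨s, hs, rfl⟩ := hle hx
    rw [S.subtype_apply, homFun_coe]
    exact hs
  obtain ⟨f, hf, hfe⟩ := H91.exists_isMap_of_conj hr (sup_le hPS D₀.le_S) hU
  have hfQ : IsMap D D₀.Q f := by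
    refine ((mem_autGroup_iff D₀.le_S).1 (hM' hh)).congr fun x hx => ?_
    have h1 := hπ h ⟨x, hx⟩
    have h2 := hfe x (Subgroup.mem_sup_right hx)
    rw [homFun_mem ι (hf.mem_S (Subgroup.mem_sup_right hx)), homFun_mem ι (D₀.le_S hx)] at h2
    rw [autMap_apply _ hx]
    exact congrArg Subtype.val (hr.1 (h2.trans h1.symm))
  have hmap := isMap_of_centric_restrict hS hc.1 hD (fun P => hDi.1 P) D₀.centric le_sup_right hf hfQ
  refine mem_hom_of_isMap (hmap.mono le_sup_left) fun x => ?_
  have h1 := hfe x (Subgroup.mem_sup_left x.2)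
  rw [← he x, homFun_mem ι (hf.mem_S (Subgroup.mem_sup_left x.2)),
    homFun_mem ι ((F.le_of_mem hφF).2 x)] at h1
  exact (congrArg Subtype.val (hr.1 h1)).symm

theorem hyperfocal_eq_of_realized {G : Type v} [Group G] [Finite G] {ι : S →* G}
    (hr : F.IsRealizedBy ι) (hSyl : ∃ U : Sylow p G, (U : Subgroup G) = ι.range) :
    ∀ x, x ∈ F.hyperfocalSubgroup p ↔ x ∈ S ∧ homFun ι x ∈ pResidual p G := by
  obtain ⟨U, hU⟩ := hSyl
  have h := S5093.result p U
  rw [hU] at h
  let j := realizedEquiv hr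
  intro x
  have hle : F.hyperfocalSubgroup p ≤ S := H59.Transp.hyperfocal_le F p
  refine ⟨fun hx => ⟨hle hx, ?_⟩, fun ⟨hxS, hx⟩ => ?_⟩
  · have h1 := H59.Transp.img_hyperfocal_le j p (j.fwd_mem_img hx)
    rw [h] at h1
    exact h1.2
  · have h1 : j.fwd x ∈ (groupFusionSystem ι.range).hyperfocalSubgroup p :=
      h.symm ▸ ⟨j.fwd_mem x hxS, hx⟩
    have h2 := H59.Transp.img_hyperfocal_le j.symm p (j.symm.fwd_mem_img h1)
    rwa [show j.symm.fwd (j.fwd x) = x from j.bwd_fwd x hxS] at h2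

/-- The elements of order prime to `p` generate a group realising the `p`-residual subsystem. -/
theorem exists_pResidual (hS : IsPGroup p S) {G : Type v} [Group G] [Finite G] {ι : S →* G}
    (hr : F.IsRealizedBy ι) (hSyl : ∃ U : Sylow p G, (U : Subgroup G) = ι.range) :
    ∃ (D : FusionSystem (F.hyperfocalSubgroup p))
      (ι' : ↥(F.hyperfocalSubgroup p) →* pResidual p G), F.IsPResidual p D ∧ D.IsRealizedBy ι' ∧
      ∃ T : Sylow p (pResidual p G), (T : Subgroup (pResidual p G)) = ι'.range := by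
  have hT := hyperfocal_eq_of_realized hr hSyl
  have hTS : F.hyperfocalSubgroup p ≤ S := H91.le_S hT
  set D := H91.subSys F ι (pResidual p G) hT hr with hD
  have hidx : D.HasPPowerIndexIn F p := by
    refine ⟨fun P φ hφ => hφ.2.1, le_rfl, fun P hP => Subgroup.map_le_iff_le_comap.2
      ((Subgroup.closure_le _).2 fun α hα => ?_)⟩
    obtain ⟨g, hg, he⟩ := (exists_realizer (p := p) hr (hP.trans hTS) α.2).2
      (by rwa [Subgroup.orderOf_coe])
    exact mem_autGroup_of_isMap ((H91.isMap_subSys_iff hT hr).2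
      ⟨hP, (mem_autGroup_iff (hP.trans hTS)).1 α.2, g, Subgroup.subset_closure hg, he⟩)
  let ι' : ↥(F.hyperfocalSubgroup p) →* pResidual p G :=
    (ι.comp (Subgroup.inclusion hTS)).codRestrict (pResidual p G) fun x => by
      have := ((hT x).1 x.2).2
      rwa [homFun_mem ι (hTS x.2)] at this
  refine ⟨D, ι', ⟨H91.subSys_saturated hT hr hS hSyl, hidx⟩, ⟨fun a b h => ?_, fun P hP φ hφ => ⟨?_, ?_⟩⟩, ?_⟩
  · exact Subgroup.inclusion_injective hTS (hr.1 (congrArg Subtype.val h))
  · rintro ⟨-, -, h, hh, he⟩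
    refine ⟨⟨h, hh⟩, fun x => Subtype.ext ?_⟩
    show ι ⟨φ x, hTS (hφ x)⟩ = h * ι ⟨x, hTS (hP x.2)⟩ * h⁻¹
    rw [← homFun_mem ι, ← homFun_mem ι, he x]
  · rintro ⟨g, hg⟩
    have he : ∀ x : P, ι ⟨φ x, hTS (hφ x)⟩ = (g : G) * ι ⟨x, hTS (hP x.2)⟩ * (g : G)⁻¹ := fun x =>
      congrArg Subtype.val (hg x)
    exact ⟨hP, (hr.2 P (hP.trans hTS) φ fun x => hTS (hφ x)).2 ⟨g, he⟩, g, g.2, fun x => by
      rw [homFun_mem ι (hTS (hφ x)), homFun_mem ι (hTS (hP x.2)), he x]⟩
  · obtain ⟨U, hU⟩ := hSyl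
    obtain ⟨V, hV⟩ := Thompson.exists_sylow_inf_normal U (pResidual p G)
    refine ⟨V, Subgroup.map_injective (pResidual p G).subtype_injective ?_⟩
    rw [hV, hU]
    ext y
    constructor
    · rintro ⟨⟨s, rfl⟩, hy⟩
      exact ⟨ι' ⟨s, (hT _).2 ⟨s.2, by rwa [homFun_coe]⟩⟩, ⟨_, rfl⟩, rfl⟩
    · rintro ⟨_, ⟨x, rfl⟩, rfl⟩
      exact ⟨⟨_, rfl⟩, (ι' x).2⟩

/-- A `p`-solvable group generated by its elements of `p`-power order has `O^p` proper. -/
theorem pResidual_ne_top {G : Type*} [Group G] [Finite G] [Nontrivial G] (hs : IsPSolvable p G)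
    (hgen : pGen p G = ⊤) : pResidual p G ≠ ⊤ := by
  intro h
  obtain ⟨N, hN, hmax⟩ : ∃ N : Subgroup G, (N.Normal ∧ N ≠ ⊤) ∧
      ∀ K : Subgroup G, K.Normal ∧ K ≠ ⊤ → Nat.card K ≤ Nat.card N := by
    haveI : Nonempty {K : Subgroup G // K.Normal ∧ K ≠ ⊤} := ⟨⟨⊥, inferInstance, bot_ne_top⟩⟩
    obtain ⟨N, hN⟩ := Finite.exists_max
      fun K : {K : Subgroup G // K.Normal ∧ K ≠ ⊤} => Nat.card K.1
    exact ⟨N.1, N.2, fun K hK => hN ⟨K, hK⟩⟩
  haveI := hN.1
  have hsimple : ∀ K : Subgroup (G ⧸ N), K.Normal → K ≠ ⊥ → K = ⊤ := by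
    intro K hK hne
    by_contra hK'
    have hle : N ≤ K.comap (QuotientGroup.mk' N) := fun x hx => by
      rw [Subgroup.mem_comap, show QuotientGroup.mk' N x = 1 from (QuotientGroup.eq_one_iff x).2 hx]
      exact one_mem K
    have he : N = K.comap (QuotientGroup.mk' N) := Subgroup.eq_of_le_of_card_ge hle
      (hmax _ ⟨hK.comap _, fun ht => hK' (by
        rw [← Subgroup.map_comap_eq_self_of_surjective (QuotientGroup.mk'_surjective N) K, ht,
          Subgroup.map_top_of_surjective _ (QuotientGroup.mk'_surjective N)])⟩)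
    refine hne ?_
    rw [← Subgroup.map_comap_eq_self_of_surjective (QuotientGroup.mk'_surjective N) K, ← he,
      QuotientGroup.map_mk'_self]
  rcases (Cores.isPSolvable_iff.1 hs) N hN.2 with hp | hp'
  · have htop : IsPGroup p (G ⧸ N) := by
      have h1 := hsimple _ inferInstance hp
      exact ((h1 ▸ Cores.pCore_isPGroup : IsPGroup p (⊤ : Subgroup (G ⧸ N)))).of_equiv Subgroup.topEquiv
    exact hN.2 (top_le_iff.1 (h ▸ Cores.pResidual_le_of_isPGroup_quotient N htop))
  · have htop : (Nat.card (G ⧸ N)).Coprime p := by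
      have h1 := hsimple _ inferInstance hp'
      have h2 := Cores.coprime_card_pPrimeCore (p := p) (G := G ⧸ N)
      rwa [h1, Subgroup.card_top] at h2
    refine hN.2 (top_le_iff.1 (hgen ▸ (Subgroup.closure_le _).2 fun g hg => ?_))
    obtain ⟨k, hk⟩ := hg
    rw [SetLike.mem_coe, ← QuotientGroup.eq_one_iff, ← orderOf_eq_one_iff]
    exact Nat.eq_one_of_dvd_coprimes (htop.pow_right k) (orderOf_dvd_natCard _)
      (hk ▸ orderOf_map_dvd (QuotientGroup.mk' N) g)

/-- Systems of `p`-solvable groups have a terminating residual series. -/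
theorem hasTerminatingResidualSeries_of_realized : ∀ (n : ℕ) {S : Subgroup Ω} [Finite S]
    (_ : IsPGroup p S) (F : FusionSystem S) (G : Type u) [Group G] [Finite G] (ι : S →* G),
    Nat.card S < n → IsPSolvable p G → F.IsRealizedBy ι →
      (∃ U : Sylow p G, (U : Subgroup G) = ι.range) → F.HasTerminatingResidualSeries p := by
  intro n
  induction n with
  | zero => intro S _ _ F G _ _ ι h; exact absurd h (Nat.not_lt_zero _)
  | succ n ih =>
    intro S _ hS F G _ _ ι hlt hsol hr ⟨U, hU⟩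
    by_cases hS1 : S = ⊥
    · exact .trivial F p hS1
    obtain ⟨hr', hU'⟩ := S5343.realized_quotient hr U hU
    have hmod : F.IsModel p (G ⧸ pPrimeCore p G) ((QuotientGroup.mk' (pPrimeCore p G)).comp ι) :=
      ⟨inferInstance, hr', hU', Cores.centralizer_pCore_le
        (Cores.isPSolvable_quotient hsol _) Cores.pPrimeCore_quotient_pPrimeCore⟩
    obtain ⟨E, ι₁, hE, hE1, V, hV⟩ := exists_pPrimeResidual hS hmod
    let M := pGen p (G ⧸ pPrimeCore p G)
    have hMs : IsPSolvable p M := Cores.isPSolvable_subgroup (Cores.isPSolvable_quotient hsol _) M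
    obtain ⟨D, ι₂, hD, hD1, W, hW⟩ := exists_pResidual hS hE1 ⟨V, hV⟩
    refine .step F E p D hE hD ?_
    have hTS : E.hyperfocalSubgroup p ≤ S := H59.Transp.hyperfocal_le E p
    haveI := finite_of_le hTS
    refine ih (hS.to_le hTS) D _ ι₂ ?_ (Cores.isPSolvable_subgroup hMs _) hD1 ⟨W, hW⟩
    refine lt_of_lt_of_le (card_lt_of_lt (lt_of_le_of_ne hTS fun he => ?_)) (Nat.lt_succ_iff.1 hlt)
    -- otherwise `O^p(M)` contains a Sylow subgroup of `M`
    haveI : Nontrivial M := by
      haveI : Nontrivial S := (Subgroup.nontrivial_iff_ne_bot S).2 hS1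
      exact hE1.1.nontrivial
    have hgen : pGen p M = ⊤ := by
      rw [eq_top_iff, ← Subgroup.map_le_map_iff_of_injective M.subtype_injective,
        ← MonoidHom.range_eq_map, Subgroup.range_subtype]
      refine (Subgroup.closure_le _).2 fun g hg => ?_
      obtain ⟨k, hk⟩ := hg
      exact ⟨⟨g, Subgroup.subset_closure ⟨k, hk⟩⟩, Subgroup.subset_closure
        ⟨k, (Subgroup.orderOf_coe _).symm.trans hk⟩, rfl⟩
    refine pResidual_ne_top hMs hgen (Cores.sylow_sup_pResidual V ▸ ?_)
    rw [eq_comm, sup_eq_right, hV]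
    rintro _ ⟨s, rfl⟩
    have h1 := ((hyperfocal_eq_of_realized hE1 ⟨V, hV⟩ s).1 (he.symm ▸ s.2)).2
    rwa [homFun_coe] at h1

/-- `F` has a normal centric subgroup with `p`-solvable automizer. -/
def HasSolvableCore (F : FusionSystem S) (p : ℕ) : Prop :=
  ∃ Q, F.IsNormal Q ∧ F.IsCentric Q ∧ IsPSolvable p (F.autGroup Q)

theorem realized_of_hasSolvableCore (hS : IsPGroup p S) (hF : F.IsSaturated p)
    (h : HasSolvableCore F p) : ∃ (G : Type u) (_ : Group G) (_ : Finite G) (ι : S →* G),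
      IsPSolvable p G ∧ F.IsModel p G ι := by
  obtain ⟨Q, hn, hc, hsol⟩ := h
  let D : Setup F p := ⟨Q, hS, hF, hn, hc⟩
  haveI := D.finite_model
  refine ⟨D.Model, inferInstance, inferInstance, D.iota, ?_, D.isModel⟩
  have hker : IsPGroup p D.modelProj.ker := by
    refine (hS.of_surjective _ D.iota.rangeRestrict_surjective).to_le fun g hg => ?_
    obtain ⟨z, rfl⟩ := D.exists_eq_iota_of_modelProj_eq_one hg
    exact ⟨_, rfl⟩
  refine Cores.isPSolvable_of_normal_of_quotient D.modelProj.ker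
    (Cores.isPSolvable_of_isPGroup hker) ?_
  exact (Cores.isPSolvable_congr
    (QuotientGroup.quotientKerEquivOfSurjective D.modelProj D.modelProj_surjective)).2 hsol

theorem isPSolvable_autGroup_core (hS : IsPGroup p S) (hF : F.IsSaturated p)
    (h : HasSolvableCore F p) : F.IsConstrained p ∧ IsPSolvable p (F.autGroup F.core) := by
  obtain ⟨G, _, _, ι, hs, hG⟩ := realized_of_hasSolvableCore hS hF h
  exact (S5292.result p hS F hF).1 ⟨G, inferInstance, inferInstance, ι, hs, hG.2.1, hG.2.2.1⟩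

theorem isPSolvable_of_subgroup_le {A : Type*} [Group A] [Finite A] (N : Subgroup A) [N.Normal]
    {B : Subgroup A} (hNB : N ≤ B) (hB : IsPSolvable p B) (hq : IsPSolvable p (A ⧸ N)) :
    IsPSolvable p A :=
  Cores.isPSolvable_of_normal_of_quotient N
    ((Cores.isPSolvable_congr (Subgroup.subgroupOfEquivOfLe hNB)).1 (Cores.isPSolvable_subgroup hB _)) hq

theorem isPSolvable_map_subtype {A : Type*} [Group A] [Finite A] {K : Subgroup A} (N : Subgroup K)
    [N.Normal] {B : Subgroup A} (hNB : N.map K.subtype ≤ B) (hB : IsPSolvable p B)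
    (hq : IsPSolvable p (K ⧸ N)) : IsPSolvable p K := by
  refine Cores.isPSolvable_of_normal_of_quotient N ?_ hq
  exact (Cores.isPSolvable_congr (N.equivMapOfInjective K.subtype K.subtype_injective)).2
    ((Cores.isPSolvable_congr (Subgroup.subgroupOfEquivOfLe hNB)).1 (Cores.isPSolvable_subgroup hB _))

omit [Fact p.Prime] in
theorem eq_imgSub_of_stronglyClosed {Q R : Subgroup Ω} (h : F.StronglyClosed Q) (hR : F.IsConj Q R) :
    R = Q := by
  obtain ⟨f, hf⟩ := isConj_iff.1 hR
  haveI := finite_of_le h.1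
  have h1 := isIso_of_mapsTo hf.isMap fun y hy =>
    (stronglyClosed_iff.1 h).2 Q f le_rfl hf.isMap y hy
  exact hf.eq_imgSub.trans h1.eq_imgSub.symm

/-- Passing from the `p`-residual subsystem up. -/
theorem hasSolvableCore_of_pResidual (hS : IsPGroup p S) (hF : F.IsSaturated p)
    (D : FusionSystem (F.hyperfocalSubgroup p)) (hD : F.IsPResidual p D)
    (h : HasSolvableCore D p) : HasSolvableCore F p := by
  let T := F.hyperfocalSubgroup p
  have hTS : T ≤ S := H59.Transp.hyperfocal_le F p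
  haveI := finite_of_le hTS
  have hsc := S5124.result p hS F hF
  have hTn : (T.subgroupOf S).Normal := ⟨fun n hn g => by
    exact (stronglyClosed_iff.1 hsc).2 T _ le_rfl (isMap_conj F hTS g.2) _ hn⟩
  have hDn := S5120.result p hS F hF T hTS hTn le_rfl D hD.1 hD.2
  obtain ⟨hDc, hDsol⟩ := isPSolvable_autGroup_core (hS.to_le hTS) hD.1 h
  let Q := D.core
  have hQD : D.IsNormal Q := H89.isNormal_core D
  have hQT : Q ≤ T := hQD.1
  have hQS : Q ≤ S := hQT.trans hTS
  haveI := finite_of_le hQS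
  have hCT : ∀ x ∈ T, (∀ y ∈ Q, y * x = x * y) → x ∈ Q := fun x hx hc =>
    centralizerIn_le_of_isCentric (isCentric_core hDc) (mem_centralizerIn.2 ⟨hx, hc⟩)
  have hQn : F.IsNormal Q := by
    refine H90.isNormal_of_weaklyNormal hS hDn.1 hQD fun α hα x hx => ?_
    exact H89.le_core D (H90.isNormal_image hDn.1.2.2 hQD hα) ⟨x, hx, rfl⟩
  have hSQ := le_normalizer_of_isNormal hQn
  -- restriction to `Q` has a `p`-group as kernel
  have hker : ∀ P : Subgroup Ω, Q ≤ P → P ≤ S → ∀ α ∈ F.autGroup P,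
      (∀ x ∈ Q, autMap α x = x) → ∃ k : ℕ, α ^ p ^ k = 1 := by
    intro P hQP hPS α hα hfix
    haveI := finite_of_le hPS
    haveI := finite_mulAut_of_le hPS
    set a := (orderOf α).factorization p
    refine ⟨a, ?_⟩
    set β := α ^ p ^ a with hβdef
    have hp : p.Prime := Fact.out
    have hn : orderOf α ≠ 0 := (orderOf_pos α).ne'
    have hβfix : ∀ x ∈ Q, autMap β x = x := by
      suffices ∀ k : ℕ, ∀ x ∈ Q, autMap (α ^ k) x = x from this _
      intro k
      induction k with
      | zero => intro x hx; simp [autMap_apply _ (hQP hx)]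
      | succ k ih => intro x hx; rw [pow_succ', autMap_mul _ _ (hQP hx), ih x hx, hfix x hx]
    have hβc : (orderOf β).Coprime p := by
      rw [hβdef, orderOf_pow_of_dvd (pow_ne_zero _ hp.ne_zero) (Nat.ordProj_dvd _ _)]
      exact (Nat.coprime_ordCompl hp hn).symm
    have hβA : β ∈ F.autGroup P := pow_mem hα _
    refine aut_ext fun y hy => ?_
    rw [show autMap (1 : MulAut P) y = y by rw [autMap_apply _ hy]; rfl]
    set z := y⁻¹ * autMap β y with hz
    have hby := autMap_mem β hy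
    have hzT : z ∈ T := by
      refine Subgroup.subset_closure ⟨P, ⟨β, hβA⟩, ⟨y, hy⟩, hPS, ?_, by rw [hz, autMap_apply _ hy]⟩
      exact Subgroup.subset_closure (by rwa [Set.mem_setOf_eq, Subgroup.orderOf_mk])
    have hzc : ∀ q ∈ Q, q * z = z * q := by
      intro q hq
      have hq' : y * q * y⁻¹ ∈ Q := (Subgroup.mem_normalizer_iff.1 (hSQ (hPS hy)) q).1 hq
      have h1 := ((mem_autGroup_iff hPS).1 hβA).map_conj hy (hQP hq)
      rw [hβfix q hq, hβfix _ hq'] at h1
      calc q * z = y⁻¹ * (y * q * y⁻¹) * autMap β y := by rw [hz]; group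
        _ = z * q := by rw [hz, h1]; group
    have hzQ := hCT z hzT hzc
    have hpow : ∀ k : ℕ, autMap (β ^ k) y = y * z ^ k := by
      intro k
      induction k with
      | zero => simp [autMap_apply _ hy]
      | succ k ih =>
        rw [pow_succ', autMap_mul _ _ hy, ih, ((mem_autGroup_iff hPS).1 hβA).map_mul hy
          (P.pow_mem (hQP hzQ) k), hβfix _ (Q.pow_mem hzQ k), pow_succ', ← mul_assoc,
          show y * z = autMap β y by rw [hz, mul_inv_cancel_left]]
    have h1 := hpow (orderOf β)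
    rw [pow_orderOf_eq_one, show autMap (1 : MulAut P) y = y by rw [autMap_apply _ hy]; rfl,
      left_eq_mul] at h1
    obtain ⟨j, hj⟩ := (hS.to_le hQS) ⟨z, hzQ⟩
    have h2 : z ^ p ^ j = 1 := congrArg Subtype.val hj
    have h3 : orderOf z = 1 := Nat.eq_one_of_dvd_coprimes (hβc.pow_right j)
      (orderOf_dvd_of_pow_eq_one h1) (orderOf_dvd_of_pow_eq_one h2)
    rw [orderOf_eq_one_iff, hz, inv_mul_eq_one] at h3
    exact h3.symm
  set R := Q ⊔ centralizerIn S Q with hR
  have hRS : R ≤ S := sup_le hQS centralizerIn_le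
  haveI := finite_of_le hRS
  -- the restriction homomorphism
  have hst : ∀ P : Subgroup Ω, Q ≤ P → P ≤ S → F.autGroup P ≤ setStab P Q := fun P hQP hPS α hα =>
    haveI := finite_of_le hPS
    mem_setStab_of_mapsTo hQP fun x hx =>
      (stronglyClosed_iff.1 (stronglyClosed_of_isNormal hQn)).2 Q _ le_rfl
        (((mem_autGroup_iff hPS).1 hα).mono hQP) x hx
  let res : ∀ P : Subgroup Ω, Q ≤ P → P ≤ S → (F.autGroup P →* MulAut Q) := fun P h1 h2 =>
    (stabRes h1).comp (Subgroup.inclusion (hst P h1 h2))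
  have hres : ∀ P (h1 : Q ≤ P) (h2 : P ≤ S) (a : F.autGroup P) {x : Ω}, x ∈ Q →
      autMap (res P h1 h2 a) x = autMap (a : MulAut P) x := fun P h1 h2 a _ hx =>
    autMap_stabRes h1 _ hx
  have hkerp : ∀ P (h1 : Q ≤ P) (h2 : P ≤ S), IsPGroup p (res P h1 h2).ker := fun P h1 h2 a => by
    obtain ⟨k, hk⟩ := hker P h1 h2 a.1 a.1.2 fun x hx => by
      rw [← hres P h1 h2 a.1 hx, show res P h1 h2 a.1 = 1 from a.2, autMap_apply _ hx]
      rfl
    exact ⟨k, Subtype.ext (Subtype.ext hk)⟩
  have hRn : F.IsNormal R := by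
    refine isNormal_of_centricRadical hS hF fun P hPn hPc hPr => ?_
    have hQP := le_of_isNormal hS hQn hPc hPr
    haveI := finite_of_le hPc.1
    have hRP : R ≤ P := by
      refine sup_le hQP fun c hc => ?_
      by_contra hcP
      set W := P ⊔ centralizerIn S Q with hW
      have hWS : W ≤ S := sup_le hPc.1 centralizerIn_le
      haveI := finite_of_le hWS
      obtain ⟨x, hxW, hxP⟩ := SetLike.exists_of_lt (lt_normalizerIn (hS.to_le hWS)
        (left_lt_sup.2 fun h => hcP (h hc)))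
      -- write the action of `x` as an inner one
      have hN : ∀ w ∈ W, w ∈ ((P ⊓ S).comap S.subtype ⊔ (centralizerIn S Q).comap S.subtype).map S.subtype := by
        intro w hw
        rw [Subgroup.map_sup, Subgroup.map_comap_eq, Subgroup.map_comap_eq, Subgroup.range_subtype,
          inf_eq_right.2 inf_le_right, inf_eq_left.2 hPc.1, inf_eq_right.2 centralizerIn_le]
        exact hw
      haveI : ((centralizerIn S Q).comap S.subtype).Normal := ⟨fun n hn g => by
        obtain ⟨-, hnc⟩ := mem_centralizerIn.1 hn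
        change ∀ y ∈ Q, y * (n : Ω) = (n : Ω) * y at hnc
        refine mem_centralizerIn.2 ⟨(g * n * g⁻¹).2, fun y hy => ?_⟩
        have hy' : (g : Ω)⁻¹ * y * g ∈ Q := by
          simpa using (Subgroup.mem_normalizer_iff.1 (hSQ (S.inv_mem g.2)) y).1 hy
        have h1 := hnc _ hy'
        show y * ((g : Ω) * n * (g : Ω)⁻¹) = (g : Ω) * n * (g : Ω)⁻¹ * y
        calc y * ((g : Ω) * n * (g : Ω)⁻¹) = g * ((g : Ω)⁻¹ * y * g * n) * (g : Ω)⁻¹ := by group
          _ = _ := by rw [show ((g : Ω)⁻¹ * y * g * (n : Ω)) = _ from h1]; group⟩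
      obtain ⟨w, hw, he⟩ := hN x hxW.1
      obtain ⟨y, hy, c', hc', rfl⟩ := Subgroup.mem_sup_of_normal_right.1 hw
      have hxN : x ∈ normalizerIn S P := ⟨hWS hxW.1, hxW.2⟩
      have hc'N : (c' : Ω) ∈ normalizerIn S P := by
        have : (c' : Ω) = (y : Ω)⁻¹ * x := by rw [← he]; simp
        rw [this]
        exact mul_mem (inv_mem (le_normalizerIn_self hPc.1 hy.1)) hxN
      have hkn : (⟨conjAut hc'N.2, conjAut_mem_autGroup F hPc.1 hc'N⟩ : F.autGroup P) ∈
          pCore p (F.autGroup P) := by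
        refine Cores.le_pCore (hkerp P hQP hPc.1) ?_
        refine MonoidHom.mem_ker.2 (aut_ext fun q hq => ?_)
        rw [hres P hQP hPc.1 _ hq, autMap_conjAut _ (hQP hq), conjMap_apply,
          show autMap (1 : MulAut Q) q = q by rw [autMap_apply _ hq]; rfl,
          ← (show q * (c' : Ω) = c' * q from (mem_centralizerIn.1 hc').2 q hq), mul_inv_cancel_right]
      have h1 : conjAut hc'N.2 ∈ Inn P := hPr.2 ▸ ⟨_, hkn, rfl⟩
      have h2 := mem_of_conjAut_mem_inn (centralizerIn_le_of_isCentric hPc) hPc.1 hc'N.1 hc'N.2 h1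
      apply hxP
      rw [← he]
      exact P.mul_mem hy.1 h2
    refine ⟨hRP, fun α hα => ?_⟩
    refine ((mem_autGroup_iff hPc.1).1 hα |>.mono hRP).image_eq_of_mapsTo fun x hx => ?_
    refine ((mem_autGroup_iff hPc.1).1 hα |>.mono hRP).mapsTo_sup (fun q hq => ?_) (fun q hq => ?_) hx
    · refine Subgroup.mem_sup_left ?_
      rw [autMap_apply _ (hQP hq)]
      exact (hst P hQP hPc.1 hα ⟨q, hQP hq⟩).1 hq
    · refine Subgroup.mem_sup_right ?_
      have hi : IsIso F Q Q (autMap α) :=
        isIso_of_mapsTo (((mem_autGroup_iff hPc.1).1 hα).mono hQP) fun y hy => by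
          rw [autMap_apply _ (hQP hy)]
          exact (hst P hQP hPc.1 hα ⟨y, hQP hy⟩).1 hy
      exact hi.mem_centralizerIn_of_extends ((mem_autGroup_iff hPc.1).1 hα) hQP (fun _ _ => rfl)
        (hRP (Subgroup.mem_sup_right hq)) hq
  have hRc : F.IsCentric R := ⟨hRS, fun R' hR' => by
    rw [eq_imgSub_of_stronglyClosed (stronglyClosed_of_isNormal hRn) hR']
    intro x hx
    exact Subgroup.mem_sup_right (mem_centralizerIn.2 ⟨hx.1, fun y hy =>
      (mem_centralizerIn.1 hx).2 y (Subgroup.mem_sup_left hy)⟩)⟩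
  refine ⟨R, hRn, hRc, ?_⟩
  haveI := finite_mulAut_of_le hRS
  haveI := finite_mulAut_of_le hQS
  haveI := finite_autGroup F hQS
  have hsolQ : IsPSolvable p (F.autGroup Q) :=
    isPSolvable_map_subtype (pResidual p (F.autGroup Q)) (hD.2.2.2 Q hQT) hDsol
      (Cores.isPSolvable_of_isPGroup Cores.isPGroup_quotient_pResidual)
  set r := res R le_sup_left hRS with hr
  refine Cores.isPSolvable_of_normal_of_quotient r.ker
    (Cores.isPSolvable_of_isPGroup (hkerp R le_sup_left hRS)) ?_
  refine (Cores.isPSolvable_congr (QuotientGroup.quotientKerEquivRange r)).2 ?_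
  have hle : r.range ≤ F.autGroup Q := by
    rintro _ ⟨a, rfl⟩
    exact mem_autGroup_of_isMap ((((mem_autGroup_iff hRS).1 a.2).mono le_sup_left).congr
      fun x hx => hres R le_sup_left hRS a hx)
  exact (Cores.isPSolvable_congr (Subgroup.subgroupOfEquivOfLe hle)).1
    (Cores.isPSolvable_subgroup hsolQ _)

/-- Passing from the `p'`-residual subsystem up. -/
theorem hasSolvableCore_of_pPrimeResidual (hS : IsPGroup p S) (hF : F.IsSaturated p)
    (E : FusionSystem S) (hE : F.IsPPrimeResidual p E) (h : HasSolvableCore E p) :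
    HasSolvableCore F p := by
  obtain ⟨hEs, hidx, hmin⟩ := hE
  obtain ⟨hEc, hEsol⟩ := isPSolvable_autGroup_core hS hEs h
  let Q := E.core
  have hQE : E.IsNormal Q := H89.isNormal_core E
  have hQS : Q ≤ S := hQE.1
  haveI := finite_of_le hQS
  -- conjugation of `E` by automorphisms of `S`
  have htr : ∀ α ∈ F.autGroup S, ∀ P f, IsMap E P f →
      IsMap E (imgSub (autMap α) P) (autMap α ∘ f ∘ autMap α⁻¹) := by
    intro α hα
    let a := autMap α
    let a' := autMap α⁻¹
    have ha := isIso_autMap le_rfl hα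
    have ha' := isIso_autMap le_rfl (inv_mem hα)
    have haa : ∀ x ∈ S, a (a' x) = x := fun x hx => autMap_inv_apply α hx
    have ha'a : ∀ x ∈ S, a' (a x) = x := fun x hx => by
      simpa using autMap_inv_apply α⁻¹ hx
    have himg : ∀ P : Subgroup Ω, P ≤ S → ∀ y ∈ imgSub a P, a' y ∈ P := by
      intro P hP y hy
      obtain ⟨x, hx, rfl⟩ := (ha.isMap.mono hP).mem_imgSub.1 hy
      rw [ha'a x (hP hx)]
      exact hx
    let E' := subSys F (fun P f => P ≤ S → (∀ x ∈ P, f x ∈ S) →
        IsMap E (imgSub a P) (a ∘ f ∘ a'))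
      (fun P f g h he hP hg => (h hP fun x hx => he x hx ▸ hg x hx).congr fun y hy => by
        show a (g (a' y)) = a (f (a' y))
        rw [he _ (himg P hP y hy)])
      (fun P b hP hb _ _ => (isMap_conj E ((ha.isMap.mono hP).imgSub_le) (ha.isMap.mem_S hb)).congr
        fun y hy => by
          have hy' : a' y ∈ S := hP (himg P hP y hy)
          show autMap α (b * a' y * b⁻¹) = autMap α b * y * (autMap α b)⁻¹
          rw [ha.isMap.map_conj hb hy']
          show a b * a (a' y) * (a b)⁻¹ = a b * y * (a b)⁻¹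
          rw [haa y ((ha.isMap.mono hP).imgSub_le hy)])
      (fun P R f g hf hg hm hPf hRg hP hgS => by
        have h1 := hPf hP fun x hx => hf.mem_S hx
        refine (h1.comp (hRg hg.le fun x hx => hg.mem_S hx) fun y hy => ?_).congr fun y hy => ?_
        · exact (ha.isMap.mono hg.le).mem_imgSub.2 ⟨_, hm _ (himg P hP y hy), rfl⟩
        · show a (g (f (a' y))) = a (g (a' (a (f (a' y)))))
          rw [ha'a _ (hf.mem_S (himg P hP y hy))])
      (fun P R f g hf hg hinv hPf hR hgS => by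
        have h1 := (hPf hf.source_le fun x hx => hf.isMap.mem_S hx).isIso
        obtain ⟨k, hk, hk1, -⟩ := h1.exists_symm
        have himgeq : imgSub (a ∘ f ∘ a') (imgSub a P) = imgSub a R := by
          rw [hf.eq_imgSub, ← hf.isMap.imgSub_comp, ← (ha.isMap.mono hf.source_le).imgSub_comp]
          exact imgSub_congr fun x hx => by
            show a (f (a' (a x))) = a (f x)
            rw [ha'a x (hf.source_le hx)]
        rw [himgeq] at hk
        refine hk.isMap.congr fun y hy => ?_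
        obtain ⟨r, hr, rfl⟩ := (ha.isMap.mono hR).mem_imgSub.1 hy
        obtain ⟨x, hx, rfl⟩ := hf.exists_preimage hr
        have hax : a x ∈ imgSub a P := (ha.isMap.mono hf.source_le).mem_imgSub.2 ⟨x, hx, rfl⟩
        show a (g (a' (a (f x)))) = k (a (f x))
        rw [ha'a _ (hf.isMap.mem_S hx), hinv x hx]
        refine Eq.trans (hk1 _ hax).symm ?_
        show k (a (f (a' (a x)))) = _
        rw [ha'a x (hf.source_le hx)])
    have hE' : ∀ P f, IsMap E' P f ↔ IsMap F P f ∧ IsMap E (imgSub a P) (a ∘ f ∘ a') := by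
      intro P f
      constructor
      · rintro ⟨φ, ⟨hφ, hΦ⟩, he⟩
        have hm : IsMap F P f := ⟨φ, hφ, he⟩
        refine ⟨hm, (hΦ hm.le fun x hx => homFun_mem φ hx ▸ (he ⟨x, hx⟩).symm ▸ hm.mem_S hx).congr
          fun y hy => ?_⟩
        show a (f (a' y)) = a (homFun φ (a' y))
        rw [homFun_mem φ (himg P hm.le y hy), he]
      · rintro ⟨⟨φ, hφ, he⟩, h⟩
        refine ⟨φ, ⟨hφ, fun hP _ => h.congr fun y hy => ?_⟩, he⟩
        show a (homFun φ (a' y)) = a (f (a' y))
        rw [homFun_mem φ (himg P hP y hy), he]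
    let j : SysEquiv E' E :=
      { fwd := a
        bwd := a'
        fwd_mem := fun x hx => ha.mem hx
        bwd_mem := fun x hx => ha'.mem hx
        bwd_fwd := ha'a
        fwd_bwd := haa
        fwd_mul := fun x hx y hy => ha.isMap.map_mul hx hy
        hom := fun P f hf => ((hE' P f).1 hf).2
        hom' := fun P f hf => by
          have hfS := hf.le
          have hPimg : imgTo a' P = imgSub a' P := rfl
          have hm : IsMap F P f := isSubsystemOf_iff_isMap.1 hidx.1 P f hf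
          have hle : imgSub a' P ≤ S := (ha'.isMap.mono hfS).imgSub_le
          have hback : ∀ y ∈ imgSub a' P, a y ∈ P := by
            intro y hy
            obtain ⟨x, hx, rfl⟩ := (ha'.isMap.mono hfS).mem_imgSub.1 hy
            rw [haa x (hfS hx)]
            exact hx
          rw [hPimg]
          refine (hE' _ _).2 ⟨(((ha.isMap.mono hle).comp hm hback).comp ha'.isMap
            fun y hy => hm.mem_S (hback y hy)), ?_⟩
          have he : imgSub a (imgSub a' P) = P := by
            rw [← (ha'.isMap.mono hfS).imgSub_comp,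
              imgSub_congr (f := id) (g := a ∘ a') fun x hx => haa x (hfS hx),
              ← (isIso_id F hfS).eq_imgSub]
          rw [he]
          exact hf.congr fun y hy => by
            show a (a' (f (a (a' y)))) = f y
            rw [haa y (hfS hy), haa _ (hf.mem_S hy)] }
    have hE's : E'.IsSaturated p := j.isSaturated hS hS hEs
    have hE'i : E'.HasPrimeToPIndexIn F p := by
      refine ⟨fun P φ hφ => hφ.1, fun P hP => Subgroup.map_le_iff_le_comap.2
        ((Subgroup.closure_le _).2 fun β hβ => ?_)⟩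
      obtain ⟨k, hk⟩ := hβ
      have haP := (ha.isMap.mono hP).isIso
      have hb : haP.autEquiv (β : MulAut P) ∈ E.autGroup (imgSub a P) := by
        refine hidx.2 _ haP.target_le ⟨⟨_, haP.autEquiv_mem_autGroup β.2⟩,
          Subgroup.subset_closure ⟨k, ?_⟩, rfl⟩
        rw [Subgroup.orderOf_mk, MulEquiv.orderOf_eq, Subgroup.orderOf_coe, hk]
      refine mem_autGroup_of_isMap ((hE' P _).2 ⟨(mem_autGroup_iff hP).1 β.2,
        ((mem_autGroup_iff haP.target_le).1 hb).congr fun y hy => ?_⟩)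
      obtain ⟨x, hx, rfl⟩ := haP.exists_preimage hy
      show a (autMap (β : MulAut P) (a' (a x))) = _
      rw [haP.autMap_autEquiv _ hx, ha'a x (hP hx)]
    intro P f hf
    exact ((hE' P f).1 (isSubsystemOf_iff_isMap.1 (hmin E' hE's hE'i) P f hf)).2
  have hinvS : ∀ α ∈ F.autGroup S, ∀ x ∈ Q, autMap α x ∈ Q := by
    intro α hα x hx
    have ha := isIso_autMap le_rfl hα
    have hle : imgSub (autMap α) Q ≤ S := (ha.isMap.mono hQS).imgSub_le
    have hn : E.IsNormal (imgSub (autMap α) Q) := by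
      refine isNormal_iff.2 ⟨hle, fun P f hf => ?_⟩
      have hPS := hf.le
      have h1 := htr α⁻¹ (inv_mem hα) P f hf
      rw [inv_inv] at h1
      obtain ⟨g, hg, hge, hgQ⟩ := (isNormal_iff.1 hQE).2 _ _ h1
      have h2 := htr α hα _ g hg
      have ha' := (isIso_autMap le_rfl (inv_mem hα)).isMap.mono hPS
      have hsup : P ⊔ imgSub (autMap α) Q ≤ imgSub (autMap α) (imgSub (autMap α⁻¹) P ⊔ Q) := by
        have hm := ha.isMap.mono (sup_le ha'.imgSub_le hQS)
        refine sup_le (fun y hy => hm.mem_imgSub.2 ⟨autMap α⁻¹ y,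
          Subgroup.mem_sup_left (ha'.mem_imgSub.2 ⟨y, hy, rfl⟩), autMap_inv_apply α (hPS hy)⟩)
          fun y hy => ?_
        obtain ⟨q, hq, rfl⟩ := (ha.isMap.mono hQS).mem_imgSub.1 hy
        exact hm.mem_imgSub.2 ⟨q, Subgroup.mem_sup_right hq, rfl⟩
      have hinv : ∀ y ∈ S, autMap α⁻¹ (autMap α y) = y := fun y hy => by
        simpa using autMap_inv_apply α⁻¹ hy
      refine ⟨_, h2.mono hsup, fun y hy => ?_, ?_⟩
      · show autMap α (g (autMap α⁻¹ y)) = f y
        rw [hge _ (ha'.mem_imgSub.2 ⟨y, hy, rfl⟩)]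
        show autMap α (autMap α⁻¹ (f (autMap α (autMap α⁻¹ y)))) = f y
        rw [autMap_inv_apply α (hPS hy), autMap_inv_apply α (hf.mem_S hy)]
      · haveI := finite_of_le hle
        refine ((h2.mono hsup).mono le_sup_right).image_eq_of_mapsTo fun y hy => ?_
        obtain ⟨q, hq, rfl⟩ := (ha.isMap.mono hQS).mem_imgSub.1 hy
        show autMap α (g (autMap α⁻¹ (autMap α q))) ∈ _
        rw [hinv q (hQS hq)]
        exact (ha.isMap.mono hQS).mem_imgSub.2 ⟨_, hgQ.le ⟨q, hq, rfl⟩, rfl⟩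
    exact H89.le_core E hn ((ha.isMap.mono hQS).mem_imgSub.2 ⟨x, hx, rfl⟩)
  have hQn : F.IsNormal Q := by
    have hrad : ∀ P, F.IsCentric P → F.IsRadical p P → Q ≤ P := by
      intro P hPc hPr
      haveI := finite_autGroup F hPc.1
      have hEF : ∀ A : Subgroup Ω, A ≤ S → E.autGroup A ≤ F.autGroup A := fun A hA a ha =>
        mem_autGroup_of_isMap (isSubsystemOf_iff_isMap.1 hidx.1 _ _ ((mem_autGroup_iff hA).1 ha))
      refine le_of_isNormal hS hQE ⟨hPc.1, fun R hR => hPc.2 R ?_⟩ ⟨hPc.1, le_antisymm ?_ ?_⟩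
      · obtain ⟨u, hu⟩ := isConj_iff.1 hR
        exact (IsIso.mk (isSubsystemOf_iff_isMap.1 hidx.1 _ _ hu.isMap) hu.image_eq).isConj
      · haveI : Finite (E.autGroup P) := finite_autGroup E hPc.1
        set K := (E.autGroup P).subgroupOf (F.autGroup P)
        haveI : (pGen p (F.autGroup P)).Normal := inferInstance
        set O := (pCore p (E.autGroup P)).map (E.autGroup P).subtype
        set O' := O.subgroupOf (F.autGroup P) with hO'
        have hOp : IsPGroup p O := Cores.pCore_isPGroup.map _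
        have hOle : O ≤ F.autGroup P := (Subgroup.map_subtype_le _).trans (hEF P hPc.1)
        have hgenE : (pGen p (F.autGroup P)).map (F.autGroup P).subtype ≤ E.autGroup P :=
          hidx.2 P hPc.1
        set Mg := (pGen p (F.autGroup P)) with hMg
        have hOM : O' ≤ Mg := fun a ha => mem_pGen_of_isPGroup
          (hOp.comap_of_injective _ (F.autGroup P).subtype_injective) ha
        haveI : (O'.subgroupOf Mg).Normal := ⟨fun n hn g => by
          have hnE : ((n : F.autGroup P) : MulAut P) ∈ O := hn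
          obtain ⟨c, hc, hce⟩ := hnE
          have hgE : ((g : F.autGroup P) : MulAut P) ∈ E.autGroup P := hgenE ⟨g, g.2, rfl⟩
          refine ⟨(⟨_, hgE⟩ : E.autGroup P) * c * (⟨_, hgE⟩ : E.autGroup P)⁻¹,
            Subgroup.Normal.conj_mem inferInstance c hc _, ?_⟩
          rw [map_mul, map_mul, map_inv, hce]
          rfl⟩
        have h1 : (O'.subgroupOf Mg).map Mg.subtype ≤ pCore p (F.autGroup P) :=
          (Subgroup.map_mono (Cores.le_pCore (N := O'.subgroupOf Mg) ((hOp.comap_of_injective _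
            (F.autGroup P).subtype_injective).comap_of_injective _ Mg.subtype_injective))).trans
            (Cores.map_pCore_le_of_normal Mg)
        rw [Subgroup.map_subgroupOf_eq_of_le hOM] at h1
        intro a ha
        rw [← hPr.2]
        exact ⟨⟨a, hOle ha⟩, h1 (show (⟨a, hOle ha⟩ : F.autGroup P) ∈ O' from ha), rfl⟩
      · exact inn_le_opAut (F := E) hS hPc.1
    refine isNormal_of_centricRadical hS hF fun P hPn hPc hPr => ⟨hrad P hPc hPr, ?_⟩
    -- every map of `F` preserves `Q`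
    have hall : ∀ A f, IsMap F A f → ∀ x ∈ A, x ∈ Q → f x ∈ Q := by
      let Φ := subSys F (fun A f => A ≤ S → ∀ x ∈ A, x ∈ Q ↔ f x ∈ Q)
        (fun A f g h he hA x hx => he x hx ▸ h hA x hx)
        (fun A b hA hb _ x hx => Subgroup.mem_normalizer_iff.1 (le_normalizer_of_isNormal hQE hb) x)
        (fun A B f g hf hg hm h1 h2 hA x hx => (h1 hA x hx).trans (h2 hg.le _ (hm x hx)))
        (fun A B f g hf hg hinv h1 hB y hy => by
          obtain ⟨x, hx, rfl⟩ := hf.exists_preimage hy
          rw [hinv x hx]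
          exact (h1 hf.source_le x hx).symm)
      have hle : F ≤ Φ := by
        refine le_of_autGroup_fullyNormalized hS hF fun R hR hbig α hα => ?_
        refine mem_autGroup_of_isMap ?_
        have hαm := (mem_autGroup_iff hR.1).1 hα
        refine ⟨R.subtype.comp α.toMonoidHom, ⟨mem_hom_iff_isMap.2 (hαm.congr fun x hx => ?_),
          fun _ x hx => ?_⟩, fun x => (autMap_coe α x).symm⟩
        · exact (homFun_mem (R.subtype.comp α.toMonoidHom) hx).trans (autMap_coe α ⟨x, hx⟩).symm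
        rw [show homFun (R.subtype.comp α.toMonoidHom) x = autMap α x from rfl]
        by_cases hRS : R = S
        · subst hRS
          refine ⟨hinvS α hα x, fun h => ?_⟩
          have := hinvS α⁻¹ (inv_mem hα) _ h
          rwa [← autMap_mul _ _ hx, inv_mul_cancel, autMap_apply _ hx] at this
        -- Frattini argument
        haveI := finite_autGroup F hR.1
        set A := F.autGroup R
        set Mg := pGen p A with hMg
        obtain ⟨-, T, hT⟩ := isFullyAutomized_of_isFullyNormalized hS hF hR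
        have hTM : (T : Subgroup A) ≤ Mg := fun a ha => mem_pGen_of_isPGroup T.isPGroup' ha
        have hfr := Sylow.normalizer_sup_eq_top' T hTM
        obtain ⟨n, hn, m, hm, hnm⟩ := Subgroup.mem_sup_of_normal_right.1
          (hfr.ge (Subgroup.mem_top (⟨α, hα⟩ : A)))
        have hmE : (m : MulAut R) ∈ E.autGroup R := hidx.2 R hR.1 ⟨m, hm, rfl⟩
        have hQmem : ∀ {u : Ω → Ω}, IsMap E R u → ∀ y ∈ R, (y ∈ Q ↔ u y ∈ Q) := by
          intro u hu y hy
          obtain ⟨g, hg, hge, hgQ⟩ := (isNormal_iff.1 hQE).2 R u hu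
          refine ⟨fun h => hge y hy ▸ hgQ.le ⟨y, h, rfl⟩, fun h => ?_⟩
          obtain ⟨q, hq, hqy⟩ := hgQ.ge h
          exact hg.injOn (Subgroup.mem_sup_right hq) (Subgroup.mem_sup_left hy)
            (hqy.trans (hge y hy).symm) ▸ hq
        have hnQ : ∀ y ∈ R, (y ∈ Q ↔ autMap (n : MulAut R) y ∈ Q) := by
          have hlt : R < S := lt_of_le_of_ne hR.1 hRS
          obtain ⟨g, hg, hge⟩ := receptive_extend (receptive_of_isFullyNormalized hS hF hR)
            (isIso_autMap hR.1 n.2) (N := normalizerIn S R) fun y hy => by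
              have hcy : (⟨conjAut hy.2, conjAut_mem_autGroup F hR.1 hy⟩ : A) ∈ (T : Subgroup A) := by
                rw [hT]
                exact mem_autInducedBy.2 ⟨y, hy.1, hy.2, rfl⟩
              have h1 := (Subgroup.mem_normalizer_iff.1 hn _).1 hcy
              have h1 := (SetLike.ext_iff.1 hT _).1 h1
              obtain ⟨k, hkS, hkn, hk⟩ := mem_autInducedBy.1
                (show ((n : MulAut R) * conjAut hy.2 * (n : MulAut R)⁻¹) ∈ autInducedBy S R from h1)
              rw [mul_inv_eq_iff_eq_mul] at hk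
              refine ⟨hy.1, hy.2, k, hkS, fun z hz => ?_⟩
              have h2 := congrArg (fun b => autMap b z) hk
              rw [autMap_mul _ _ hz, autMap_mul _ _ hz, autMap_conjAut _ hz,
                autMap_conjAut _ (autMap_mem _ hz)] at h2
              exact h2
          obtain ⟨ψ, hψ, hψe⟩ := hbig _ _ (card_lt_card_normalizerIn hS hlt) (hg.mono le_sup_left)
          intro y hy
          have hy' := le_normalizerIn_self hR.1 hy
          have h3 := hψ.2 normalizerIn_le y hy'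
          rw [homFun_mem ψ hy', hψe ⟨y, hy'⟩, hge y hy] at h3
          exact h3
        rw [show α = (n : MulAut R) * (m : MulAut R) from (congrArg Subtype.val hnm).symm,
          autMap_mul _ _ hx]
        exact (hQmem ((mem_autGroup_iff hR.1).1 hmE) x hx).trans (hnQ _ (autMap_mem _ hx))
      intro A f hf x hx hxQ
      obtain ⟨φ, hφ, hφe⟩ := le_iff_isMap.1 hle A f hf
      have := (hφ.2 hf.le x hx).1 hxQ
      rwa [homFun_mem φ hx, hφe] at this
    intro α hα
    refine ((mem_autGroup_iff hPc.1).1 hα |>.mono (hrad P hPc hPr)).image_eq_of_mapsTo fun x hx => ?_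
    exact hall P _ ((mem_autGroup_iff hPc.1).1 hα) x (hrad P hPc hPr hx) hx
  refine ⟨Q, hQn, ⟨hQS, fun R hR => ?_⟩, ?_⟩
  · rw [eq_imgSub_of_stronglyClosed (stronglyClosed_of_isNormal hQn) hR]
    exact centralizerIn_le_of_isCentric (isCentric_core hEc)
  · haveI := finite_mulAut_of_le hQS
    haveI := finite_autGroup F hQS
    refine isPSolvable_map_subtype (pGen p (F.autGroup Q)) (hidx.2 Q hQS) hEsol
      (Cores.isPSolvable_of_coprime ?_)
    rw [← Subgroup.index_eq_card]
    exact ((Fact.out : p.Prime).coprime_iff_not_dvd.2 not_dvd_index_pGen).symm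

theorem hasSolvableCore_of_terminating {S : Subgroup Ω} {F : FusionSystem S} {q : ℕ}
    (h : F.HasTerminatingResidualSeries q) : q = p → Finite S → IsPGroup q S → F.IsSaturated q →
      HasSolvableCore F q := by
  induction h with
  | @trivial S F q hS1 =>
    rintro rfl hfin hS hF
    haveI := hfin
    refine ⟨⊥, H90.isNormal_bot F, ⟨bot_le, fun R hR => ?_⟩, ?_⟩
    · exact centralizerIn_le.trans (hS1.le.trans bot_le)
    · haveI := finite_autGroup F (bot_le : (⊥ : Subgroup Ω) ≤ S)
      refine Cores.isPSolvable_of_card (n := 1) ?_ (Or.inr (Nat.coprime_one_left _))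
      exact Nat.card_eq_one_iff_unique.2 ⟨⟨fun a b => Subtype.ext (MulEquiv.ext fun x =>
        Subsingleton.elim _ _)⟩, ⟨1⟩⟩
  | @step S F E q D hE hD _ ih =>
    rintro rfl hfin hS hF
    haveI := hfin
    have hTS : E.hyperfocalSubgroup q ≤ S := H59.Transp.hyperfocal_le E q
    exact hasSolvableCore_of_pPrimeResidual hS hF E hE
      (hasSolvableCore_of_pResidual hS hE.1 D hD
        (ih rfl (finite_of_le hTS) (hS.to_le hTS) hD.1))

end Cfsg.Agent.FusionSys.ResSeries
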