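import Cfsg.Prelude.Def_FusionReduction
import Cfsg.Agent.FusionSys.RadicalNormalizer
import Cfsg.Agent.FusionSys.GlauFunctor
import Cfsg.Agent.H49.ModelInvolve

/-!
Sections of models of normalizer systems of centric subgroups are sections of models at centric radical subgroups.
-/

set_option autoImplicit false
set_option linter.style.haveILetI false

namespace Cfsg.Agent.FusionSys

open Cfsg Cfsg.FusionSystem Set

universe u v

variable {Ω : Type u} [Group Ω] {S : Subgroup Ω} [Finite S] {p : ℕ} [Fact p.Prime] {F : FusionSystem S}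

/-- If `O_p` of a model of `N_F(Q)` is the image of `Q`, then `Q` is radical. -/
theorem isRadical_of_core_eq (hS : IsPGroup p S) {Q : Subgroup Ω} (hQc : F.IsCentric Q)
    {N : FusionSystem (normalizerIn S Q)} (hN : F.IsNormalizerSystem Q N) {G : Type v} [Group G]
    {ι : ↥(normalizerIn S Q) →* G} (hG : N.IsModel p G ι) (h : modelCore p ι = Q) : F.IsRadical p Q := by
  have hQS := hQc.1
  haveI := finite_of_le hQS
  haveI : Finite ↥(normalizerIn S Q) := finite_of_le (S := S) normalizerIn_le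
  haveI := hG.1
  have hK := isKSys_normalizer_iff.1 hN
  refine ⟨hQS, le_antisymm ?_ ?_⟩
  · rintro _ ⟨α, hα, rfl⟩
    have hQT := le_normalizerIn_self hQS
    obtain ⟨hinj, hreal⟩ := hG.2.1
    have hcQ : ∀ {y : ↥(normalizerIn S Q)}, (y : Ω) ∈ Q ↔ ι y ∈ pCore p G := fun {y} =>
      (SetLike.ext_iff.1 h (y : Ω)).symm.trans mem_modelCore
    -- the elements of the model inducing an element of `O_p(Aut_F(Q))`
    let M : Subgroup G :=
      { carrier := {g | ∃ β ∈ pCore p (F.autGroup Q), ∀ x : ↥(normalizerIn S Q), (hx : (x : Ω) ∈ Q) →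
          g * ι x * g⁻¹ = ι ⟨autMap (β : MulAut Q) x, hQT (autMap_mem _ hx)⟩}
        one_mem' := ⟨1, one_mem _, fun x hx => by
          rw [one_mul, inv_one, mul_one]
          exact congrArg ι (Subtype.ext (autMap_one hx).symm)⟩
        mul_mem' := by
          rintro g g' ⟨β, hβ, he⟩ ⟨β', hβ', he'⟩
          refine ⟨β * β', mul_mem hβ hβ', fun x hx => ?_⟩
          calc g * g' * ι x * (g * g')⁻¹ = g * (g' * ι x * g'⁻¹) * g⁻¹ := by group
            _ = _ := by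
              rw [he' x hx, he _ (autMap_mem _ hx)]
              exact congrArg ι (Subtype.ext (autMap_mul _ _ hx).symm)
        inv_mem' := by
          rintro g ⟨β, hβ, he⟩
          refine ⟨β⁻¹, inv_mem hβ, fun x hx => ?_⟩
          have h2 := he ⟨autMap ((β : MulAut Q)⁻¹) x, hQT (autMap_mem _ hx)⟩ (autMap_mem _ hx)
          simp only [autMap_inv_apply (β : MulAut Q) hx] at h2
          rw [inv_inv]
          calc g⁻¹ * ι x * g = g⁻¹ * (g * ι ⟨autMap ((β : MulAut Q)⁻¹) x, hQT (autMap_mem _ hx)⟩ * g⁻¹) * g := by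
                rw [h2]
            _ = ι ⟨autMap ((β : MulAut Q)⁻¹) x, hQT (autMap_mem _ hx)⟩ := by group
            _ = _ := rfl }
    have hreach : ∀ β : F.autGroup Q, ∃ g : G, ∀ x : ↥(normalizerIn S Q), (hx : (x : Ω) ∈ Q) →
        g * ι x * g⁻¹ = ι ⟨autMap (β : MulAut Q) x, hQT (autMap_mem _ hx)⟩ := by
      intro β
      have hβ := (mem_autGroup_iff hQS).1 β.2
      obtain ⟨-, g, hg⟩ := (isMap_realized_iff hG.2.1).1 ((hK.map_iff Q _).2 ⟨hQT,
        fun x hx => hQT (autMap_mem _ hx), autMap (β : MulAut Q), hβ.mono (sup_le le_rfl le_rfl), fun _ _ => rfl,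
        (onQ_top_iff hβ le_rfl).2 (image_autMap _)⟩)
      exact ⟨g, fun x hx => (hg x hx).2.symm⟩
    have hmemM : ∀ {g : G}, g ∈ M → ∀ (β : F.autGroup Q),
        (∀ x : ↥(normalizerIn S Q), (hx : (x : Ω) ∈ Q) →
          g * ι x * g⁻¹ = ι ⟨autMap (β : MulAut Q) x, hQT (autMap_mem _ hx)⟩) → β ∈ pCore p (F.autGroup Q) := by
      rintro g ⟨γ, hγ, he⟩ β hβ
      rwa [show β = γ from Subtype.ext (aut_ext fun x hx =>
        congrArg Subtype.val (hinj ((hβ ⟨x, hQT hx⟩ hx).symm.trans (he ⟨x, hQT hx⟩ hx))))]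
    have hQG : ∀ (g : G) (x : ↥(normalizerIn S Q)), (x : Ω) ∈ Q →
        ∃ y : ↥(normalizerIn S Q), (y : Ω) ∈ Q ∧ g * ι x * g⁻¹ = ι y := fun g x hx => by
      obtain ⟨y, hy⟩ := pCore_le_range hG (conj_mem_pCore (hcQ.1 hx) g)
      exact ⟨y, hcQ.2 (hy ▸ conj_mem_pCore (hcQ.1 hx) g), hy.symm⟩
    haveI : M.Normal := ⟨by
      rintro m ⟨β, hβ, he⟩ g
      obtain ⟨γ, hγ⟩ : ∃ γ : F.autGroup Q, ∀ x : ↥(normalizerIn S Q), (hx : (x : Ω) ∈ Q) →
          g * ι x * g⁻¹ = ι ⟨autMap (γ : MulAut Q) x, hQT (autMap_mem _ hx)⟩ := by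
        let φ : Ω → Ω := fun w => bwdFun hinj (g * homFun ι w * g⁻¹)
        have hφ : ∀ x : ↥(normalizerIn S Q), (x : Ω) ∈ Q → φ x ∈ Q ∧
            ∃ hy : φ x ∈ normalizerIn S Q, g * ι x * g⁻¹ = ι ⟨φ x, hy⟩ := fun x hx => by
          obtain ⟨y, hy, hye⟩ := hQG g x hx
          have hφy : φ x = y := by
            show bwdFun hinj (g * homFun ι (x : Ω) * g⁻¹) = y
            rw [homFun_coe, hye, bwdFun_apply]
          exact ⟨hφy ▸ hy, hφy ▸ y.2, hye.trans (congrArg ι (Subtype.ext hφy.symm))⟩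
        have hmap : IsMap N Q φ := (isMap_realized_iff hG.2.1).2 ⟨hQT, g, fun x hx => by
          obtain ⟨-, hy, he⟩ := hφ x hx
          exact ⟨hy, he.symm⟩⟩
        obtain ⟨γ, hγ, hγe⟩ := (isIso_of_mapsTo (hK.isMap_le hmap)
          fun w hw => (hφ ⟨w, hQT hw⟩ hw).1).exists_aut
        exact ⟨⟨γ, hγ⟩, fun x hx => by
          obtain ⟨-, hy, he⟩ := hφ x hx
          exact he.trans (congrArg ι (Subtype.ext (hγe x hx).symm))⟩
      refine ⟨γ * β * γ⁻¹, (inferInstance : (pCore p (F.autGroup Q)).Normal).conj_mem β hβ γ, fun x hx => ?_⟩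
      have hx' : autMap ((γ : MulAut Q)⁻¹) x ∈ Q := autMap_mem _ hx
      have h1 := hγ ⟨_, hQT hx'⟩ hx'
      simp only [autMap_inv_apply (γ : MulAut Q) hx] at h1
      calc g * m * g⁻¹ * ι x * (g * m * g⁻¹)⁻¹ = g * (m * (g⁻¹ * ι x * g) * m⁻¹) * g⁻¹ := by group
        _ = g * (m * ι ⟨_, hQT hx'⟩ * m⁻¹) * g⁻¹ := by
            rw [show g⁻¹ * ι x * g = ι ⟨_, hQT hx'⟩ by rw [← h1]; group]
        _ = _ := by
            rw [he _ hx', hγ _ (autMap_mem _ hx')]
            refine congrArg ι (Subtype.ext ?_)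
            show autMap (γ : MulAut Q) (autMap (β : MulAut Q) (autMap ((γ : MulAut Q)⁻¹) x)) =
              autMap ((γ : MulAut Q) * (β : MulAut Q) * (γ : MulAut Q)⁻¹) x
            rw [autMap_mul _ _ hx, autMap_mul _ _ hx']⟩
    have hMp : IsPGroup p M := by
      rintro ⟨g, hg⟩
      obtain ⟨β, hβ, he⟩ := id hg
      obtain ⟨k, hk⟩ := Cores.pCore_isPGroup ⟨β, hβ⟩
      have hpow : ∀ (j : ℕ) (x : ↥(normalizerIn S Q)), (hx : (x : Ω) ∈ Q) →
          g ^ j * ι x * (g ^ j)⁻¹ = ι ⟨autMap ((β : MulAut Q) ^ j) x, hQT (autMap_mem _ hx)⟩ := by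
        intro j
        induction j with
        | zero =>
          intro x hx
          rw [pow_zero, one_mul, inv_one, mul_one]
          exact congrArg ι (Subtype.ext (by rw [pow_zero]; exact (autMap_one hx).symm))
        | succ j ih =>
          intro x hx
          calc g ^ (j + 1) * ι x * (g ^ (j + 1))⁻¹ = g * (g ^ j * ι x * (g ^ j)⁻¹) * g⁻¹ := by
                rw [pow_succ']; group
            _ = _ := by
              rw [ih x hx, he _ (autMap_mem _ hx)]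
              exact congrArg ι (Subtype.ext ((autMap_mul _ _ hx).symm.trans
                (congrArg (fun a : MulAut Q => autMap a (x : Ω)) (pow_succ' (β : MulAut Q) j).symm)))
      have hgp : g ^ p ^ k ∈ pCore p G := mem_pCore_of_centralizes hG fun y hy' => by
        have hy : (y : Ω) ∈ Q := (SetLike.ext_iff.1 h (y : Ω)).1 hy'
        have h1 := hpow (p ^ k) y hy
        rw [show ((β : MulAut Q) ^ p ^ k) = 1 by
          rw [← SubgroupClass.coe_pow, show β ^ p ^ k = 1 from congrArg Subtype.val hk]; rfl] at h1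
        rw [show (⟨autMap (1 : MulAut Q) y, hQT (autMap_mem _ hy)⟩ : ↥(normalizerIn S Q)) = y from
          Subtype.ext (autMap_one hy)] at h1
        exact (mul_inv_eq_iff_eq_mul.1 h1).symm
      obtain ⟨j, hj⟩ := Cores.pCore_isPGroup ⟨_, hgp⟩
      exact ⟨k + j, Subtype.ext (by
        rw [SubgroupClass.coe_pow, pow_add, pow_mul]
        exact congrArg Subtype.val hj)⟩
    obtain ⟨g, hg⟩ := hreach α
    have hgM : g ∈ M := ⟨α, hα, hg⟩
    obtain ⟨r, hr⟩ := pCore_le_range hG (Cores.le_pCore hMp hgM)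
    have hrQ : (r : Ω) ∈ Q := hcQ.2 (hr ▸ Cores.le_pCore hMp hgM)
    refine ⟨⟨r, hrQ⟩, aut_ext fun x hx => ?_⟩
    have h1 := hg ⟨x, hQT hx⟩ hx
    rw [← hr, ← _root_.map_inv, ← _root_.map_mul, ← _root_.map_mul] at h1
    have h2 := congrArg Subtype.val (hinj h1)
    rw [autMap_apply _ hx]
    exact h2
  · have hle := inn_le_autGroup F hQS
    intro α hα
    refine ⟨⟨α, hle hα⟩, ?_, rfl⟩
    haveI : ((Inn Q).subgroupOf (F.autGroup Q)).Normal := ⟨by
      rintro ⟨_, -⟩ ⟨z, rfl⟩ ⟨γ, hγ⟩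
      refine ⟨γ z, aut_ext fun x hx => ?_⟩
      rw [autMap_apply _ hx, autMap_apply _ hx]
      exact congrArg Subtype.val (show γ z * ⟨x, hx⟩ * (γ z)⁻¹ = γ (z * γ⁻¹ ⟨x, hx⟩ * z⁻¹) by
        rw [_root_.map_mul, _root_.map_mul, _root_.map_inv, MulAut.apply_inv_self])⟩
    exact Cores.le_pCore (N := (Inn Q).subgroupOf (F.autGroup Q)) (isPGroup_inn hS hQS).comap_subtype hα

/-- A model of the normalizer system of a centric subgroup that is not radical embeds in a model of the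
normalizer system of a larger fully normalized centric subgroup. -/
theorem exists_embedding_of_core_ne (hS : IsPGroup p S) (hF : F.IsSaturated p) {Q : Subgroup Ω}
    (hQn : F.IsFullyNormalized Q) (hQc : F.IsCentric Q) {N : FusionSystem (normalizerIn S Q)}
    (hN : F.IsNormalizerSystem Q N) {G : Type v} [Group G] {ι : ↥(normalizerIn S Q) →* G}
    (hG : N.IsModel p G ι) (hne : modelCore p ι ≠ Q) :
    ∃ Q' : Subgroup Ω, Nat.card Q < Nat.card Q' ∧ F.IsFullyNormalized Q' ∧ F.IsCentric Q' ∧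
      ∃ N' : FusionSystem (normalizerIn S Q'), F.IsNormalizerSystem Q' N' ∧
        ∃ (L : Type u) (_ : Group L) (κ : ↥(normalizerIn S Q') →* L), N'.IsModel p L κ ∧
          ∃ e : G →* L, Function.Injective e := by
  have hQS := hQc.1
  have hTS : (normalizerIn S Q) ≤ S := normalizerIn_le
  haveI : Finite (normalizerIn S Q) := finite_of_le hTS
  haveI := finite_of_le hQS
  haveI := hG.1
  have hTp : IsPGroup p (normalizerIn S Q) := hS.to_le hTS
  have hQT : Q ≤ (normalizerIn S Q) := le_normalizerIn_self hQS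
  have hK := isKSys_normalizer_iff.1 hN
  have hNn : N.IsNormal Q := hK.isNormal_self hQT
  set R := modelCore p ι with hR
  have hRT : R ≤ (normalizerIn S Q) := modelCore_le
  have hRn : N.IsNormal R := isNormal_modelCore hG
  have hQR : Q ≤ R := (Cfsg.Agent.H89.le_core N hNn).trans (core_eq_modelCore hTp hG).le
  haveI := finite_of_le hRT
  have hTR : (normalizerIn S Q) ≤ normalizerIn S R := fun x hx => ⟨hTS hx, le_normalizer_of_isNormal hRn hx⟩
  obtain ⟨R', hRR', hR'n⟩ := exists_isFullyNormalized F (hRT.trans hTS)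
  obtain ⟨u, hu, hui, hum⟩ := exists_map_to_fullyNormalized hS hF hR'n hRR'
  haveI : Finite ↥(normalizerIn S R') := finite_of_le (S := S) normalizerIn_le
  have hR'S : R' ≤ S := hR'n.1
  haveI := finite_of_le hR'S
  have hR'c : F.IsCentric R' := isCentric_of_isConj (isCentric_of_le hQc hQR (hRT.trans hTS)) hRR'
  refine ⟨R', ?_, hR'n, hR'c, ?_⟩
  · rw [← hui.card_eq]
    refine lt_of_le_of_ne (Subgroup.card_le_of_le hQR) fun he => hne ?_
    exact (Subgroup.eq_of_le_of_card_ge hQR he.ge).symm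
  obtain ⟨N', hN'⟩ := exists_normalizerSystem F hR'S
  have hK' := isKSys_normalizer_iff.1 hN'
  have hS'p : IsPGroup p ↥(normalizerIn S R') := hS.to_le normalizerIn_le
  let D : Setup N' p := ⟨R', hS'p, isSaturated_normalizer hS hF hR'n hN',
    hK'.isNormal_self (le_normalizerIn_self hR'S), isCentric_normalizerSystem hR'c hN'⟩
  haveI := D.finite_model
  refine ⟨N', hN', D.Model, inferInstance, D.iota, D.isModel, ?_⟩
  set κ := D.iota
  have hκi : Function.Injective κ := D.iota_injective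
  have huT := hu.mono hTR
  set Q₁ := imgSub u Q with hQ₁
  let υ : (normalizerIn S Q) →* ↥(normalizerIn S R') := MonoidHom.mk' (fun x => ⟨u x, hum x (hTR x.2)⟩)
    fun a b => Subtype.ext (huT.map_mul a.2 b.2)
  set κQ : Subgroup D.Model := ((Q.subgroupOf (normalizerIn S Q)).map υ).map κ with hκQ
  set H := Subgroup.normalizer (κQ : Set D.Model) with hH
  have hυi : Function.Injective υ := fun a b hab =>
    Subtype.ext (huT.injOn a.2 b.2 (congrArg Subtype.val hab))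
  have hυH : ∀ x : (normalizerIn S Q), κ (υ x) ∈ H := fun x => by
    refine Subgroup.le_normalizer_map κ ⟨υ x, Subgroup.le_normalizer_map υ ⟨x, ?_, rfl⟩, rfl⟩
    haveI : (Q.subgroupOf (normalizerIn S Q)).Normal := normal_subgroupOf_of_le fun y hy => hy.2
    rw [Subgroup.normalizer_eq_top]
    exact Subgroup.mem_top _
  let j : (normalizerIn S Q) →* H := (κ.comp υ).codRestrict H hυH
  have hji : Function.Injective j := fun a b hab => hυi (hκi (congrArg Subtype.val hab))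
  have hQmem : ∀ {x : (normalizerIn S Q)}, κ (υ x) ∈ κQ ↔ (x : Ω) ∈ Q := fun {x} => by
    refine ⟨?_, fun hx => ⟨_, ⟨x, hx, rfl⟩, rfl⟩⟩
    rintro ⟨_, ⟨y, hy, rfl⟩, he⟩
    obtain rfl := hυi (hκi he)
    exact hy
  have hRmem : ∀ {x : (normalizerIn S Q)}, (x : Ω) ∈ R → (υ x : Ω) ∈ R' := fun {x} hx => hui.mem hx
  -- the maps of `N` are realized in `H`
  have hfwd : ∀ P f, IsMap N P f → ∃ g : H, ∀ x : (normalizerIn S Q), (x : Ω) ∈ P →
      ∃ h : f x ∈ (normalizerIn S Q), j ⟨f x, h⟩ = g * j x * g⁻¹ := by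
    intro P f hf
    obtain ⟨g₁, hg₁, hg₁e, hg₁Q⟩ := (isNormal_iff.1 hNn).2 P f hf
    obtain ⟨g₂, hg₂, hg₂e, hg₂R⟩ := (isNormal_iff.1 hRn).2 _ g₁ hg₁
    set U := P ⊔ Q ⊔ R with hU
    have hUT : U ≤ (normalizerIn S Q) := hg₂.le
    have huU := huT.mono hUT
    obtain ⟨v, hv, hvu⟩ := huU.exists_inv
    have hvm : ∀ w ∈ imgSub u U, v w ∈ U := fun w hw => by
      obtain ⟨y, hy, rfl⟩ := huU.mem_imgSub.1 hw
      rw [hvu y hy]; exact hy
    have hψ : IsMap F (imgSub u U) (u ∘ g₂ ∘ v) :=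
      (hv.comp (hK.isMap_le hg₂) hvm).comp huT fun w hw => hg₂.mem_S (hvm w hw)
    have hUS' : imgSub u U ≤ normalizerIn S R' := fun w hw => by
      obtain ⟨y, hy, rfl⟩ := huU.mem_imgSub.1 hw
      exact hum y (hTR (hUT hy))
    have hR'U : R' ≤ imgSub u U := fun w hw => by
      obtain ⟨y, hy, rfl⟩ := hui.exists_preimage hw
      exact huU.mem_imgSub.2 ⟨y, Subgroup.mem_sup_right hy, rfl⟩
    have hR'm : ∀ w ∈ R', (u ∘ g₂ ∘ v) w ∈ R' := fun w hw => by
      obtain ⟨y, hy, rfl⟩ := hui.exists_preimage hw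
      show u (g₂ (v (u y))) ∈ R'
      rw [hvu y (Subgroup.mem_sup_right hy)]
      refine hui.mem ?_
      rw [← SetLike.mem_coe, ← hg₂R]
      exact ⟨y, hy, rfl⟩
    have hmap' : IsMap N' (imgSub u U) (u ∘ g₂ ∘ v) := (hK'.map_iff _ _).2 ⟨hUS',
      fun w hw => hum _ (hTR (hg₂.mem_S (hvm w hw))), _, hψ.mono (sup_le le_rfl hR'U), fun _ _ => rfl,
      (onQ_top_iff hψ hR'U).2 ((hψ.mono hR'U).image_eq_of_mapsTo hR'm)⟩
    obtain ⟨l, hl⟩ := D.forward hmap' hR'U hR'm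
    have hconj : ∀ (y : (normalizerIn S Q)) (hy : (y : Ω) ∈ U), l * κ (υ y) * l⁻¹ = κ (υ ⟨g₂ y, hg₂.mem_S hy⟩) :=
      fun y hy => (hl (υ y) (huU.mem_imgSub.2 ⟨y, hy, rfl⟩)).trans (congrArg κ (Subtype.ext (by
        show u (g₂ (v (u y))) = u (g₂ y)
        rw [hvu y hy])))
    have hlH : l ∈ H := by
      refine mem_normalizer_of_maps ?_
      rintro _ ⟨_, ⟨y, hy, rfl⟩, rfl⟩
      rw [hconj y (Subgroup.mem_sup_left (Subgroup.mem_sup_right hy)), hQmem]
      show g₂ y ∈ Q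
      rw [hg₂e y (Subgroup.mem_sup_right hy), ← SetLike.mem_coe, ← hg₁Q]
      exact ⟨y, hy, rfl⟩
    refine ⟨⟨l, hlH⟩, fun x hx => ⟨hf.mem_S hx, Subtype.ext ?_⟩⟩
    show κ (υ ⟨f x, hf.mem_S hx⟩) = l * κ (υ x) * l⁻¹
    rw [hconj x (Subgroup.mem_sup_left (Subgroup.mem_sup_left hx))]
    refine congrArg (fun y => κ (υ y)) (Subtype.ext ?_)
    exact ((hg₂e x (Subgroup.mem_sup_left hx)).trans (hg₁e x hx)).symm
  -- conjugation in `H` gives maps of `N`
  have hbwd : ∀ (P : Subgroup Ω) (φ : P →* Ω), P ≤ (normalizerIn S Q) → (∀ x ∈ P, homFun φ x ∈ (normalizerIn S Q)) → ∀ g : H,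
      (∀ x : (normalizerIn S Q), (x : Ω) ∈ P → ∀ h : homFun φ x ∈ (normalizerIn S Q), j ⟨homFun φ x, h⟩ = g * j x * g⁻¹) →
        IsMap N P (homFun φ) := by
    intro P φ hP hφ g hg
    set l : D.Model := (g : D.Model)
    have hpre : ∀ y ∈ P ⊔ Q, ∃ (hy : y ∈ (normalizerIn S Q)) (y' : (normalizerIn S Q)), l * κ (υ ⟨y, hy⟩) * l⁻¹ = κ (υ y') := by
      let X : Subgroup Ω := (((κ.comp υ).range.comap ((MulAut.conj l).toMonoidHom.comp (κ.comp υ)))).map (normalizerIn S Q).subtype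
      have hX : P ⊔ Q ≤ X := by
        refine sup_le (fun y hy => ⟨⟨y, hP hy⟩, ⟨⟨homFun φ y, hφ y hy⟩, ?_⟩, rfl⟩)
          fun y hy => ⟨⟨y, hQT hy⟩, ?_, rfl⟩
        · exact congrArg Subtype.val (hg ⟨y, hP hy⟩ hy (hφ y hy))
        · obtain ⟨_, ⟨y', -, rfl⟩, he⟩ :=
            (Subgroup.mem_normalizer_iff.1 g.2 _).1 (hQmem.2 (show ((⟨y, hQT hy⟩ : (normalizerIn S Q)) : Ω) ∈ Q from hy))
          exact ⟨y', he⟩
      intro y hy
      obtain ⟨w, ⟨y', hy'⟩, rfl⟩ := hX hy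
      exact ⟨w.2, y', hy'.symm⟩
    have hPQT : P ⊔ Q ≤ (normalizerIn S Q) := sup_le hP hQT
    have huPQ := huT.mono hPQT
    let ψ : Ω → Ω := fun w => bwdFun hκi (l * homFun κ w * l⁻¹)
    have hψ : ∀ r r' : ↥(normalizerIn S R'), κ r' = l * κ r * l⁻¹ → ψ r = r' := fun r r' e => by
      show bwdFun hκi (l * homFun κ (r : Ω) * l⁻¹) = r'
      rw [homFun_coe, ← e, bwdFun_apply]
    have hψu : ∀ (y : Ω) (hy : y ∈ (normalizerIn S Q)) (y' : (normalizerIn S Q)), l * κ (υ ⟨y, hy⟩) * l⁻¹ = κ (υ y') → ψ (u y) = u y' :=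
      fun y hy y' he => hψ (υ ⟨y, hy⟩) (υ y') he.symm
    have hIS' : imgSub u (P ⊔ Q) ≤ normalizerIn S R' := fun w hw => by
      obtain ⟨y, hy, rfl⟩ := huPQ.mem_imgSub.1 hw
      exact hum y (hTR (hPQT hy))
    have hmap : IsMap N' (imgSub u (P ⊔ Q)) ψ := D.isMap_of_conj hIS' (m := l) fun w hw => by
      obtain ⟨y, hy, hyw⟩ := huPQ.mem_imgSub.1 hw
      obtain ⟨hyT, y', he⟩ := hpre y hy
      obtain rfl : w = υ ⟨y, hyT⟩ := Subtype.ext hyw.symm
      exact ⟨(hψu y hyT y' he).symm ▸ (υ y').2,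
        he.trans (congrArg κ (Subtype.ext (hψu y hyT y' he).symm))⟩
    obtain ⟨v, hv, hvu⟩ := huT.exists_inv
    have h1 : IsMap F (P ⊔ Q) (ψ ∘ u) :=
      huPQ.comp (hK'.isMap_le hmap) fun y hy => huPQ.mem_imgSub.2 ⟨y, hy, rfl⟩
    have hm : ∀ y ∈ P ⊔ Q, (ψ ∘ u) y ∈ imgSub u (normalizerIn S Q) := fun y hy => by
      obtain ⟨hyT, y', he⟩ := hpre y hy
      exact huT.mem_imgSub.2 ⟨y', y'.2, (hψu y hyT y' he).symm⟩
    have h2 : IsMap F (P ⊔ Q) (v ∘ ψ ∘ u) := h1.comp hv hm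
    have hval : ∀ (y : Ω) (hy : y ∈ (normalizerIn S Q)) (y' : (normalizerIn S Q)), l * κ (υ ⟨y, hy⟩) * l⁻¹ = κ (υ y') →
        (v ∘ ψ ∘ u) y = y' := fun y hy y' he => by
      show v (ψ (u y)) = y'
      rw [hψu y hy y' he, hvu y' y'.2]
    refine (hK.map_iff P _).2 ⟨hP, hφ, v ∘ ψ ∘ u, h2, fun y hy => ?_,
      (onQ_top_iff h2 le_sup_right).2 ((h2.mono le_sup_right).image_eq_of_mapsTo fun y hy => ?_)⟩
    · exact hval y (hP hy) ⟨homFun φ y, hφ y hy⟩ (congrArg Subtype.val (hg ⟨y, hP hy⟩ hy (hφ y hy))).symm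
    · obtain ⟨y', hy'q, he⟩ :=
        (Subgroup.mem_normalizer_iff.1 g.2 _).1 (hQmem.2 (show ((⟨y, hQT hy⟩ : (normalizerIn S Q)) : Ω) ∈ Q from hy))
      obtain ⟨y'', hy'', rfl⟩ := hy'q
      rw [hval y (hQT hy) y'' he.symm]
      exact hy''
  -- the image of `(normalizerIn S Q)` is a Sylow subgroup of `H`
  have hsyl : ∃ U : Sylow p H, (U : Subgroup H) = j.range := by
    obtain ⟨U, hU⟩ := (hTp.of_surjective _ j.rangeRestrict_surjective).exists_le_sylow
    refine ⟨U, (Subgroup.eq_of_le_of_card_ge hU ?_).symm⟩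
    rw [← Nat.card_congr (MonoidHom.ofInjective hji).toEquiv]
    obtain ⟨P₀, hP₀⟩ := D.exists_sylow_range
    obtain ⟨V, hV⟩ := (U.isPGroup'.map H.subtype).exists_le_sylow
    obtain ⟨m, rfl⟩ := MulAction.exists_smul_eq D.Model P₀ V
    have hin : ∀ x ∈ (U : Subgroup H), ∃ s : ↥(normalizerIn S R'), κ s = m⁻¹ * (x : D.Model) * m := fun x hx => by
      have h1 := hV ⟨x, hx, rfl⟩
      rw [Sylow.coe_subgroup_smul, Subgroup.mem_pointwise_smul_iff_inv_smul_mem, hP₀] at h1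
      obtain ⟨s, hs⟩ := h1
      exact ⟨s, hs.trans (by simp [MulAut.smul_def])⟩
    have hjU : ∀ y : (normalizerIn S Q), j y ∈ (U : Subgroup H) := fun y => hU ⟨y, rfl⟩
    let φ : Ω → Ω := fun w => bwdFun hκi (m⁻¹ * homFun κ w * m)
    have hφ : ∀ r r' : ↥(normalizerIn S R'), κ r' = m⁻¹ * κ r * m → φ r = r' := fun r r' e => by
      show bwdFun hκi (m⁻¹ * homFun κ (r : Ω) * m) = r'
      rw [homFun_coe, ← e, bwdFun_apply]
    have huQ := huT.mono hQT
    have hmap : IsMap N' Q₁ φ := by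
      refine D.isMap_of_conj (fun w hw => ?_) (m := m⁻¹) fun w hw => ?_
      · obtain ⟨y, hy, rfl⟩ := huQ.mem_imgSub.1 hw
        exact hum y (hTR (hQT hy))
      · obtain ⟨y, hy, hyw⟩ := huQ.mem_imgSub.1 hw
        obtain rfl : w = υ ⟨y, hQT hy⟩ := Subtype.ext hyw.symm
        obtain ⟨s, hs⟩ := hin _ (hjU ⟨y, hQT hy⟩)
        have he : κ s = m⁻¹ * κ (υ ⟨y, hQT hy⟩) * m := hs
        exact ⟨(hφ _ s he).symm ▸ s.2, by rw [inv_inv, ← he]; exact congrArg κ (Subtype.ext (hφ _ s he).symm)⟩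
    have hφu : IsMap F Q (φ ∘ u) := huQ.comp (hK'.isMap_le hmap) fun y hy => huQ.mem_imgSub.2 ⟨y, hy, rfl⟩
    set Q₂ := imgSub (φ ∘ u) Q with hQ₂
    haveI := finite_of_le hφu.imgSub_le
    haveI : Finite ↥(normalizerIn S Q₂) := finite_of_le (S := S) normalizerIn_le
    choose g hg using hin
    refine le_trans ?_ (hQn.2 Q₂ hφu.isIso.isConj)
    refine Nat.card_le_card_of_injective
      (fun x : (U : Subgroup H) => (⟨g x.1 x.2, normalizerIn_le (S := S) (g x.1 x.2).2,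
        mem_normalizer_of_maps fun w hw => ?_⟩ : ↥(normalizerIn S Q₂))) fun a b hab => ?_
    · obtain ⟨y, hy, rfl⟩ := hφu.mem_imgSub.1 hw
      obtain ⟨_, ⟨y', hy', rfl⟩, hy'e⟩ :=
        (Subgroup.mem_normalizer_iff.1 (x : H).2 _).1 (hQmem.2 (show ((⟨y, hQT hy⟩ : (normalizerIn S Q)) : Ω) ∈ Q from hy))
      refine hφu.mem_imgSub.2 ⟨y', hy', ?_⟩
      show φ (u y') = _
      obtain ⟨s, hs⟩ : ∃ s : ↥(normalizerIn S R'), κ s = m⁻¹ * κ (υ y') * m := ⟨_, hg _ (hjU y')⟩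
      obtain ⟨s₀, hs₀⟩ : ∃ s : ↥(normalizerIn S R'), κ s = m⁻¹ * κ (υ ⟨y, hQT hy⟩) * m := ⟨_, hg _ (hjU _)⟩
      rw [show φ (u y') = s from hφ (υ y') s hs, show (φ ∘ u) y = s₀ from hφ (υ ⟨y, hQT hy⟩) s₀ hs₀,
        show s = g x.1 x.2 * s₀ * (g x.1 x.2)⁻¹ from hκi (by
          rw [hs, hy'e, _root_.map_mul, _root_.map_mul, _root_.map_inv, hg x.1 x.2, hs₀]; group)]
      rfl
    · have h0 := congrArg Subtype.val hab
      have h1 : g a.1 a.2 = g b.1 b.2 := Subtype.ext h0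
      have h2 := congrArg κ h1
      rw [hg, hg] at h2
      exact Subtype.ext (Subtype.ext (mul_left_cancel (mul_right_cancel h2)))
  -- `H` has characteristic `p`
  have hqH : D.qSub ≤ H := by
    rintro _ ⟨q, rfl⟩
    obtain ⟨y, hy, hye⟩ := hui.exists_preimage q.2
    rw [show (D.iota.comp D.toS) q = κ (υ ⟨y, hRT hy⟩) from congrArg κ (Subtype.ext hye.symm)]
    exact hυH _
  have hchar : Subgroup.centralizer ((pCore p H : Subgroup H) : Set H) ≤ pCore p H := by
    have hq : D.qSub.subgroupOf H ≤ pCore p H := Cores.le_pCore (N := D.qSub.subgroupOf H)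
      ((D.isP.to_le D.le_S).of_surjective _ (MonoidHom.rangeRestrict_surjective (D.iota.comp D.toS))).comap_subtype
    intro c hc
    refine hq (show (c : D.Model) ∈ D.qSub from D.centralizer_qSub_le ?_)
    exact Subgroup.mem_centralizer_iff.2 fun b hb =>
      congrArg Subtype.val (Subgroup.mem_centralizer_iff.1 hc ⟨b, hqH hb⟩ (hq hb))
  have hHm : N.IsModel p H j :=
    ⟨inferInstance, H49.isRealizedBy_of_isMap hji hfwd hbwd, hsyl, hchar⟩
  obtain ⟨e, -⟩ := exists_equiv_models hTp (isConstrained_of_model hTp hHm) hG hHm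
  exact ⟨H.subtype.comp e.toMonoidHom, H.subtype_injective.comp e.injective⟩

/-- It is enough to test section-freeness at the centric radical subgroups. -/
theorem isSectionFree_of_centricRadical (hS : IsPGroup p S) (hF : F.IsSaturated p) {X : Type v} [Group X]
    (h : ∀ Q : Subgroup Ω, F.IsFullyNormalized Q → F.IsCentric Q → F.IsRadical p Q →
      ∀ N : FusionSystem (normalizerIn S Q), F.IsNormalizerSystem Q N →
        ∀ (L : Type u) [Group L] (ι : ↥(normalizerIn S Q) →* L), N.IsModel p L ι → ¬ Involves X L) :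
    F.IsSectionFree p X := by
  intro Q hQn hQc
  induction hn : Nat.card S - Nat.card Q using Nat.strong_induction_on generalizing Q with
  | _ n ih =>
  intro N hN L _ ι hL hinv
  haveI := finite_of_le hQc.1
  haveI : Finite ↥(normalizerIn S Q) := finite_of_le (S := S) normalizerIn_le
  by_cases hcore : modelCore p ι = Q
  · exact h Q hQn hQc (isRadical_of_core_eq hS hQc hN hL hcore) N hN L ι hL hinv
  · obtain ⟨Q', hlt, hQ'n, hQ'c, N', hN', L', _, κ, hL', e, he⟩ :=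
      exists_embedding_of_core_ne hS hF hQn hQc hN hL hcore
    refine ih _ ?_ Q' hQ'n hQ'c rfl N' hN' L' κ hL' (H49.involves_of_injective e he hinv)
    have := Subgroup.card_le_of_le hQ'c.1
    omega

end Cfsg.Agent.FusionSys
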