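import Cfsg.Agent.FusionSys.KSub
import Cfsg.Agent.FusionSys.Functor
import Cfsg.Agent.H89.Join

/-!
Induction over saturated subsystems along `O_p`: the cases are a centric core, a decomposition along a core
with automizer not a `p`-group, and a core with a `p`-group automizer, where every normalizer of a subgroup
properly containing the core is proper.
-/

set_option autoImplicit false

namespace Cfsg.Agent.FusionSys

open Cfsg Cfsg.FusionSystem Set

universe u

variable {Ω : Type u} [Group Ω] {S : Subgroup Ω} [Finite S] {p : ℕ} [Fact p.Prime]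

/-- Every map of `E` is a map of `E₁` followed by one of `E₂`. -/
def IsProductOf {T : Subgroup Ω} (E E₁ E₂ : FusionSystem T) : Prop :=
  (∀ P f, IsMap E₁ P f → IsMap E P f) ∧ (∀ P f, IsMap E₂ P f → IsMap E P f) ∧
    ∀ P f, IsMap E P f → ∃ h m, IsMap E₁ P h ∧ IsMap E₂ (imgSub h P) m ∧ ∀ x ∈ P, f x = m (h x)

theorem induction_on_core {F : FusionSystem S} (hS : IsPGroup p S)
    (Φ : ∀ T : Subgroup Ω, FusionSystem T → Subgroup Ω → Prop)
    (centric : ∀ (T : Subgroup Ω) (E : FusionSystem T), Inherits F p E → ∀ C, E.IsNormal C →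
      IsPGroup p (E.autGroup C) → E.IsCentric E.core → Φ T E C)
    (decomp : ∀ (T : Subgroup Ω) (E E₁ E₂ : FusionSystem T), Inherits F p E → Inherits F p E₁ →
      Inherits F p E₂ → IsProductOf E E₁ E₂ → ∀ C, E.IsNormal C → IsPGroup p (E.autGroup C) →
      E₁.IsNormal C → E₂.IsNormal C → Φ T E₁ C → Φ T E₂ C → Φ T E C)
    (large : ∀ (T : Subgroup Ω) (E : FusionSystem T), Inherits F p E → ∀ C, E.IsNormal C →
      IsPGroup p (E.autGroup C) → C < E.core → E.core < T → E.IsNormal E.core →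
      IsPGroup p (E.autGroup E.core) →
      (∀ T₁, E.core < T₁ → E.IsFullyNormalized T₁ → ∀ E' : FusionSystem (normalizerIn T T₁),
        IsKSys E (⊤ : Subgroup (MulAut T₁)) E' → Inherits F p E' ∧
          ∀ C', E.IsNormal C' → IsPGroup p (E.autGroup C') → Φ (normalizerIn T T₁) E' C') →
      Φ T E E.core → Φ T E C)
    (base : ∀ (T : Subgroup Ω) (E : FusionSystem T), Inherits F p E → E.core < T → E.IsNormal E.core →
      IsPGroup p (E.autGroup E.core) →
      (∀ T₁, E.core < T₁ → E.IsFullyNormalized T₁ → ∀ E' : FusionSystem (normalizerIn T T₁),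
        IsKSys E (⊤ : Subgroup (MulAut T₁)) E' → Inherits F p E' ∧
          ∀ C', E.IsNormal C' → IsPGroup p (E.autGroup C') → Φ (normalizerIn T T₁) E' C') →
      Φ T E E.core)
    (T : Subgroup Ω) (E : FusionSystem T) (hI : Inherits F p E) (C : Subgroup Ω) (hC : E.IsNormal C)
    (hCp : IsPGroup p (E.autGroup C)) : Φ T E C := by
  induction hn : (mapSet E).ncard using Nat.strong_induction_on generalizing T E C with
  | _ n ih =>
  have hT := hI.le
  haveI := finite_of_le hT
  have hTp : IsPGroup p T := hS.to_le hT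
  set D := E.core with hDdef
  have hDn : E.IsNormal D := Cfsg.Agent.H89.isNormal_core E
  haveI := finite_of_le hDn.1
  have hDN := le_normalizer_of_isNormal hDn
  have hRD : normalizerIn T D = T := le_antisymm normalizerIn_le fun x hx => ⟨hx, hDN hx⟩
  have hDfn : E.IsFullyNormalized D := ⟨hDn.1, fun R _ => by
    rw [hRD]; exact Subgroup.card_le_of_le normalizerIn_le⟩
  have hCD : C ≤ D := Cfsg.Agent.H89.le_core E hC
  by_cases hDc : E.IsCentric D
  · exact centric T E hI C hC hCp hDc
  have hDlt : D < T := lt_of_le_of_ne hDn.1 fun he => hDc (he.symm ▸ isCentric_S E)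
  -- proper subsystems
  have sub : ∀ (Q : Subgroup Ω) (K : Subgroup (MulAut Q)) (T' : Subgroup Ω) (E' : FusionSystem T'),
      IsKSys E K E' → E'.IsSaturated p → D ≤ Q → Q ≤ T' →
      (∃ P f, IsMap E P f ∧ ¬ IsMap E' P f) →
      (∀ R, Q ≤ R → E'.IsCentric R → E.IsCentric R) →
      Inherits F p E' ∧ ∀ C', E.IsNormal C' → IsPGroup p (E.autGroup C') →
        E'.IsNormal C' ∧ Φ T' E' C' := by
    intro Q K T' E' hK hsat hDQ hQT' hne hcen
    have hlt := hn ▸ ncard_mapSet_lt (fun P f => hK.isMap_le) hne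
    have hI' : Inherits F p E' := by
      refine ⟨hK.le.trans hT, hsat, fun P f hf => hI.sub P f (hK.isMap_le hf), fun R hR hRc => ?_⟩
      haveI := finite_of_le hK.le
      have hQR : Q ≤ R :=
        le_trans (Cfsg.Agent.H89.le_core E' (hK.isNormal_self hQT')) hR
      exact hI.centric R (hDQ.trans hQR) (hcen R hQR hRc)
    refine ⟨hI', fun C' hC' hC'p => ?_⟩
    have hC'D : C' ≤ D := Cfsg.Agent.H89.le_core E hC'
    have hC'n : E'.IsNormal C' := hK.isNormal hQT' (hC'D.trans hDQ) (stronglyClosed_of_isNormal hC')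
    exact ⟨hC'n, ih _ hlt T' E' hI' C' hC'n
      (hC'p.to_le (hK.autGroup_le (hC'D.trans (hDQ.trans hQT')))) rfl⟩
  by_cases hAD : E.autGroup D ≤ autInducedBy T D
  · have hDp : IsPGroup p (E.autGroup D) := (isPGroup_autInducedBy hTp D).to_le hAD
    have hrec : ∀ T₁, D < T₁ → E.IsFullyNormalized T₁ → ∀ E' : FusionSystem (normalizerIn T T₁),
        IsKSys E (⊤ : Subgroup (MulAut T₁)) E' → Inherits F p E' ∧
          ∀ C', E.IsNormal C' → IsPGroup p (E.autGroup C') → Φ (normalizerIn T T₁) E' C' := by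
      intro T₁ hDT₁ hT₁n E' hE'
      haveI := finite_of_le hT₁n.1
      have hsat : E'.IsSaturated p :=
        isSaturated_normalizer hTp hI.sat hT₁n (isKSys_normalizer_iff.2 hE')
      obtain ⟨h1, h2⟩ := sub T₁ _ _ E' hE' hsat hDT₁.le (le_normalizerIn_self hT₁n.1) (by
        by_contra hall
        push_neg at hall
        exact hDT₁.not_ge (Cfsg.Agent.H89.le_core E (isNormal_of_kSys hE' hT₁n.1 hall)))
        fun R hQR hR => isCentric_of_kSys_top hTp hI.sat hT₁n hE' hQR hR
      exact ⟨h1, fun C' a b => (h2 C' a b).2⟩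
    have hb : Φ T E D := base T E hI hDlt hDn hDp hrec
    rcases hCD.eq_or_lt with he | hlt
    · exact he ▸ hb
    · exact large T E hI C hC hCp hlt hDlt hDn hDp hrec hb
  · set U := D ⊔ centralizerIn T D with hU
    have hUT : U ≤ T := sup_le hDn.1 centralizerIn_le
    haveI := finite_of_le hUT
    have hUn : T ≤ Subgroup.normalizer (U : Set Ω) := fun x hx => mem_normalizer_of_maps fun y hy =>
      (isMap_conj E hUT hx).mapsTo_sup
        (fun a ha => Subgroup.mem_sup_left ((Subgroup.mem_normalizer_iff.1 (hDN hx) a).1 ha))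
        (fun a ha => Subgroup.mem_sup_right (mem_centralizerIn_image hDn.1
          (fun q hq => (Subgroup.mem_normalizer_iff.1 (hDN hx) q).1 hq)
          (isMap_conj E hUT hx) le_sup_left (Subgroup.mem_sup_right ha) ha)) hy
    have hUfn : E.IsFullyNormalized U := ⟨hUT, fun R _ => by
      rw [show normalizerIn T U = T from le_antisymm normalizerIn_le fun x hx => ⟨hx, hUn hx⟩]
      exact Subgroup.card_le_of_le normalizerIn_le⟩
    obtain ⟨E₁, hE₁⟩ := exists_isKSys (T := T) E hUT (⊤ : Subgroup (MulAut U)) fun x =>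
      ⟨fun hx => mem_kNorm_top.2 ⟨hx, hUn hx⟩, fun hx => kNorm_le hx⟩
    obtain ⟨hI₁, hΦ₁⟩ := sub U _ T E₁ hE₁ (by
        refine isSaturated_of_isKSys hTp hI.sat (receptive_of_isFullyNormalized hTp hI.sat hUfn) ?_ hE₁
        rw [inf_top_eq, inf_top_eq]
        exact ((isFullyAutomized_iff hTp).1 (isFullyAutomized_of_isFullyNormalized hTp hI.sat hUfn)).2)
      le_sup_left hUT (by
        by_contra hall
        push_neg at hall
        have hle : centralizerIn T D ≤ D :=
          le_sup_right.trans (Cfsg.Agent.H89.le_core E (isNormal_of_kSys hE₁ hUT hall))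
        exact hDc (isCentric_of_receptive (receptive_of_isFullyNormalized hTp hI.sat hDfn) hle))
      fun R hQR hR => isCentric_of_kSys_top hTp hI.sat hUfn hE₁ hQR hR
    obtain ⟨E₂, hE₂⟩ := exists_isKSys (T := T) E hDn.1 (autInducedBy T D) fun x =>
      ⟨fun hx => mem_kNorm.2 ⟨⟨hx, hDN hx⟩, mem_autInducedBy.2 ⟨x, hx, hDN hx, rfl⟩⟩,
        fun hx => kNorm_le hx⟩
    have hm₂ : ∀ (P : Subgroup Ω) (g : Ω → Ω), IsMap E P g → D ≤ P → (∀ q ∈ D, g q = q) →
        IsMap E₂ P g := fun P g hg hDP hfix => (hE₂.map_iff P g).2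
      ⟨hg.le, fun x hx => hg.mem_S hx, g, hg.mono (sup_le le_rfl hDP), fun _ _ => rfl,
        1, one_mem _, fun q hq => (hfix q hq).trans (autMap_one hq).symm⟩
    have hcen₂ : ∀ R, D ≤ R → E₂.IsCentric R → E.IsCentric R := by
      intro R hDR hR
      refine ⟨hR.1, fun R' hR' => ?_⟩
      obtain ⟨u, hu⟩ := isConj_iff.1 (isConj_symm hR')
      obtain ⟨h, m, hh, -, hm, hmD, hhD, he⟩ := exists_decomposition hTp hI.sat hDn hu.isMap
      have hDh : D ≤ imgSub h (R' ⊔ D) := fun q hq => by
        obtain ⟨q', hq', rfl⟩ :=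
          (isIso_of_mapsTo (hh.mono (le_sup_left.trans le_sup_right)) hhD).exists_preimage hq
        exact Subgroup.subset_closure ⟨q', Subgroup.mem_sup_right hq', rfl⟩
      have hDR' : D ≤ R' := fun q hq => by
        obtain ⟨g, hg⟩ := isConj_iff.1 hR'
        obtain ⟨q', hq', rfl⟩ := (isIso_of_mapsTo (hg.isMap.mono hDR)
          ((stronglyClosed_iff.1 (stronglyClosed_of_isNormal hDn)).2 D g le_rfl
            (hg.isMap.mono hDR))).exists_preimage hq
        exact hg.mem (hDR hq')
      rw [sup_of_le_left hDR'] at hDh hm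
      have hh' : IsMap E R' h := hh.mono le_sup_left
      have hmR : IsIso E₂ (imgSub h R') R m := by
        refine ⟨hm₂ _ m hm hDh hmD, ?_⟩
        rw [hh'.coe_imgSub, Set.image_image, ← hu.image_eq]
        exact Set.image_congr fun x hx => (he x hx).symm
      have hC' := hR.2 _ (isConj_symm hmR.isConj)
      intro c hc
      obtain ⟨hcT, hcc⟩ := FusionSys.mem_centralizerIn.1 hc
      have hcD : c ∈ centralizerIn T D :=
        FusionSys.mem_centralizerIn.2 ⟨hcT, fun y hy => hcc y (hDR' hy)⟩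
      have hcm : c ∈ R' ⊔ (D ⊔ centralizerIn T D) :=
        Subgroup.mem_sup_right (Subgroup.mem_sup_right hcD)
      have hhc : h c ∈ imgSub h R' := by
        refine hC' (FusionSys.mem_centralizerIn.2 ⟨hh.mem_S hcm, fun y hy => ?_⟩)
        obtain ⟨x, hx, rfl⟩ := hh'.mem_imgSub.1 hy
        rw [← hh.map_mul (Subgroup.mem_sup_left hx) hcm, hcc x hx,
          hh.map_mul hcm (Subgroup.mem_sup_left hx)]
      obtain ⟨x, hx, hxe⟩ := hh'.mem_imgSub.1 hhc
      exact hh.injOn (Subgroup.mem_sup_left hx) hcm hxe ▸ hx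
    obtain ⟨hI₂, hΦ₂⟩ := sub D _ T E₂ hE₂ (by
        refine isSaturated_of_isKSys hTp hI.sat (receptive_of_isFullyNormalized hTp hI.sat hDfn) ?_ hE₂
        rw [inf_idem, inf_of_le_right (autInducedBy_le_autGroup E hDn.1), Subgroup.relIndex_self]
        exact (Fact.out : p.Prime).not_dvd_one)
      le_rfl hDn.1 (by
        by_contra hall
        push_neg at hall
        refine hAD fun α hα => ?_
        obtain ⟨-, -, g, -, hge, κ, hκ, hκe⟩ :=
          (hE₂.map_iff D _).1 (hall D _ ((mem_autGroup_iff hDn.1).1 hα))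
        rwa [show α = κ from aut_ext fun q hq => (hge q hq).symm.trans (hκe q hq)])
      hcen₂
    refine decomp T E E₁ E₂ hI hI₁ hI₂ ⟨fun P f => hE₁.isMap_le, fun P f => hE₂.isMap_le,
      fun P f hf => ?_⟩ C hC hCp (hΦ₁ C hC hCp).1 (hΦ₂ C hC hCp).1 (hΦ₁ C hC hCp).2 (hΦ₂ C hC hCp).2
    obtain ⟨h, m, hh, hhU, hm, hmD, hhD, he⟩ := exists_decomposition hTp hI.sat hDn hf
    have hDh : D ≤ imgSub h (P ⊔ D) := fun q hq => by
      obtain ⟨q', hq', rfl⟩ :=
        (isIso_of_mapsTo (hh.mono (le_sup_left.trans le_sup_right)) hhD).exists_preimage hq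
      exact Subgroup.subset_closure ⟨q', Subgroup.mem_sup_right hq', rfl⟩
    have hhP : IsMap E₁ P h := (hE₁.map_iff _ _).2 ⟨hf.le,
      fun x hx => hh.mem_S (Subgroup.mem_sup_left hx), h, hh, fun _ _ => rfl,
      (onQ_top_iff hh le_sup_right).2 ((hh.mono le_sup_right).image_eq_of_mapsTo hhU)⟩
    exact ⟨h, m, hhP, (hm₂ _ m hm hDh hmD).mono (Subgroup.closure_mono
      (Set.image_mono (le_sup_left : P ≤ P ⊔ D))), he⟩

end Cfsg.Agent.FusionSys
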