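import Cfsg.Agent.FusionSys.Alperin
import Cfsg.Agent.FusionSys.KSub

/-!
Stancu's form of saturation: `Aut_S(S)` is Sylow and fully normalized subgroups are receptive.
-/

set_option autoImplicit false
set_option linter.style.haveILetI false

namespace Cfsg.Agent.FusionSys

open Cfsg Cfsg.FusionSystem Set

variable {Ω : Type*} [Group Ω] {S : Subgroup Ω} [Finite S] {p : ℕ} [Fact p.Prime] {F : FusionSystem S}

theorem isFullyAutomized_of_stancu (hS : IsPGroup p S) (hA : F.IsFullyAutomized p S)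
    (hR : ∀ P : Subgroup Ω, F.IsFullyNormalized P → F.IsReceptive P) {P : Subgroup Ω}
    (hP : F.IsFullyNormalized P) : F.IsFullyAutomized p P := by
  induction hn : Nat.card S - Nat.card P using Nat.strong_induction_on generalizing P with
  | _ n ih =>
  have hPS := hP.1
  rcases hPS.eq_or_lt with rfl | hlt
  · exact hA
  haveI := finite_of_le hPS
  haveI : Finite ↥(normalizerIn S P) := finite_of_le (S := S) normalizerIn_le
  haveI := finite_autGroup F hPS
  set A := F.autGroup P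
  set B : Subgroup A := (autInducedBy S P).subgroupOf A with hB
  obtain ⟨T, hT⟩ := ((isPGroup_autInducedBy hS P).comap_subtype : IsPGroup p B).exists_le_sylow
  refine ⟨hPS, T, (hT.antisymm ?_).symm⟩
  by_contra hne
  have hlt' : B.subgroupOf (T : Subgroup A) < ⊤ :=
    lt_of_le_of_ne le_top fun h => hne (Subgroup.subgroupOf_eq_top.1 h)
  haveI : Group.IsNilpotent (T : Subgroup A) := T.isPGroup'.isNilpotent
  obtain ⟨τ, hτn, hτB⟩ := SetLike.exists_of_lt (Group.normalizerCondition_of_isNilpotent _ hlt')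
  set α : MulAut P := ((τ : A) : MulAut P) with hα
  have hαA : α ∈ F.autGroup P := (τ : A).2
  have hiso := isIso_autMap hPS hαA
  obtain ⟨g₀, hg₀, hg₀e⟩ := receptive_extend (hR P hP) hiso (N := normalizerIn S P) fun x hx => by
    have hb : (⟨conjAut hx.2, conjAut_mem_autGroup F hPS hx⟩ : A) ∈ B :=
      mem_autInducedBy.2 ⟨x, hx.1, hx.2, rfl⟩
    refine inExt_autMap hx.1 hx.2 ?_
    exact (Subgroup.mem_normalizer_iff.1 hτn ⟨⟨_, conjAut_mem_autGroup F hPS hx⟩, hT hb⟩).1 hb
  have hPN : P ≤ normalizerIn S P := le_normalizerIn_self hPS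
  have hg : IsMap F (normalizerIn S P) g₀ := hg₀.mono le_sup_left
  obtain ⟨β, hβ, hβe⟩ := (isIso_of_mapsTo hg fun x hx =>
    hiso.mem_normalizerIn_of_extends hg hPN hg₀e hx hx.2).exists_aut
  haveI := finite_autGroup F (normalizerIn_le : normalizerIn S P ≤ S)
  have hres : ∀ (k : ℕ), ∀ x ∈ P, autMap (β ^ k) x = autMap (α ^ k) x := by
    intro k
    induction k with
    | zero => intro x hx; rw [pow_zero, pow_zero, autMap_one hx]; exact autMap_one (hPN hx)
    | succ k ihk =>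
      intro x hx
      rw [pow_succ, pow_succ, autMap_mul _ _ (hPN hx), autMap_mul _ _ hx,
        show autMap β x = autMap α x from (hβe x (hPN hx)).trans (hg₀e x hx), ihk _ (autMap_mem α hx)]
  obtain ⟨a, m, hm, hord⟩ := Nat.exists_eq_pow_mul_and_not_dvd
    (orderOf_pos (⟨β, hβ⟩ : F.autGroup (normalizerIn S P))).ne' p (Fact.out : p.Prime).ne_one
  -- the `p`-part of `β` is induced by an element of `S`
  obtain ⟨n₀, hn₀, hn₀e⟩ : ∃ n₀ ∈ normalizerIn S P, ∀ x ∈ normalizerIn S P,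
      autMap (β ^ m) x = n₀ * x * n₀⁻¹ := by
    obtain ⟨R, hNR, hRn⟩ := exists_isFullyNormalized F (normalizerIn_le : normalizerIn S P ≤ S)
    have hcard : Nat.card (normalizerIn S P) = Nat.card R := card_eq_of_isConj hNR
    have hRA : F.IsFullyAutomized p R := by
      refine ih _ ?_ hRn rfl
      have h1 := card_lt_card_normalizerIn hS hlt
      have h2 : Nat.card R ≤ Nat.card S := Subgroup.card_le_of_le hRn.1
      omega
    obtain ⟨ψ, hψ⟩ := isConj_iff.1 hNR
    haveI := finite_of_le hRn.1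
    haveI := finite_autGroup F hRn.1
    let δ : F.autGroup R := ⟨hψ.autEquiv (β ^ m), hψ.autEquiv_mem_autGroup (pow_mem hβ m)⟩
    have hδp : IsPGroup p (Subgroup.zpowers δ) := by
      have h : δ ^ p ^ a = 1 := Subtype.ext (by
        show hψ.autEquiv (β ^ m) ^ p ^ a = 1
        have h0 : β ^ (m * p ^ a) = 1 := by
          rw [mul_comm, ← hord]
          exact congrArg Subtype.val (pow_orderOf_eq_one (⟨β, hβ⟩ : F.autGroup (normalizerIn S P)))
        rw [← map_pow, ← pow_mul, h0, map_one])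
      rintro ⟨_, k, rfl⟩
      refine ⟨a, Subtype.ext ?_⟩
      show (δ ^ k) ^ p ^ a = 1
      rw [← zpow_natCast, ← zpow_mul, mul_comm, zpow_mul, zpow_natCast, h, one_zpow]
    obtain ⟨U, hU⟩ := hRA.2
    obtain ⟨V, hV⟩ := hδp.exists_le_sylow
    obtain ⟨γ, hγ⟩ := MulAction.exists_smul_eq (F.autGroup R) V U
    have hγδ : ((γ * δ * γ⁻¹ : F.autGroup R) : MulAut R) ∈ autInducedBy S R := by
      have hmem : γ * δ * γ⁻¹ ∈ (U : Subgroup (F.autGroup R)) := by
        rw [← hγ, Sylow.coe_subgroup_smul, Subgroup.mem_pointwise_smul_iff_inv_smul_mem]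
        simpa [MulAut.smul_def, mul_assoc] using hV (Subgroup.mem_zpowers δ)
      rw [hU] at hmem
      exact hmem
    obtain ⟨s, hsS, hsn, hs⟩ := mem_autInducedBy.1 hγδ
    have hh : IsIso F (normalizerIn S P) R (autMap (γ : MulAut R) ∘ ψ) :=
      hψ.comp (isIso_autMap hRn.1 γ.2)
    set h := autMap (γ : MulAut R) ∘ ψ with hhdef
    have hsh : ∀ x ∈ normalizerIn S P, s * h x * s⁻¹ = h (autMap (β ^ m) x) := by
      intro x hx
      have hψx := hψ.mem hx
      rw [← conjMap_apply, ← autMap_conjAut hsn (hh.mem hx), ← hs]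
      show autMap ((γ : MulAut R) * (δ : MulAut R) * (γ : MulAut R)⁻¹) (autMap (γ : MulAut R) (ψ x)) = _
      rw [autMap_mul _ _ (autMap_mem _ hψx), ← autMap_mul _ _ hψx, inv_mul_cancel, autMap_one hψx,
        autMap_mul _ _ hψx]
      show autMap (γ : MulAut R) (autMap (hψ.autEquiv (β ^ m)) (ψ x)) = _
      rw [hψ.autMap_autEquiv _ hx]
      rfl
    have hhP := hh.isMap.mono hPN
    haveI := finite_of_le hhP.imgSub_le
    haveI : Finite ↥(normalizerIn S (imgSub h P)) := finite_of_le (S := S) normalizerIn_le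
    have hRle : R ≤ normalizerIn S (imgSub h P) := fun y hy => by
      obtain ⟨x, hx, rfl⟩ := hh.exists_preimage hy
      exact hh.isMap.mem_normalizerIn hPN hx hx.2
    have heq : R = normalizerIn S (imgSub h P) :=
      Subgroup.eq_of_le_of_card_ge hRle (hcard ▸ hP.2 _ hhP.isIso.isConj)
    have hsR : s ∈ R := heq ▸ ⟨hsS, mem_normalizer_of_maps fun y hy => by
      obtain ⟨x, hx, rfl⟩ := hhP.mem_imgSub.1 hy
      rw [hsh x (hPN hx)]
      exact hhP.mem_imgSub.2 ⟨_, (hres m x hx) ▸ autMap_mem _ hx, rfl⟩⟩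
    obtain ⟨n₀, hn₀, rfl⟩ := hh.exists_preimage hsR
    refine ⟨n₀, hn₀, fun x hx => ?_⟩
    refine hh.isMap.injOn (autMap_mem _ hx) (mul_mem (mul_mem hn₀ hx) (inv_mem hn₀)) ?_
    rw [← hsh x hx]
    exact (hh.isMap.map_conj hn₀ hx).symm
  have hτm : (τ : A) ^ m ∈ B := mem_autInducedBy.2 ⟨n₀, hn₀.1, hn₀.2, by
    refine (aut_ext fun x hx => ?_)
    show autMap (α ^ m) x = _
    rw [← hres m x hx, hn₀e x (hPN hx), autMap_conjAut _ hx, conjMap_apply]⟩
  obtain ⟨j, hj⟩ := T.isPGroup' τ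
  have hτp : (τ : A) ^ p ^ j ∈ B := by
    rw [← SubgroupClass.coe_pow, hj]; exact one_mem B
  refine hτB (show (τ : A) ∈ B from ?_)
  have hco : Nat.Coprime m (p ^ j) :=
    (((Fact.out : p.Prime).coprime_iff_not_dvd.2 hm).symm).pow_right j
  have hb := Nat.gcd_eq_gcd_ab m (p ^ j)
  rw [hco.gcd_eq_one] at hb
  rw [← zpow_one (τ : A), show (1 : ℤ) = _ from hb, zpow_add, zpow_mul, zpow_mul, zpow_natCast, zpow_natCast]
  exact mul_mem (zpow_mem hτm _) (zpow_mem hτp _)

theorem isSaturated_iff_stancu (hS : IsPGroup p S) :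
    F.IsSaturated p ↔ (F.IsFullyAutomized p S ∧ ∀ P : Subgroup Ω, F.IsFullyNormalized P → F.IsReceptive P) := by
  refine ⟨fun hF => ⟨isFullyAutomized_of_isFullyNormalized hS hF (isFullyNormalized_S F),
    fun P hP => receptive_of_isFullyNormalized hS hF hP⟩, fun ⟨hA, hR⟩ P hP => ?_⟩
  obtain ⟨Q, hPQ, hQ⟩ := exists_isFullyNormalized F hP
  exact ⟨Q, hPQ, isFullyAutomized_of_stancu hS hA hR hQ, hR Q hQ⟩

end Cfsg.Agent.FusionSys
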