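import Cfsg.Agent.FusionSys.FreeFunctor
import Cfsg.Agent.FusionSys.ModelFacts
import Cfsg.Agent.H58.SFour

/-!
Systems whose automizers are `S₃`-free are four-free; the functors for `Qd(p)`, all primes.
-/

set_option autoImplicit false
set_option linter.style.haveILetI false
set_option linter.unusedSectionVars false

namespace Cfsg.Agent.FusionSys

open Cfsg Cfsg.FusionSystem Set

universe u

theorem sthree_pow : ∀ y : Equiv.Perm (Fin 3), y ^ 2 = 1 ∨ y ^ 3 = 1 := by decide +kernel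

theorem sthree_conj : ∀ x : Equiv.Perm (Fin 3), x ≠ 1 → x ^ 2 = 1 →
    ∃ g : Equiv.Perm (Fin 3), (g * x * g⁻¹ * x) ^ 2 ≠ 1 := by decide +kernel +kernel

theorem isSectionFree_sfour_of_sthree {Ω : Type u} [Group Ω] {S : Subgroup Ω} [Finite S]
    (hS : IsPGroup 2 S) {F : FusionSystem S}
    (h3 : ∀ U : Subgroup Ω, U ≤ S → ¬ Involves (Equiv.Perm (Fin 3)) ↥(F.autGroup U)) :
    F.IsSectionFree 2 (Equiv.Perm (Fin 4)) := by
  haveI : Fact (Nat.Prime 2) := ⟨Nat.prime_two⟩
  intro Q _ hQc N hN L _ ι hm hinv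
  haveI := hm.1
  haveI : Finite ↥(normalizerIn S Q) := finite_of_le (S := S) normalizerIn_le
  have hTp : IsPGroup 2 ↥(normalizerIn S Q) := hS.to_le normalizerIn_le
  let D : Setup N 2 := setupCore hTp (isConstrained_of_model hTp hm)
  have hDQ : D.Q = modelCore 2 ι := core_eq_modelCore hTp hm
  obtain ⟨π, -, -, -, hker⟩ := D.exists_projTo hm hDQ
  have hUS : D.Q ≤ S := D.le_S.trans normalizerIn_le
  have hAle : D.A ≤ F.autGroup D.Q := fun a ha => mem_autGroup_of_isMap
    ((isKSys_normalizer_iff.1 hN).isMap_le ((mem_autGroup_iff D.le_S).1 ha))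
  let π' : L →* ↥(F.autGroup D.Q) := (Subgroup.inclusion hAle).comp π
  obtain ⟨M, φ, hφ⟩ : Thompson.HasSection (Equiv.Perm (Fin 3)) L := by
    obtain ⟨M, φ, hφ⟩ := Thompson.hasSection_iff.2 hinv
    exact ⟨M, H58.SFour.toS3.comp φ, H58.SFour.toS3_surjective.comp hφ⟩
  let θ : M →* ↥(F.autGroup D.Q) := π'.comp M.subtype
  have hkerp : ∀ m : M, θ m = 1 → ∃ k : ℕ, m ^ 2 ^ k = 1 := by
    intro m hm1
    have h1 : π (m : L) = 1 := Subgroup.inclusion_injective hAle (hm1.trans (map_one _).symm)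
    obtain ⟨z, hz⟩ := hker _ h1
    obtain ⟨k, hk⟩ := hTp (D.toS (z : D.Q))
    exact ⟨k, Subtype.ext (by
      rw [SubmonoidClass.coe_pow, hz, ← map_pow, hk, map_one]; rfl)⟩
  have hle : θ.ker ≤ φ.ker := by
    intro m hm1
    have two : ∀ n : M, θ n = 1 → φ n ^ 2 = 1 := by
      intro n hn
      obtain ⟨k, hk⟩ := hkerp n hn
      rcases sthree_pow (φ n) with h | h
      · exact h
      · have h2 : φ n ^ 2 ^ k = 1 := by rw [← map_pow, hk, map_one]
        have : φ n = 1 := by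
          rw [← orderOf_eq_one_iff]
          exact Nat.eq_one_of_dvd_coprimes (Nat.Coprime.pow_left k (by norm_num : Nat.Coprime 2 3))
            (orderOf_dvd_of_pow_eq_one h2) (orderOf_dvd_of_pow_eq_one h)
        rw [this, one_pow]
    by_contra hne
    obtain ⟨g, hg⟩ := sthree_conj (φ m) hne (two m hm1)
    obtain ⟨g', rfl⟩ := hφ g
    refine hg ?_
    rw [← map_inv, ← map_mul, ← map_mul, ← map_mul]
    refine two _ ?_
    have hm2 : θ m = 1 := hm1
    simp [hm2]
  refine h3 D.Q hUS (Thompson.hasSection_iff.1 ⟨θ.range, (QuotientGroup.lift θ.ker φ hle).comp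
    (QuotientGroup.quotientKerEquivRange θ).symm.toMonoidHom, ?_⟩)
  intro y
  obtain ⟨m, rfl⟩ := hφ y
  refine ⟨QuotientGroup.quotientKerEquivRange θ (QuotientGroup.mk m), ?_⟩
  show QuotientGroup.lift θ.ker φ hle ((QuotientGroup.quotientKerEquivRange θ).symm _) = _
  rw [MulEquiv.symm_apply_apply]
  rfl

/-- The functor for `Qd(p)`, every prime, given the two-group functor. -/
theorem exists_freeFun_qd (p : ℕ) [Fact p.Prime] (h2 : HasTwoFunctor.{u}) :
    ∃ K : ∀ (Q : Type u) [Group Q], Subgroup Q, IsFreeFun p ↥(Cfsg.qd p) K := by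
  by_cases hp : p = 2
  · subst hp
    obtain ⟨K, hK⟩ := exists_freeFun_two h2
    obtain ⟨e⟩ := Thompson.FourFree.qd_two_equiv
    exact ⟨K, hK.map, hK.ne_bot, hK.cent, fun L _ _ P hc hf =>
      hK.normal L P hc fun hi => hf (involves_congr e.symm hi)⟩
  · exact exists_freeFun_odd hp

end Cfsg.Agent.FusionSys
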